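import Mathlib
import Cfsg.Agent.Coprime.Basic
import Cfsg.Agent.Core.Frattini

/-!
# A coprime action on a p-group (p odd) fixing all elements of order p is trivial
-/

set_option autoImplicit false
set_option linter.all false

namespace Cfsg.Agent.LocalStructure

open Subgroup
open scoped commutatorElement

variable {G : Type*} [Group G]

theorem le_normalizer_map_characteristic {A Q : Subgroup G} (hA : A ≤ normalizer (Q : Set G))
    (C : Subgroup Q) [hC : C.Characteristic] :
    A ≤ normalizer ((C.map Q.subtype : Subgroup G) : Set G) := by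
  have key : ∀ a ∈ A, ∀ x ∈ C.map Q.subtype, a * x * a⁻¹ ∈ C.map Q.subtype := by
    rintro a ha _ ⟨x, hx, rfl⟩
    let φ : MulAut Q := Q.normalizerMonoidHom ⟨a, hA ha⟩
    refine ⟨φ x, ?_, rfl⟩
    have := Subgroup.characteristic_iff_map_eq.mp hC φ
    rw [SetLike.mem_coe, ← this]
    exact ⟨x, hx, rfl⟩
  intro a ha
  rw [mem_normalizer_iff]
  intro x
  refine ⟨key a ha x, fun hx => ?_⟩
  have := key a⁻¹ (A.inv_mem ha) _ hx
  simpa [mul_assoc] using this

/-- For `p` odd, a coprime action on a `p`-group fixing all elements of order `p` is trivial. -/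
theorem le_centralizer_of_fixes_omega [Finite G] {p : ℕ} [hp : Fact p.Prime] (hodd : p ≠ 2)
    {A Q : Subgroup G} (hQ : IsPGroup p Q) (hAQ : A ≤ normalizer (Q : Set G))
    (hcop : (Nat.card A).Coprime p) (hΩ : ∀ v ∈ Q, v ^ p = 1 → ∀ a ∈ A, a * v = v * a) :
    A ≤ centralizer (Q : Set G) := by
  induction Q using WellFoundedLT.induction with
  | _ Q ih =>
  by_cases hne : Q = ⊥
  · subst hne
    intro x _
    simp [mem_centralizer_iff]
  obtain ⟨n, hn⟩ := IsPGroup.iff_card.mp hQ
  have hcopQ : (Nat.card A).Coprime (Nat.card Q) := by rw [hn]; exact hcop.pow_right n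
  have hsolv : Group.IsSolvable Q := by have := hQ.isNilpotent; infer_instance
  set F : Subgroup G := (frattini Q).map Q.subtype with hF
  have hFQ : F ≤ Q := map_subtype_le _
  have hFlt : F < Q := by
    refine lt_of_le_of_ne hFQ fun e => ?_
    have : Nontrivial Q := (nontrivial_iff_ne_bot Q).mpr hne
    have htop : frattini Q = ⊤ := by
      apply Subgroup.map_injective Q.subtype_injective
      rw [← hF, e, ← MonoidHom.range_eq_map, range_subtype]
    obtain ⟨M, hM, -⟩ := (eq_top_or_exists_le_coatom (⊥ : Subgroup Q)).resolve_left bot_ne_top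
    exact hM.1 (top_le_iff.mp (htop.symm.le.trans (frattini_le_coatom hM)))
  have hAF : A ≤ centralizer (F : Set G) :=
    ih F hFlt (hQ.to_le hFQ) (le_normalizer_map_characteristic hAQ _)
      (fun v hv => hΩ v (hFQ hv))
  have hWQ := Coprime.commutator_le_of_le_normalizer hAQ
  by_cases hWlt : ⁅Q, A⁆ < Q
  · have hW := ih ⁅Q, A⁆ hWlt (hQ.to_le hWQ) (normalizer_commutator_ge_right Q A)
      (fun v hv => hΩ v (hWQ hv))
    have : ⁅⁅Q, A⁆, A⁆ = ⊥ :=
      commutator_eq_bot_iff_le_centralizer.mpr (le_centralizer_iff.mp hW)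
    rw [Coprime.commutator_commutator_eq hAQ hcopQ (Or.inr hsolv)] at this
    exact le_centralizer_iff.mp (commutator_eq_bot_iff_le_centralizer.mp this)
  have hQA : ⁅Q, A⁆ = Q := eq_of_le_of_not_lt hWQ hWlt
  have hQF : Q ≤ normalizer (F : Set G) := le_normalizer_map_characteristic le_normalizer _
  have h1 : ⁅⁅F, Q⁆, A⁆ = ⊥ :=
    commutator_eq_bot_iff_le_centralizer.mpr
      ((Coprime.commutator_le_of_le_normalizer hQF).trans (le_centralizer_iff.mp hAF))
  have h2 : ⁅⁅A, F⁆, Q⁆ = ⊥ := by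
    rw [commutator_eq_bot_iff_le_centralizer.mpr hAF, commutator_bot_left]
  have hFZ : F ≤ centralizer (Q : Set G) := by
    have h3 := commutator_commutator_eq_bot_of_rotate h2 h1
    rw [commutator_comm] at h3
    have h4 : ⁅F, ⁅Q, A⁆⁆ = ⊥ := h3
    rw [hQA] at h4
    exact commutator_eq_bot_iff_le_centralizer.mp h4
  have hpow : ∀ x ∈ Q, x ^ p ∈ F := fun x hx =>
    ⟨⟨x, hx⟩ ^ p, (by
      have := Core.pow_mem_frattini hQ ⟨x, hx⟩
      exact this), rfl⟩
  have hcomm : ∀ x ∈ Q, ∀ y ∈ Q, ⁅x, y⁆ ∈ F := fun x hx y hy =>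
    ⟨⁅(⟨x, hx⟩ : Q), ⟨y, hy⟩⁆, (by
      have : Group.IsNilpotent Q := hQ.isNilpotent
      exact Core.commutator_le_frattini (Subgroup.commutator_mem_commutator (mem_top _) (mem_top _))), rfl⟩
  intro a ha
  rw [mem_centralizer_iff]
  intro x hx
  set z := a * x * a⁻¹ * x⁻¹ with hz
  have haxQ : a * x * a⁻¹ ∈ Q := (mem_normalizer_iff.mp (hAQ ha) x).mp hx
  have hzQ : z ∈ Q := Q.mul_mem haxQ (Q.inv_mem hx)
  have hax : a * x * a⁻¹ = z * x := by rw [hz]; group
  set c := ⁅x, z⁆ with hc
  have hcc : ∀ q ∈ Q, Commute c q := fun q hq =>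
    (mem_centralizer_iff.mp (hFZ (hcomm x hx z hzQ)) q hq).symm
  have hxz : x * z = c * (z * x) := by rw [hc, commutatorElement_def]; group
  have hxpz : ∀ m : ℕ, x ^ m * z = c ^ m * (z * x ^ m) := by
    intro m
    induction m with
    | zero => simp
    | succ m ihm =>
      calc x ^ (m + 1) * z = x * (x ^ m * z) := by rw [pow_succ']; group
        _ = x * c ^ m * (z * x ^ m) := by rw [ihm]; group
        _ = c ^ m * (x * z) * x ^ m := by rw [← ((hcc x hx).pow_left m).eq]; group
        _ = c ^ m * c * (z * (x * x ^ m)) := by rw [hxz]; group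
        _ = _ := by rw [← pow_succ, ← pow_succ']
  have hzxp : ∀ m : ℕ, (z * x) ^ m = c ^ (m.choose 2) * (z ^ m * x ^ m) := by
    intro m
    induction m with
    | zero => simp
    | succ m ihm =>
      calc (z * x) ^ (m + 1) = c ^ (m.choose 2) * (z ^ m * (x ^ m * z) * x) := by
            rw [pow_succ, ihm]; group
        _ = c ^ (m.choose 2) * ((z ^ m * c ^ m) * (z * x ^ m) * x) := by rw [hxpz]; group
        _ = c ^ (m.choose 2) * c ^ m * ((z ^ m * z) * (x ^ m * x)) := by
            rw [← ((hcc z hzQ).pow_pow m m).eq]; group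
        _ = _ := by
            rw [← pow_add, ← pow_succ, ← pow_succ, Nat.choose_succ_succ, Nat.choose_one_right,
              add_comm]
  have hcp : c ^ p = 1 := by
    have h5 : z * x ^ p = x ^ p * z := mem_centralizer_iff.mp (hFZ (hpow x hx)) z hzQ
    have h6 := hxpz p
    rw [h5] at h6
    calc c ^ p = c ^ p * (x ^ p * z) * (x ^ p * z)⁻¹ := by group
      _ = 1 := by rw [← h6]; group
  have hzp : z ^ p = 1 := by
    have h5 : (z * x) ^ p = x ^ p := by
      rw [← hax, conj_pow, mem_centralizer_iff.mp (le_centralizer_iff.mp hAF (hpow x hx)) a ha]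
      group
    have hdvd : p ∣ p.choose 2 :=
      hp.out.dvd_choose_self two_ne_zero (lt_of_le_of_ne hp.out.two_le (Ne.symm hodd))
    obtain ⟨k, hk⟩ := hdvd
    rw [hzxp, hk, pow_mul, hcp, one_pow, one_mul] at h5
    calc z ^ p = z ^ p * x ^ p * (x ^ p)⁻¹ := by group
      _ = 1 := by rw [h5]; group
  have hza : a * z = z * a := hΩ z hzQ hzp a ha
  have hiter : ∀ m : ℕ, a ^ m * x * (a ^ m)⁻¹ = z ^ m * x := by
    intro m
    induction m with
    | zero => simp
    | succ m ihm =>
      calc a ^ (m + 1) * x * (a ^ (m + 1))⁻¹ = a * (a ^ m * x * (a ^ m)⁻¹) * a⁻¹ := by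
            rw [pow_succ']; group
        _ = (a * z ^ m) * x * a⁻¹ := by rw [ihm]; group
        _ = z ^ m * (a * x * a⁻¹) := by rw [((show Commute a z from hza).pow_right m).eq]; group
        _ = _ := by rw [hax, pow_succ]; group
  have hzA : z ^ Nat.card A = 1 := by
    have h5 := hiter (Nat.card A)
    have h6 : a ^ Nat.card A = 1 :=
      orderOf_dvd_iff_pow_eq_one.mp (A.orderOf_dvd_natCard ha)
    rw [h6] at h5
    simpa using h5.symm
  have hz1 : z = 1 := by
    have := pow_gcd_eq_one.mpr ⟨hzA, hzp⟩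
    rwa [Nat.Coprime.gcd_eq_one hcop, pow_one] at this
  rw [hz1, one_mul] at hax
  exact (mul_inv_eq_iff_eq_mul.mp hax).symm

end Cfsg.Agent.LocalStructure
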