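import Cfsg.Agent.LocalStructure.SL2FPFThree
import Cfsg.Agent.SL2Class.Basic

/-!
A 2-group extended by SL(2, 2^n) with an element of order 3 acting without fixed points is elementary
abelian, and a sum of natural modules.
-/

set_option autoImplicit false
set_option linter.all false

namespace Cfsg.Agent.LocalStructure.SL2FPFThreeGroup

open Matrix Cfsg.Agent.Chev.SL2Data Cfsg.Agent.LocalStructure.SL2QuadModule
open Cfsg.Agent.LocalStructure.SL2FPFThree Cfsg.Agent.SL2Class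
open scoped IsMulCommutative

universe u v

variable {K : Type v} [Field K]

local notation "SG" => Matrix.SpecialLinearGroup (Fin 2) K
local notation "N" => (Fin 2 → K)
local notation:1024 "↥ₘ" A:1024 => ((A : Matrix.SpecialLinearGroup (Fin 2) K) : Matrix (Fin 2) (Fin 2) K)

section Act

variable {G : Type u} [Group G] (Q : Subgroup G) [Q.Normal] (e : G ⧸ Q ≃* Matrix.SpecialLinearGroup (Fin 2) K)
  (A : Subgroup G) [A.Normal] [IsMulCommutative A] (hA : ∀ q ∈ Q, ∀ a ∈ A, q * a = a * q)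

/-- Conjugation as a module for the quotient. -/
noncomputable def act : SG →* AddMonoid.End (Additive A) :=
  let c : G ⧸ Q →* MulAut A := QuotientGroup.lift Q (MulAut.conjNormal : G →* MulAut A) (fun q hq =>
    MonoidHom.mem_ker.2 (MulEquiv.ext fun a => Subtype.ext (by
      rw [MulAut.conjNormal_apply, hA q hq a a.2, mul_inv_cancel_right]; rfl)))
  { toFun := fun g => (c (e.symm g)).toMonoidHom.toAdditive
    map_one' := AddMonoidHom.ext fun v => by
      show Additive.ofMul (c (e.symm 1) (Additive.toMul v)) = v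
      rw [map_one, map_one]; rfl
    map_mul' := fun g h => AddMonoidHom.ext fun v => by
      show Additive.ofMul (c (e.symm (g * h)) (Additive.toMul v)) =
        Additive.ofMul (c (e.symm g) (c (e.symm h) (Additive.toMul v)))
      rw [map_mul, map_mul]; rfl }

theorem act_coe (g : G) (m : Additive A) :
    ((Additive.toMul (act Q e A hA (e (QuotientGroup.mk g)) m) : A) : G) = g * ((Additive.toMul m : A) : G) * g⁻¹ := by
  show (((QuotientGroup.lift Q (MulAut.conjNormal : G →* MulAut A) _) (e.symm (e (QuotientGroup.mk g))) (Additive.toMul m) : A) : G) = _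
  rw [MulEquiv.symm_apply_apply, QuotientGroup.lift_mk, MulAut.conjNormal_apply]

variable [CharP K 2] [Fintype K]

theorem act_rel {x : G} (hxQ : x ∉ Q) (hx3 : x ^ 3 ∈ Q) (hfx : ∀ a ∈ A, x * a * x⁻¹ = a → a = 1) :
    ∀ t : K, t ≠ 0 → ∀ m : Additive A, act Q e A hA (upper t * lower t⁻¹) m +
      act Q e A hA (lower t⁻¹ * upper t) m + m = 0 := by
  classical
  intro t ht m
  set ρ := act Q e A hA
  have hmul : ∀ (g h : SG) (m : Additive A), ρ (g * h) m = ρ g (ρ h m) := fun g h m => by rw [map_mul]; rfl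
  have hone : ∀ m : Additive A, ρ 1 m = m := fun m => by rw [map_one]; rfl
  set xb : SG := e (QuotientGroup.mk x) with hxb
  have hxb1 : xb ≠ 1 := fun h => hxQ ((QuotientGroup.eq_one_iff x).1 (e.injective (h.trans (map_one e).symm)))
  have hxb3 : xb ^ 3 = 1 := by
    rw [hxb, ← map_pow, ← QuotientGroup.mk_pow, (QuotientGroup.eq_one_iff _).2 hx3, map_one]
  have hns : NonScalar xb := by
    by_contra h
    rcases scalar_cases h with h' | h'
    · exact hxb1 (Subtype.ext h')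
    · exact hxb1 (Subtype.ext (by rw [h']; ext i j; simp [CharTwo.neg_eq]))
  have htr : tr xb = 1 := by
    have h1 : lin xb 0 1 * lin xb 0 1 * lin xb 0 1 = lin xb 1 0 := by
      rw [lin_self, lin_one, ← Matrix.SpecialLinearGroup.coe_mul, ← Matrix.SpecialLinearGroup.coe_mul,
        ← pow_three' xb, hxb3]
      rfl
    rw [lin_mul, lin_mul] at h1
    have h2 := (lin_ext hns h1).1
    linear_combination -h2 - CharTwo.two_eq_zero (R := K) * 1
  set g : SG := upper t * lower t⁻¹ with hg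
  have hgns : NonScalar g := fun h => ht (by
    have := h.1
    simp only [hg, Matrix.SpecialLinearGroup.coe_mul] at this
    simpa [upper, lower, Matrix.SpecialLinearGroup.coe_mul, Matrix.mul_apply, Fin.sum_univ_two] using this)
  have hgtr : tr g = 1 := by
    simp only [tr, hg, Matrix.SpecialLinearGroup.coe_mul]
    simp [upper, lower, Matrix.SpecialLinearGroup.coe_mul, Matrix.mul_apply, Fin.sum_univ_two, ht, CharTwo.add_self_eq_zero]
  obtain ⟨h, hh⟩ := isConj_iff.1 (isConj_of_tr hns hgns (htr.trans hgtr.symm) (Or.inr CharTwo.two_eq_zero))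
  have hg3 : g ^ 3 = 1 := by rw [← hh, conj_pow, hxb3, mul_one, mul_inv_cancel]
  have hgg : g * g = lower t⁻¹ * upper t := by
    have h1 : g * g = g⁻¹ := eq_inv_of_mul_eq_one_left (by rw [← hg3, pow_three' g])
    rw [h1]
    refine inv_eq_of_mul_eq_one_right ?_
    apply Subtype.ext
    simp only [hg, Matrix.SpecialLinearGroup.coe_mul]
    ext i j
    fin_cases i <;> fin_cases j <;>
      simp [upper, lower, Matrix.mul_apply, Fin.sum_univ_two, CharTwo.add_self_eq_zero, ht] <;>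
      ring_nf <;> simp [CharTwo.two_eq_zero, ht]
  have hfix : ∀ m, ρ g m = m → m = 0 := by
    intro m hm
    have h1 : ρ xb (ρ h⁻¹ m) = ρ h⁻¹ m := by
      conv_rhs => rw [← hm, ← hh, ← hmul]
      rw [← hmul]
      congr 2
      group
    have h2 : ρ h⁻¹ m = 0 := by
      have h3 := congrArg (fun z : Additive A => ((Additive.toMul z : A) : G)) h1
      simp only [hxb, ρ, act_coe] at h3
      exact Additive.toMul.injective (Subtype.ext (hfx _ (Additive.toMul (ρ h⁻¹ m) : A).2 h3))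
    rw [← hone m, ← mul_inv_cancel h, hmul, h2, map_zero]
  rw [← hgg]
  refine hfix _ ?_
  rw [map_add, map_add, ← hmul, ← hmul, show g * (g * g) = 1 by rw [← hg3, pow_three g], hone]
  abel

end Act

variable [Fintype K] [CharP K 2]

theorem exists_mulVec_eq (ξ : N) (hξ : ξ ≠ 0) : ∃ g : SG, ↥ₘ g *ᵥ ![1, 0] = ξ := by
  by_cases h0 : ξ 0 = 0
  · have h1 : ξ 1 ≠ 0 := fun h1 => hξ (funext fun i => by fin_cases i <;> assumption)
    refine ⟨⟨!![ξ 0, -(ξ 1)⁻¹; ξ 1, 0], by simp [det_fin_two, h1]⟩, funext fun i => ?_⟩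
    fin_cases i <;> simp [Matrix.mulVec, dotProduct]
  · refine ⟨⟨!![ξ 0, 0; ξ 1, (ξ 0)⁻¹], by simp [det_fin_two, h0]⟩, funext fun i => ?_⟩
    fin_cases i <;> simp [Matrix.mulVec, dotProduct]

theorem equivariant_injective (T : N →+ N) (hT : ∀ (g : SG) ξ, T (↥ₘ g *ᵥ ξ) = ↥ₘ g *ᵥ T ξ) (hne : T ≠ 0) :
    Function.Injective T := by
  refine (injective_iff_map_eq_zero T).2 fun ξ h => ?_
  by_contra hξ
  refine hne (AddMonoidHom.ext fun η => ?_)
  rw [AddMonoidHom.zero_apply]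
  by_cases hη : η = 0
  · rw [hη, map_zero]
  obtain ⟨g, rfl⟩ := exists_mulVec_eq ξ hξ
  obtain ⟨g', rfl⟩ := exists_mulVec_eq η hη
  have h0 : T ![1, 0] = 0 := by
    have h1 : T (↥ₘ g⁻¹ *ᵥ (↥ₘ g *ᵥ ![1, 0])) = 0 := by rw [hT, h, Matrix.mulVec_zero]
    rwa [Matrix.mulVec_mulVec, ← Matrix.SpecialLinearGroup.coe_mul, inv_mul_cancel,
      Matrix.SpecialLinearGroup.coe_one, Matrix.one_mulVec] at h1
  rw [hT, h0, Matrix.mulVec_zero]

/-- There is no non-zero equivariant pairing of two natural modules into a natural module. -/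
theorem pairing_zero (hK : 4 ≤ Fintype.card K) (β : N →+ N →+ N)
    (hβ : ∀ (g : SG) ξ η, β (↥ₘ g *ᵥ ξ) (↥ₘ g *ᵥ η) = ↥ₘ g *ᵥ β ξ η) : β = 0 := by
  classical
  have hU : ∀ t (ξ : N), ↥ₘ(upper t) *ᵥ ξ = ![ξ 0 + t * ξ 1, ξ 1] := fun t ξ => by
    funext i; fin_cases i <;> simp [upper, Matrix.mulVec, dotProduct]
  have hW : ∀ (ξ : N), ↥ₘ(weyl) *ᵥ ξ = ![ξ 1, ξ 0] := fun ξ => by
    funext i; fin_cases i <;> simp [weyl, Matrix.mulVec, dotProduct, CharTwo.neg_eq]
  have hsplit : ∀ ξ : N, ξ = ![ξ 0, 0] + ![0, ξ 1] := fun ξ => by funext i; fin_cases i <;> simp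
  have hD : ∀ (s : K) (hs : s ≠ 0) (a : K), ↥ₘ(mono s hs * weyl) *ᵥ ![a, 0] = ![s * a, 0] := fun s hs a => by
    rw [Matrix.SpecialLinearGroup.coe_mul]
    funext i; fin_cases i <;> simp [mono, weyl, Matrix.mulVec, dotProduct, Matrix.SpecialLinearGroup.coe_mul, Matrix.mul_apply, CharTwo.neg_eq]
  set f : K → K → K := fun a b => β ![a, 0] ![b, 0] 0 with hf
  have hf1 : ∀ a b, β ![a, 0] ![b, 0] 1 = 0 := fun a b => by
    have h := congrFun (hβ (upper 1) ![a, 0] ![b, 0]) 0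
    simp [hU] at h
    simpa [Matrix.vecHead, Matrix.vecTail] using h
  have hM : ∀ a b t, f a (t * b) = t * β ![a, 0] ![0, b] 1 := fun a b t => by
    have h := congrFun (hβ (upper t) ![a, 0] ![0, b]) 0
    rw [show ↥ₘ(upper t) *ᵥ ![a, 0] = ![a, 0] by rw [hU]; simp,
      show ↥ₘ(upper t) *ᵥ ![0, b] = ![t * b, 0] + ![0, b] by rw [hU]; funext i; fin_cases i <;> simp,
      map_add, Pi.add_apply, hU] at h
    simp at h
    simp [hf, Matrix.vecHead, Matrix.vecTail] at h ⊢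
    linear_combination h
  have hM' : ∀ a b t, f (t * a) b = t * β ![0, a] ![b, 0] 1 := fun a b t => by
    have h := congrFun (hβ (upper t) ![0, a] ![b, 0]) 0
    rw [show ↥ₘ(upper t) *ᵥ ![b, 0] = ![b, 0] by rw [hU]; simp,
      show ↥ₘ(upper t) *ᵥ ![0, a] = ![t * a, 0] + ![0, a] by rw [hU]; funext i; fin_cases i <;> simp,
      map_add, AddMonoidHom.add_apply, Pi.add_apply, hU] at h
    simp at h
    simp [hf, Matrix.vecHead, Matrix.vecTail] at h ⊢
    linear_combination h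
  have hlin1 : ∀ a b, f a b = b * f a 1 := fun a b => by
    have h1 := hM a 1 b; have h2 := hM a 1 1
    rw [mul_one] at h1
    rw [one_mul, one_mul] at h2
    rw [h1, h2]
  have hlin2 : ∀ a b, f a b = a * f 1 b := fun a b => by
    have h1 := hM' 1 b a; have h2 := hM' 1 b 1
    rw [mul_one] at h1
    rw [one_mul, one_mul] at h2
    rw [h1, h2]
  obtain ⟨s, hs0, hs1⟩ : ∃ s : K, s ≠ 0 ∧ s ≠ 1 := by
    have h2 : ({0, 1} : Finset K).card ≤ 2 := Finset.card_le_two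
    obtain ⟨s, -, hs⟩ := Finset.exists_mem_notMem_of_card_lt_card (s := ({0, 1} : Finset K)) (t := Finset.univ)
      (lt_of_le_of_lt h2 (by rw [Finset.card_univ]; omega))
    exact ⟨s, fun h => hs (by simp [h]), fun h => hs (by simp [h])⟩
  have hc : f 1 1 = 0 := by
    have h := congrFun (hβ (mono s hs0 * weyl) ![1, 0] ![1, 0]) 0
    rw [hD, mul_one] at h
    have h' : f s s = s * f 1 1 := by
      rw [show β ![1, 0] ![1, 0] = ![f 1 1, 0] by
        funext i; fin_cases i <;> simp [hf, hf1], hD] at h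
      simpa [hf] using h
    rw [hlin1 s s, hlin2 s 1] at h'
    have h3 : s * f 1 1 * (s - 1) = 0 := by linear_combination h'
    rcases mul_eq_zero.1 h3 with h4 | h4
    · exact (mul_eq_zero.1 h4).resolve_left hs0
    · exact absurd (sub_eq_zero.1 h4) hs1
  have hf0 : ∀ a b, f a b = 0 := fun a b => by rw [hlin1, hlin2 a 1, hc, mul_zero, mul_zero]
  have h00 : ∀ a b, β ![a, 0] ![b, 0] = 0 := fun a b => by
    funext i; fin_cases i
    · exact hf0 a b
    · exact hf1 a b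
  have h01' : ∀ a b, β ![a, 0] ![0, b] 1 = 0 := fun a b => by
    have := hM a b 1
    rwa [one_mul, one_mul, hf0, eq_comm] at this
  have h10' : ∀ a b, β ![0, a] ![b, 0] 1 = 0 := fun a b => by
    have := hM' a b 1
    rwa [one_mul, one_mul, hf0, eq_comm] at this
  have h01 : ∀ a b, β ![a, 0] ![0, b] = 0 := fun a b => by
    have h := congrFun (hβ weyl ![a, 0] ![0, b]) 1
    simp [hW, h10'] at h
    funext i; fin_cases i
    · simpa [Matrix.vecHead, Matrix.vecTail] using h.symm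
    · exact h01' a b
  have h11 : ∀ a b, β ![0, a] ![0, b] = 0 := fun a b => by
    have h := hβ weyl ![a, 0] ![b, 0]
    rw [h00, Matrix.mulVec_zero] at h
    simpa [hW] using h
  have h10 : ∀ a b, β ![0, a] ![b, 0] = 0 := fun a b => by
    have h := hβ weyl ![a, 0] ![0, b]
    rw [h01, Matrix.mulVec_zero] at h
    simpa [hW] using h
  refine AddMonoidHom.ext fun ξ => AddMonoidHom.ext fun η => ?_
  rw [hsplit ξ, hsplit η]
  simp only [map_add, AddMonoidHom.add_apply, h00, h01, h10, h11]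
  simp

/-- Coordinates on an elementary abelian normal subgroup without fixed points. -/
theorem exists_coords {G : Type u} [Group G] [Finite G] (Q : Subgroup G) [Q.Normal] (e : G ⧸ Q ≃* SG)
    (A : Subgroup G) [A.Normal] {x : G} (hxQ : x ∉ Q) (hx3 : x ^ 3 ∈ Q)
    (hA : ∀ q ∈ Q, ∀ a ∈ A, q * a = a * q) (hAA : ∀ a ∈ A, ∀ b ∈ A, a * b = b * a)
    (hA2 : ∀ a ∈ A, a * a = 1) (hfx : ∀ a ∈ A, x * a * x⁻¹ = a → a = 1) :
    ∃ (k : ℕ) (c : A → Fin k → N), Function.Bijective c ∧ (∀ a b, c (a * b) = c a + c b) ∧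
      ∀ (g : G) (a : A) (i : Fin k),
        c ⟨g * a * g⁻¹, Subgroup.Normal.conj_mem inferInstance _ a.2 g⟩ i =
          ↥ₘ(e (QuotientGroup.mk g)) *ᵥ c a i := by
  haveI : IsMulCommutative A := IsMulCommutative.of_comm fun a b => Subtype.ext (hAA a a.2 b b.2)
  obtain ⟨k, Φ, hΦ⟩ := exists_basis (act Q e A hA)
    (fun m => Additive.toMul.injective (Subtype.ext (hA2 _ (Additive.toMul m).2)))
    (act_rel Q e A hA hxQ hx3 hfx)
  refine ⟨k, fun a => Φ (Additive.ofMul a), Φ.bijective.comp Additive.ofMul.bijective,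
    fun a b => map_add Φ (Additive.ofMul a) (Additive.ofMul b), fun g a i => ?_⟩
  refine Eq.trans ?_ (hΦ (e (QuotientGroup.mk g)) (Additive.ofMul a) i)
  refine congrArg (fun z => Φ z i) (Additive.toMul.injective (Subtype.ext ?_))
  exact (act_coe Q e A hA g (Additive.ofMul a)).symm

theorem eq_of_mk_eq {G : Type u} [Group G] {Q : Subgroup G} [Q.Normal] {H : Type*} (f : G ⧸ Q → H)
    {P : H → Prop} (hf : Function.Surjective f) (h : ∀ g : G, P (f (QuotientGroup.mk g))) (y : H) : P y := by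
  obtain ⟨q, rfl⟩ := hf y
  obtain ⟨g, rfl⟩ := QuotientGroup.mk_surjective q
  exact h g

theorem elementary_aux (hK : 4 ≤ Fintype.card K) : ∀ (n : ℕ) {G : Type u} [Group G] [Finite G]
    (Q : Subgroup G) [Q.Normal] (e : G ⧸ Q ≃* SG) (x : G), IsPGroup 2 Q → x ∉ Q → x ^ 3 ∈ Q →
    (∀ q ∈ Q, x * q * x⁻¹ = q → q = 1) → Nat.card G = n →
    (∀ a ∈ Q, ∀ b ∈ Q, a * b = b * a) ∧ ∀ a ∈ Q, a * a = 1 := by
  intro n
  induction n using Nat.strong_induction_on with
  | _ n ih =>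
  intro G _ _ Q _ e x hQ hxQ hx3 hfpf hn
  classical
  by_cases hQ1 : Q = ⊥
  · subst hQ1
    simp only [Subgroup.mem_bot]
    exact ⟨by rintro a rfl b rfl; rfl, by rintro a rfl; exact one_mul 1⟩
  let Z : Subgroup G :=
    { carrier := {z | z ∈ Q ∧ (∀ q ∈ Q, q * z = z * q) ∧ z * z = 1}
      one_mem' := ⟨one_mem Q, fun q _ => by simp, one_mul 1⟩
      mul_mem' := fun {a b} ha hb => ⟨mul_mem ha.1 hb.1,
        fun q hq => by rw [← mul_assoc, ha.2.1 q hq, mul_assoc, hb.2.1 q hq, mul_assoc],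
        by
          have := ha.2.1 b hb.1
          rw [mul_assoc, ← mul_assoc b, this, mul_assoc, hb.2.2, mul_one, ha.2.2]⟩
      inv_mem' := fun {a} ha => by rw [inv_eq_of_mul_eq_one_right ha.2.2]; exact ha }
  have hZQ : Z ≤ Q := fun z hz => hz.1
  haveI hZn : Z.Normal := ⟨fun z hz g => ⟨Subgroup.Normal.conj_mem inferInstance z hz.1 g, fun q hq => by
      have h := hz.2.1 (g⁻¹ * q * g) (by simpa using Subgroup.Normal.conj_mem inferInstance q hq g⁻¹)
      calc q * (g * z * g⁻¹) = g * (g⁻¹ * q * g * z) * g⁻¹ := by group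
        _ = g * (z * (g⁻¹ * q * g)) * g⁻¹ := by rw [h]
        _ = g * z * g⁻¹ * q := by group,
      by rw [show g * z * g⁻¹ * (g * z * g⁻¹) = g * (z * z) * g⁻¹ by group, hz.2.2]; simp⟩⟩
  have hZne : Z ≠ ⊥ := by
    haveI : Nontrivial Q := (Subgroup.nontrivial_iff_ne_bot Q).2 hQ1
    haveI : Fact (Nat.Prime 2) := ⟨Nat.prime_two⟩
    haveI := hQ.center_nontrivial
    obtain ⟨k, hk⟩ := IsPGroup.iff_card.1 (hQ.to_subgroup (Subgroup.center Q))
    have hk0 : k ≠ 0 := fun h => by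
      rw [h, pow_zero] at hk
      exact absurd hk (Finite.one_lt_card (α := Subgroup.center Q)).ne'
    obtain ⟨⟨⟨z, hzQ⟩, hzc⟩, hz⟩ := exists_prime_orderOf_dvd_card' (G := Subgroup.center Q) 2 (hk ▸ dvd_pow_self 2 hk0)
    intro h
    have hzZ : z ∈ Z := ⟨hzQ, fun q hq => congrArg Subtype.val (Subgroup.mem_center_iff.1 hzc ⟨q, hq⟩), by
      have h2 := pow_orderOf_eq_one (⟨⟨z, hzQ⟩, hzc⟩ : Subgroup.center Q)
      rw [hz, pow_two] at h2
      exact congrArg (fun w : Subgroup.center Q => ((w : Q) : G)) h2⟩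
    rw [h, Subgroup.mem_bot] at hzZ
    subst hzZ
    rw [show (⟨⟨1, hzQ⟩, hzc⟩ : Subgroup.center Q) = 1 from rfl, orderOf_one] at hz
    exact absurd hz (by norm_num)
  have hZZ : ∀ a ∈ Z, ∀ b ∈ Z, a * b = b * a := fun a ha b hb => hb.2.1 a (hZQ ha)
  have hZfx : ∀ a ∈ Z, x * a * x⁻¹ = a → a = 1 := fun a ha => hfpf a (hZQ ha)
  obtain ⟨l, cz, hczb, hczm, hczc⟩ := exists_coords Q e Z hxQ hx3 (fun q hq a ha => ha.2.1 q hq) hZZ
    (fun a ha => ha.2.2) hZfx
  -- the quotient by Z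
  let mkZ : G →* G ⧸ Z := QuotientGroup.mk' Z
  haveI : (Q.map mkZ).Normal := Subgroup.Normal.map inferInstance mkZ (QuotientGroup.mk'_surjective Z)
  let e' : (G ⧸ Z) ⧸ Q.map mkZ ≃* SG := (QuotientGroup.quotientQuotientEquivQuotient Z Q hZQ).trans e
  have he' : ∀ g : G, e' (QuotientGroup.mk (mkZ g)) = e (QuotientGroup.mk g) := fun g => rfl
  have hmemQ : ∀ g : G, mkZ g ∈ Q.map mkZ ↔ g ∈ Q := fun g => by
    refine ⟨?_, fun h => ⟨g, h, rfl⟩⟩
    rintro ⟨q, hq, hqg⟩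
    have hz : q⁻¹ * g ∈ Z := QuotientGroup.eq.1 hqg
    simpa using mul_mem hq (hZQ hz)
  have hfpf' : ∀ q ∈ Q.map mkZ, mkZ x * q * (mkZ x)⁻¹ = q → q = 1 := by
    rintro _ ⟨q, hq, rfl⟩ h
    rw [← map_inv, ← map_mul, ← map_mul] at h
    have hz : (x * q * x⁻¹)⁻¹ * q ∈ Z := QuotientGroup.eq.1 h
    let f : Z → Z := fun z => ⟨(x * z * x⁻¹)⁻¹ * z, mul_mem (inv_mem (hZn.conj_mem z z.2 x)) z.2⟩
    have hfinj : Function.Injective f := fun z w hzw => by
      have h1 : (x * (z : G) * x⁻¹)⁻¹ * z = (x * (w : G) * x⁻¹)⁻¹ * w := congrArg Subtype.val hzw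
      have h2 : (w : G)⁻¹ * z = 1 := by
        refine hZfx _ (mul_mem (inv_mem w.2) z.2) ?_
        calc x * ((w : G)⁻¹ * z) * x⁻¹ = (x * w * x⁻¹)⁻¹ * (x * z * x⁻¹) := by group
          _ = (x * w * x⁻¹)⁻¹ * (w : G) * ((w : G)⁻¹ * (x * z * x⁻¹)) := by group
          _ = (x * z * x⁻¹)⁻¹ * (z : G) * ((w : G)⁻¹ * (x * z * x⁻¹)) := by rw [h1]
          _ = (w : G)⁻¹ * z := by
            have hc := hZZ _ (mul_mem (inv_mem w.2) (hZn.conj_mem z z.2 x)) _ (mul_mem (inv_mem (hZn.conj_mem z z.2 x)) z.2)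
            rw [← hc]; group
      exact Subtype.ext (inv_mul_eq_one.1 h2).symm
    obtain ⟨z, hz'⟩ := Finite.injective_iff_surjective.1 hfinj ⟨_, hz⟩
    have hz'' : (x * (z : G) * x⁻¹)⁻¹ * z = (x * q * x⁻¹)⁻¹ * q := congrArg Subtype.val hz'
    have h3 : q * (z : G)⁻¹ = 1 := by
      refine hfpf _ (mul_mem hq (inv_mem (hZQ z.2))) ?_
      have hc := (hZn.conj_mem z z.2 x).2.1 (q * (z : G)⁻¹) (mul_mem hq (inv_mem (hZQ z.2)))
      have h4 : x * q * x⁻¹ = q * ((z : G)⁻¹ * (x * z * x⁻¹)) := by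
        calc x * q * x⁻¹ = q * ((x * q * x⁻¹)⁻¹ * q)⁻¹ := by group
          _ = q * ((x * (z : G) * x⁻¹)⁻¹ * z)⁻¹ := by rw [hz'']
          _ = q * ((z : G)⁻¹ * (x * z * x⁻¹)) := by group
      calc x * (q * (z : G)⁻¹) * x⁻¹ = (x * q * x⁻¹) * (x * z * x⁻¹)⁻¹ := by group
        _ = q * (z : G)⁻¹ := by rw [h4]; group
    have : q ∈ Z := by rw [mul_inv_eq_one.1 h3]; exact z.2
    exact (QuotientGroup.eq_one_iff q).2 this
  have hlt : Nat.card (G ⧸ Z) < n := by
    have h1 := Subgroup.card_mul_index Z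
    have h2 : 1 < Nat.card Z := Subgroup.one_lt_card_iff_ne_bot Z |>.2 hZne
    have h3 : 0 < Z.index := Nat.pos_of_ne_zero Subgroup.index_ne_zero_of_finite
    rw [hn] at h1
    rw [← Subgroup.index_eq_card]
    nlinarith
  have hxQ' : mkZ x ∉ Q.map mkZ := fun h => hxQ ((hmemQ x).1 h)
  have hx3' : mkZ x ^ 3 ∈ Q.map mkZ := by rw [← map_pow]; exact (hmemQ _).2 hx3
  obtain ⟨hcomm, hsq⟩ := ih _ hlt (Q.map mkZ) e' (mkZ x) (hQ.map mkZ) hxQ' hx3' hfpf' rfl
  obtain ⟨k, cv₀, hcvb, hcvm, hcvc⟩ := exists_coords (Q.map mkZ) e' (Q.map mkZ) hxQ' hx3' hcomm hcomm hsq hfpf'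
  let cv : Q → Fin k → N := fun q => cv₀ ⟨mkZ q, ⟨q, q.2, rfl⟩⟩
  have hcv_mul : ∀ a b : Q, cv (a * b) = cv a + cv b := fun a b => by
    show cv₀ _ = _
    rw [← hcvm]; rfl
  have hcv_conj : ∀ (g : G) (q : Q) i, cv ⟨g * q * g⁻¹, Subgroup.Normal.conj_mem inferInstance _ q.2 g⟩ i =
      ↥ₘ(e (QuotientGroup.mk g)) *ᵥ cv q i := fun g q i => by
    rw [← he' g, ← hcvc (mkZ g) ⟨mkZ q, ⟨q, q.2, rfl⟩⟩ i]
    rfl
  have hcv_surj : Function.Surjective cv := fun v => by
    obtain ⟨⟨_, q, hq, rfl⟩, h⟩ := hcvb.2 v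
    exact ⟨⟨q, hq⟩, h⟩
  have hcv_one : cv 1 = 0 := by have := hcv_mul 1 1; rw [one_mul] at this; exact left_eq_add.1 this
  have hcv_zero : ∀ q : Q, cv q = 0 → (q : G) ∈ Z := fun q h => by
    have h1 : (⟨mkZ q, ⟨q, q.2, rfl⟩⟩ : Q.map mkZ) = ⟨mkZ (1 : Q), ⟨(1 : Q), (1 : Q).2, rfl⟩⟩ :=
      hcvb.1 (h.trans hcv_one.symm)
    exact (QuotientGroup.eq_one_iff _).1 ((congrArg Subtype.val h1).trans (map_one mkZ))
  have hcv_eq : ∀ q r : Q, cv q = cv r → (q : G) * (r : G)⁻¹ ∈ Z := fun q r h => by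
    have h' := hcv_zero (q * r⁻¹) ?_
    · exact h'
    · have := hcv_mul (q * r⁻¹) r
      rw [inv_mul_cancel_right, h] at this
      exact right_eq_add.1 this |>.trans rfl
  have hcz_one : cz 1 = 0 := by have := hczm 1 1; rw [one_mul] at this; exact left_eq_add.1 this
  have hZeq : ∀ {z w : G} (hz : z ∈ Z) (hw : w ∈ Z), z = w → cz ⟨z, hz⟩ = cz ⟨w, hw⟩ := by
    intro z w hz hw h; subst h; rfl
  choose lft hlft using hcv_surj
  -- commutators
  have hcom : ∀ a b : Q, (a : G) * b * (a : G)⁻¹ * (b : G)⁻¹ ∈ Z := fun a b => by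
    refine (QuotientGroup.eq_one_iff _).1 ?_
    show mkZ _ = 1
    rw [map_mul, map_mul, map_mul, hcomm _ ⟨a, a.2, rfl⟩ _ ⟨b, b.2, rfl⟩, map_inv, map_inv]
    group
  let cm : Q → Q → Z := fun a b => ⟨_, hcom a b⟩
  have hcmL : ∀ a a' b, cm (a * a') b = cm a b * cm a' b := fun a a' b => Subtype.ext (by
    show (a : G) * a' * b * ((a : G) * a')⁻¹ * (b : G)⁻¹ = ((cm a b : G)) * (cm a' b : G)
    have hc := (hcom a' b).2.1 a a.2
    calc (a : G) * a' * b * ((a : G) * a')⁻¹ * (b : G)⁻¹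
        = ((a : G) * ((a' : G) * b * (a' : G)⁻¹ * (b : G)⁻¹)) * ((b : G) * (a : G)⁻¹ * (b : G)⁻¹) := by group
      _ = (cm a' b : G) * (cm a b : G) := by rw [hc]; show _ = (_ * _ * _ * _) * (_ * _ * _ * _); group
      _ = _ := hZZ _ (cm a' b).2 _ (cm a b).2)
  have hcmR : ∀ a b b', cm a (b * b') = cm a b * cm a b' := fun a b b' => Subtype.ext (by
    show (a : G) * ((b : G) * b') * (a : G)⁻¹ * ((b : G) * b')⁻¹ = ((cm a b : G)) * (cm a b' : G)
    have hc := (hcom a b').2.1 b b.2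
    calc (a : G) * ((b : G) * b') * (a : G)⁻¹ * ((b : G) * b')⁻¹
        = (a : G) * b * (a : G)⁻¹ * (((a : G) * b' * (a : G)⁻¹ * (b' : G)⁻¹) * (b : G)⁻¹) := by group
      _ = (cm a b : G) * (cm a b' : G) := by
        show _ = ((a : G) * b * (a : G)⁻¹ * (b : G)⁻¹) * ((a : G) * b' * (a : G)⁻¹ * (b' : G)⁻¹)
        generalize hw : (a : G) * b' * (a : G)⁻¹ * (b' : G)⁻¹ = w at hc ⊢
        have hc' : w * (b : G)⁻¹ = (b : G)⁻¹ * w := by
          rw [eq_inv_mul_iff_mul_eq, ← mul_assoc, hc, mul_inv_cancel_right]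
        rw [hc', ← mul_assoc])
  have hcmL' : ∀ a a' b, cv a = cv a' → cm a b = cm a' b := fun a a' b h => Subtype.ext (by
    obtain ⟨z, hz, hza⟩ : ∃ z : G, z ∈ Z ∧ (a : G) = z * a' := ⟨_, hcv_eq a a' h, by group⟩
    show (a : G) * b * (a : G)⁻¹ * (b : G)⁻¹ = (a' : G) * b * (a' : G)⁻¹ * (b : G)⁻¹
    have hc := hz.2.1 ((a' : G) * b * (a' : G)⁻¹) (mul_mem (mul_mem a'.2 b.2) (inv_mem a'.2))
    rw [hza]
    calc z * a' * (b : G) * (z * a')⁻¹ * (b : G)⁻¹ = (z * ((a' : G) * b * (a' : G)⁻¹)) * z⁻¹ * (b : G)⁻¹ := by group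
      _ = _ := by rw [← hc]; group)
  have hcmR' : ∀ a b b', cv b = cv b' → cm a b = cm a b' := fun a b b' h => Subtype.ext (by
    obtain ⟨z, hz, hzb⟩ : ∃ z : G, z ∈ Z ∧ (b : G) = z * b' := ⟨_, hcv_eq b b' h, by group⟩
    show (a : G) * b * (a : G)⁻¹ * (b : G)⁻¹ = (a : G) * b' * (a : G)⁻¹ * (b' : G)⁻¹
    have hc := hz.2.1 a a.2
    have hc2 := hz.2.1 ((a : G) * b' * (a : G)⁻¹ * (b' : G)⁻¹) (hZQ (hcom a b'))
    rw [hzb]
    calc (a : G) * (z * b') * (a : G)⁻¹ * (z * (b' : G))⁻¹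
        = (a : G) * z * ((b' : G) * (a : G)⁻¹ * (b' : G)⁻¹) * z⁻¹ := by group
      _ = z * ((a : G) * b' * (a : G)⁻¹ * (b' : G)⁻¹) * z⁻¹ := by rw [hc]; group
      _ = _ := by rw [← hc2]; group)
  have hcm0 : ∀ a b, cz (cm a b) = 0 := by
    let B : (Fin k → N) → (Fin k → N) → Fin l → N := fun v w => cz (cm (lft v) (lft w))
    have hBcm : ∀ a b, cz (cm a b) = B (cv a) (cv b) := fun a b =>
      congrArg cz ((hcmL' a (lft (cv a)) b (hlft _).symm).trans (hcmR' _ b (lft (cv b)) (hlft _).symm))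
    have hBL : ∀ v v' w, B (v + v') w = B v w + B v' w := fun v v' w => by
      have h1 : cv (lft v * lft v') = v + v' := by rw [hcv_mul, hlft, hlft]
      have h2 := hBcm (lft v * lft v') (lft w)
      rw [h1, hlft, hcmL, hczm] at h2
      exact h2.symm
    have hBR : ∀ v w w', B v (w + w') = B v w + B v w' := fun v w w' => by
      have h1 : cv (lft w * lft w') = w + w' := by rw [hcv_mul, hlft, hlft]
      have h2 := hBcm (lft v) (lft w * lft w')
      rw [h1, hlft, hcmR, hczm] at h2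
      exact h2.symm
    have hBg : ∀ (g : SG) v w j, B (fun i => ↥ₘ g *ᵥ v i) (fun i => ↥ₘ g *ᵥ w i) j = ↥ₘ g *ᵥ B v w j := by
      intro g
      refine eq_of_mk_eq (P := fun g : SG => ∀ v w j,
        B (fun i => ↥ₘ g *ᵥ v i) (fun i => ↥ₘ g *ᵥ w i) j = ↥ₘ g *ᵥ B v w j) e e.surjective (fun g v w j => ?_) g
      set a : Q := ⟨g * lft v * g⁻¹, Subgroup.Normal.conj_mem inferInstance _ (lft v).2 g⟩ with ha
      set b : Q := ⟨g * lft w * g⁻¹, Subgroup.Normal.conj_mem inferInstance _ (lft w).2 g⟩ with hb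
      have h1 : cv a = fun i => ↥ₘ(e (QuotientGroup.mk g)) *ᵥ v i := funext fun i => by
        rw [ha, hcv_conj, hlft]
      have h2 : cv b = fun i => ↥ₘ(e (QuotientGroup.mk g)) *ᵥ w i := funext fun i => by
        rw [hb, hcv_conj, hlft]
      rw [← h1, ← h2, ← hBcm]
      show _ = _ *ᵥ cz (cm (lft v) (lft w)) j
      rw [← hczc]
      refine congrFun (congrArg cz (Subtype.ext ?_)) j
      show g * lft v * g⁻¹ * (g * lft w * g⁻¹) * (g * lft v * g⁻¹)⁻¹ * (g * lft w * g⁻¹)⁻¹ =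
        g * ((lft v : G) * lft w * (lft v : G)⁻¹ * (lft w : G)⁻¹) * g⁻¹
      group
    have hB0 : ∀ v w, B v w = 0 := by
      intro v w
      funext j
      have hi : ∀ i i' (ξ η : N), B (Pi.single i ξ) (Pi.single i' η) j = 0 := by
        intro i i' ξ η
        let β : N →+ N →+ N := AddMonoidHom.mk' (fun ξ => AddMonoidHom.mk'
            (fun η => B (Pi.single i ξ) (Pi.single i' η) j) (fun η η' => by rw [Pi.single_add, hBR]; rfl))
          (fun ξ ξ' => AddMonoidHom.ext fun η => by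
            show B (Pi.single i (ξ + ξ')) (Pi.single i' η) j = _
            rw [Pi.single_add, hBL]; rfl)
        have hs : ∀ (g : SG) (i : Fin k) (ξ : N), (fun m => ↥ₘ g *ᵥ (Pi.single i ξ : Fin k → N) m) = Pi.single i (↥ₘ g *ᵥ ξ) :=
          fun g i ξ => funext fun m => Pi.apply_single (fun _ (z : N) => ↥ₘ g *ᵥ z) (fun _ => Matrix.mulVec_zero _) i ξ m
        have := pairing_zero hK β (fun g ξ η => by
          show B (Pi.single i (↥ₘ g *ᵥ ξ)) (Pi.single i' (↥ₘ g *ᵥ η)) j = _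
          rw [← hs, ← hs, hBg]; rfl)
        exact DFunLike.congr_fun (DFunLike.congr_fun this ξ) η
      let L : (Fin k → N) →+ N := AddMonoidHom.mk' (fun w => B v w j) (fun w w' => by rw [hBR]; rfl)
      have hL : L = 0 := by
        refine AddMonoidHom.functions_ext _ _ _ fun i' η => ?_
        let R : (Fin k → N) →+ N := AddMonoidHom.mk' (fun v => B v (Pi.single i' η) j) (fun v v' => by rw [hBL]; rfl)
        have hR : R = 0 := AddMonoidHom.functions_ext _ _ _ fun i ξ => hi i i' ξ η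
        exact DFunLike.congr_fun hR v
      exact DFunLike.congr_fun hL w
    exact fun a b => (hBcm a b).trans (hB0 _ _)
  have hcommQ : ∀ a ∈ Q, ∀ b ∈ Q, a * b = b * a := fun a ha b hb => by
    have h1 : cm ⟨a, ha⟩ ⟨b, hb⟩ = 1 := hczb.1 ((hcm0 _ _).trans hcz_one.symm)
    have h2 : a * b * a⁻¹ * b⁻¹ = 1 := congrArg Subtype.val h1
    exact mul_inv_eq_iff_eq_mul.1 (mul_inv_eq_one.1 h2)
  refine ⟨hcommQ, ?_⟩
  -- squares
  have hsqZ : ∀ a : Q, (a : G) * a ∈ Z := fun a => by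
    refine (QuotientGroup.eq_one_iff _).1 ?_
    show mkZ _ = 1
    rw [map_mul]
    exact hsq _ ⟨a, a.2, rfl⟩
  let sq : Q → Fin l → N := fun a => cz ⟨_, hsqZ a⟩
  have hsq_mul : ∀ a b : Q, sq (a * b) = sq a + sq b := fun a b => by
    show cz _ = cz _ + cz _
    rw [← hczm]
    refine hZeq _ _ ?_
    show (a : G) * b * (a * b) = (a : G) * a * (b * b)
    rw [mul_assoc (a : G) b, ← mul_assoc (b : G) a, hcommQ b b.2 a a.2]; group
  have hsq_cv : ∀ a b : Q, cv a = cv b → sq a = sq b := fun a b h => by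
    obtain ⟨z, hz, hza⟩ : ∃ z : G, z ∈ Z ∧ (a : G) = z * b := ⟨_, hcv_eq a b h, by group⟩
    refine hZeq _ _ ?_
    rw [hza, mul_assoc, ← mul_assoc (b : G), hz.2.1 b b.2, mul_assoc z, ← mul_assoc, hz.2.2, one_mul]
  suffices hS0 : ∀ a, sq a = 0 by
    intro a ha
    have h1 : (⟨_, hsqZ ⟨a, ha⟩⟩ : Z) = 1 := hczb.1 ((hS0 ⟨a, ha⟩).trans hcz_one.symm)
    exact congrArg Subtype.val h1
  let S : (Fin k → N) →+ (Fin l → N) := AddMonoidHom.mk' (fun v => sq (lft v)) (fun v v' => by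
    rw [← hsq_mul]
    exact hsq_cv _ _ (by rw [hcv_mul, hlft, hlft, hlft]))
  have hSsq : ∀ a, sq a = S (cv a) := fun a => hsq_cv _ _ (hlft _).symm
  suffices hS : S = 0 from fun a => by rw [hSsq, hS]; rfl
  refine AddMonoidHom.functions_ext _ _ _ fun i ξ₀ => funext fun j => ?_
  let T : N →+ N := AddMonoidHom.mk' (fun ξ => S (Pi.single i ξ) j) (fun ξ ξ' => by rw [Pi.single_add, map_add]; rfl)
  suffices hT : T = 0 from DFunLike.congr_fun hT ξ₀
  by_contra hTne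
  have hTg : ∀ (g : SG) ξ, T (↥ₘ g *ᵥ ξ) = ↥ₘ g *ᵥ T ξ := by
    intro g
    refine eq_of_mk_eq (P := fun g : SG => ∀ ξ, T (↥ₘ g *ᵥ ξ) = ↥ₘ g *ᵥ T ξ) e e.surjective (fun g ξ => ?_) g
    set a : Q := ⟨g * lft (Pi.single i ξ) * g⁻¹, Subgroup.Normal.conj_mem inferInstance _ (lft (Pi.single i ξ)).2 g⟩ with ha
    have h1 : cv a = Pi.single i (↥ₘ(e (QuotientGroup.mk g)) *ᵥ ξ) := funext fun m => by
      rw [ha, hcv_conj, hlft]
      exact Pi.apply_single (fun _ (z : N) => ↥ₘ(e (QuotientGroup.mk g)) *ᵥ z) (fun _ => Matrix.mulVec_zero _) i ξ m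
    show S (Pi.single i _) j = _ *ᵥ sq (lft (Pi.single i ξ)) j
    rw [← h1, ← hSsq]
    show cz _ j = _ *ᵥ cz _ j
    rw [← hczc]
    refine congrFun (congrArg cz (Subtype.ext ?_)) j
    show g * lft (Pi.single i ξ) * g⁻¹ * (g * lft (Pi.single i ξ) * g⁻¹) =
      g * ((lft (Pi.single i ξ) : G) * lft (Pi.single i ξ)) * g⁻¹
    group
  have hTinj := equivariant_injective T hTg hTne
  have hTsurj := Finite.injective_iff_surjective.1 hTinj
  haveI : IsMulCommutative Q := IsMulCommutative.of_comm fun a b => Subtype.ext (hcommQ a a.2 b b.2)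
  let ρ := act Q e Q hcommQ
  let cvM : Additive Q →+ (Fin k → N) := AddMonoidHom.mk' (fun m => cv (Additive.toMul m)) (fun m m' => hcv_mul _ _)
  have hρcv : ∀ g m i', cvM (ρ g m) i' = ↥ₘ g *ᵥ cvM m i' := by
    intro g
    refine eq_of_mk_eq (P := fun g : SG => ∀ m i', cvM (ρ g m) i' = ↥ₘ g *ᵥ cvM m i') e e.surjective (fun g m i' => ?_) g
    show cv _ i' = _ *ᵥ cv _ i'
    rw [← hcv_conj]
    exact congrFun (congrArg cv (Subtype.ext (act_coe Q e Q hcommQ g m))) i'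
  let Y : AddSubgroup (Additive Q) :=
    { carrier := {m | ∀ i', i' ≠ i → cvM m i' = 0}
      add_mem' := fun {a b} ha hb i' hi => by rw [map_add, Pi.add_apply, ha i' hi, hb i' hi, add_zero]
      zero_mem' := fun i' _ => by rw [map_zero]; rfl
      neg_mem' := fun {a} ha i' hi => by rw [map_neg, Pi.neg_apply, ha i' hi, neg_zero] }
  let P : AddSubgroup Y :=
    { carrier := {y | ∃ z : Z, (z : G) = ((Additive.toMul (y : Additive Q) : Q) : G) ∧ cz z j = 0}
      add_mem' := by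
        rintro a b ⟨z, hz, hz0⟩ ⟨w, hw, hw0⟩
        exact ⟨z * w, by rw [Subgroup.coe_mul, hz, hw]; rfl, by rw [hczm, Pi.add_apply, hz0, hw0, add_zero]⟩
      zero_mem' := ⟨1, rfl, by rw [hcz_one]; rfl⟩
      neg_mem' := by
        rintro a ⟨z, hz, hz0⟩
        refine ⟨z⁻¹, by rw [InvMemClass.coe_inv, hz]; rfl, ?_⟩
        have h1 := congrFun (hczm z⁻¹ z) j
        rw [inv_mul_cancel, hcz_one, Pi.add_apply, hz0, add_zero] at h1
        exact h1.symm }
  have hρY : ∀ g (m : Additive Q), m ∈ Y → ρ g m ∈ Y := fun g m hm i' hi => by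
    rw [hρcv, hm i' hi, Matrix.mulVec_zero]
  let r : SG → Y →+ Y := fun g => AddMonoidHom.mk' (fun y => ⟨ρ g (y : Additive Q), hρY g _ y.2⟩)
    (fun a b => Subtype.ext (map_add (ρ g) (a : Additive Q) (b : Additive Q)))
  have hrP : ∀ g, P ≤ P.comap (r g) := by
    intro g
    refine eq_of_mk_eq (P := fun g : SG => P ≤ P.comap (r g)) e e.surjective (fun g y hy => ?_) g
    obtain ⟨z, hz, hz0⟩ := hy
    refine ⟨⟨g * z * g⁻¹, hZn.conj_mem z z.2 g⟩, ?_, ?_⟩
    · show g * (z : G) * g⁻¹ = ((Additive.toMul (ρ (e (QuotientGroup.mk g)) (y : Additive Q)) : Q) : G)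
      rw [hz]
      exact (act_coe Q e Q hcommQ g _).symm
    · rw [hczc, hz0, Matrix.mulVec_zero]
  let ρA : SG →* AddMonoid.End (Y ⧸ P) :=
    { toFun := fun g => QuotientAddGroup.map P P (r g) (hrP g)
      map_one' := AddMonoidHom.ext fun q => by
        obtain ⟨y, rfl⟩ := QuotientAddGroup.mk_surjective q
        show ((r 1 y : Y) : Y ⧸ P) = (y : Y ⧸ P)
        refine congrArg _ (Subtype.ext ?_)
        show ρ 1 (y : Additive Q) = _
        rw [map_one]; rfl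
      map_mul' := fun g h => AddMonoidHom.ext fun q => by
        obtain ⟨y, rfl⟩ := QuotientAddGroup.mk_surjective q
        show ((r (g * h) y : Y) : Y ⧸ P) = ((r g (r h y) : Y) : Y ⧸ P)
        refine congrArg _ (Subtype.ext ?_)
        show ρ (g * h) (y : Additive Q) = ρ g (ρ h _)
        rw [map_mul]; rfl }
  let π₀ : Y →+ N := (Pi.evalAddMonoidHom (fun _ => N) i).comp (cvM.comp Y.subtype)
  let π : Y ⧸ P →+ N := QuotientAddGroup.lift P π₀ (fun y hy => by
    obtain ⟨z, hz, -⟩ := hy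
    show cv (Additive.toMul (y : Additive Q)) i = 0
    have h1 : cv (Additive.toMul (y : Additive Q)) = cv 1 := congrArg cv₀ (Subtype.ext (by
      show mkZ _ = mkZ ((1 : Q) : G)
      rw [Subgroup.coe_one, map_one]
      exact (QuotientGroup.eq_one_iff _).2 (hz ▸ z.2)))
    rw [h1, hcv_one]; rfl)
  have hYsingle : ∀ y : Y, cv (Additive.toMul (y : Additive Q)) = Pi.single i (π₀ y) := fun y => funext fun i' => by
    by_cases h : i' = i
    · subst h; rw [Pi.single_eq_same]; rfl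
    · rw [Pi.single_eq_of_ne h]; exact y.2 i' h
  have hY2 : ∀ y : Y, ∃ z : Z, (z : G) = ((Additive.toMul ((y + y : Y) : Additive Q) : Q) : G) ∧
      cz z j = T (π₀ y) := fun y => by
    refine ⟨⟨_, hsqZ (Additive.toMul (y : Additive Q))⟩, rfl, ?_⟩
    show sq _ j = S (Pi.single i (π₀ y)) j
    rw [hSsq, hYsingle]
  refine no_homocyclic hK ρA π ?_ ?_ ?_ ?_ ?_
  · intro ξ
    exact ⟨((⟨Additive.ofMul (lft (Pi.single i ξ)), fun i' hi => by
      show cv (lft (Pi.single i ξ)) i' = 0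
      rw [hlft, Pi.single_eq_of_ne hi]⟩ : Y) : Y ⧸ P), by
      show cv (lft (Pi.single i ξ)) i = ξ
      rw [hlft, Pi.single_eq_same]⟩
  · intro g q
    obtain ⟨y, rfl⟩ := QuotientAddGroup.mk_surjective q
    exact hρcv g _ i
  · intro q
    obtain ⟨y, rfl⟩ := QuotientAddGroup.mk_surjective q
    rw [← QuotientAddGroup.mk_add, ← QuotientAddGroup.mk_add]
    refine (QuotientAddGroup.eq_zero_iff _).2 ⟨1, ?_, by rw [hcz_one]; rfl⟩
    exact (hsqZ (Additive.toMul (y : Additive Q))).2.2.symm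
  · intro q hq
    obtain ⟨y, rfl⟩ := QuotientAddGroup.mk_surjective q
    have hy0 : π₀ y = 0 := hq
    have hyZ : ((Additive.toMul (y : Additive Q) : Q) : G) ∈ Z :=
      hcv_zero _ (by rw [hYsingle, hy0, Pi.single_zero])
    obtain ⟨ξ, hξ⟩ := hTsurj (cz ⟨_, hyZ⟩ j)
    let w : Y := ⟨Additive.ofMul (lft (Pi.single i ξ)), fun i' hi => by
      show cv (lft (Pi.single i ξ)) i' = 0
      rw [hlft, Pi.single_eq_of_ne hi]⟩
    have hw : π₀ w = ξ := by
      show cv (lft (Pi.single i ξ)) i = ξ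
      rw [hlft, Pi.single_eq_same]
    obtain ⟨z, hz, hzj⟩ := hY2 w
    refine ⟨(w : Y ⧸ P), ?_⟩
    rw [← QuotientAddGroup.mk_add, QuotientAddGroup.eq]
    refine ⟨⟨_, hyZ⟩⁻¹ * z, ?_, ?_⟩
    · rw [Subgroup.coe_mul, InvMemClass.coe_inv, hz]; rfl
    · have h1 := congrFun (hczm (⟨_, hyZ⟩⁻¹ * z) ⟨_, hyZ⟩) j
      rw [show (⟨_, hyZ⟩⁻¹ * z) * (⟨_, hyZ⟩ : Z) = z from Subtype.ext (by
        rw [Subgroup.coe_mul]
        exact (hZZ _ (⟨_, hyZ⟩⁻¹ * z : Z).2 _ hyZ).trans (mul_inv_cancel_left _ _)), Pi.add_apply, hzj, hw, hξ] at h1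
      exact right_eq_add.1 h1
  · intro q hq
    obtain ⟨y, rfl⟩ := QuotientAddGroup.mk_surjective q
    rw [← QuotientAddGroup.mk_add] at hq
    obtain ⟨z, hz, hz0⟩ := (QuotientAddGroup.eq_zero_iff _).1 hq
    obtain ⟨z', hz', hz'j⟩ := hY2 y
    have h1 : T (π₀ y) = 0 := by rw [← hz'j, show z' = z from Subtype.ext (hz'.trans hz.symm), hz0]
    exact hTinj (h1.trans (map_zero T).symm)

end Cfsg.Agent.LocalStructure.SL2FPFThreeGroup
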