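import Mathlib
import Cfsg.Agent.Coprime.Tools

/-!
# The three subgroup lemma modulo a normalized subgroup
-/

set_option autoImplicit false
set_option linter.all false

namespace Cfsg.Agent.LocalStructure

open Subgroup
open scoped Pointwise

variable {G : Type*} [Group G]

theorem le_normalizer_commutator_of_le {A H K : Subgroup G} (hH : A ≤ normalizer (H : Set G))
    (hK : A ≤ normalizer (K : Set G)) : A ≤ normalizer ((⁅H, K⁆ : Subgroup G) : Set G) := by
  intro a ha
  apply Coprime.mem_normalizer_of_conj_smul_eq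
  rw [Coprime.conj_smul_eq_map, map_commutator, ← Coprime.conj_smul_eq_map,
    ← Coprime.conj_smul_eq_map, Coprime.conj_smul_eq_self_of_mem_normalizer (hH ha),
    Coprime.conj_smul_eq_self_of_mem_normalizer (hK ha)]

/-- The three subgroup lemma modulo a subgroup normalized by the three subgroups. -/
theorem commutator_commutator_le_of_rotate {N H₁ H₂ H₃ : Subgroup G}
    (hn1 : H₁ ≤ normalizer (N : Set G)) (hn2 : H₂ ≤ normalizer (N : Set G))
    (hn3 : H₃ ≤ normalizer (N : Set G)) (h1 : ⁅⁅H₂, H₃⁆, H₁⁆ ≤ N) (h2 : ⁅⁅H₃, H₁⁆, H₂⁆ ≤ N) :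
    ⁅⁅H₁, H₂⁆, H₃⁆ ≤ N := by
  set K : Subgroup G := normalizer (N : Set G) with hK
  set N' : Subgroup K := N.subgroupOf K with hN'
  haveI : N'.Normal := normal_subgroupOf_of_le_normalizer le_rfl
  set f := QuotientGroup.mk' N' with hf
  have hdown : ∀ A B C : Subgroup K,
      ⁅⁅A.map K.subtype, B.map K.subtype⁆, C.map K.subtype⁆ ≤ N ↔
        ⁅⁅A.map f, B.map f⁆, C.map f⁆ = ⊥ := by
    intro A B C
    rw [← map_commutator, ← map_commutator, ← map_commutator, ← map_commutator,
      Subgroup.map_eq_bot_iff, hf, QuotientGroup.ker_mk', hN', map_le_iff_le_comap]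
    rfl
  have e : ∀ H : Subgroup G, H ≤ K → (H.subgroupOf K).map K.subtype = H :=
    fun H h => map_subgroupOf_eq_of_le h
  have h1' : ⁅⁅(H₂.subgroupOf K).map f, (H₃.subgroupOf K).map f⁆, (H₁.subgroupOf K).map f⁆ = ⊥ := by
    rw [← hdown, e _ hn1, e _ hn2, e _ hn3]; exact h1
  have h2' : ⁅⁅(H₃.subgroupOf K).map f, (H₁.subgroupOf K).map f⁆, (H₂.subgroupOf K).map f⁆ = ⊥ := by
    rw [← hdown, e _ hn1, e _ hn2, e _ hn3]; exact h2
  have h3 := commutator_commutator_eq_bot_of_rotate h1' h2'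
  rw [← hdown, e _ hn1, e _ hn2, e _ hn3] at h3
  exact h3

/-- For subgroups with `A` normalizing `N`, the commutator with a join is bounded in `N`. -/
theorem commutator_sup_le {N A B C : Subgroup G} (hA : A ≤ normalizer (N : Set G))
    (hB : B ≤ normalizer (N : Set G)) (hC : C ≤ normalizer (N : Set G))
    (h1 : ⁅A, C⁆ ≤ N) (h2 : ⁅B, C⁆ ≤ N) : ⁅A ⊔ B, C⁆ ≤ N := by
  set K : Subgroup G := normalizer (N : Set G) with hK
  set N' : Subgroup K := N.subgroupOf K with hN'
  haveI : N'.Normal := normal_subgroupOf_of_le_normalizer le_rfl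
  set f := QuotientGroup.mk' N' with hf
  have hdown : ∀ A B : Subgroup K, ⁅A.map K.subtype, B.map K.subtype⁆ ≤ N ↔
      A.map f ≤ centralizer ((B.map f : Subgroup (K ⧸ N')) : Set (K ⧸ N')) := by
    intro A B
    rw [← commutator_eq_bot_iff_le_centralizer, ← map_commutator, ← map_commutator,
      Subgroup.map_eq_bot_iff, hf, QuotientGroup.ker_mk', hN', map_le_iff_le_comap]
    rfl
  have e : ∀ H : Subgroup G, H ≤ K → (H.subgroupOf K).map K.subtype = H :=
    fun H h => map_subgroupOf_eq_of_le h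
  have h1' : (A.subgroupOf K).map f ≤
      centralizer (((C.subgroupOf K).map f : Subgroup (K ⧸ N')) : Set (K ⧸ N')) := by
    rw [← hdown, e _ hA, e _ hC]; exact h1
  have h2' : (B.subgroupOf K).map f ≤
      centralizer (((C.subgroupOf K).map f : Subgroup (K ⧸ N')) : Set (K ⧸ N')) := by
    rw [← hdown, e _ hB, e _ hC]; exact h2
  have h3 : (A.subgroupOf K ⊔ B.subgroupOf K).map f ≤
      centralizer (((C.subgroupOf K).map f : Subgroup (K ⧸ N')) : Set (K ⧸ N')) := by
    rw [Subgroup.map_sup]; exact sup_le h1' h2'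
  rw [← hdown, Subgroup.map_sup, e _ hA, e _ hB, e _ hC] at h3
  exact h3

end Cfsg.Agent.LocalStructure
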