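import Mathlib
import Cfsg.Prelude.Def_PLocal
import Cfsg.Agent.Core.PCore
import Cfsg.Agent.Coprime.Basic

/-!
# p-groups stabilizing series
-/

set_option autoImplicit false
set_option linter.all false

namespace Cfsg.Agent.LocalStructure

open Subgroup
open scoped commutatorElement

variable {G : Type*} [Group G]

/-- A subgroup all whose `p'`-elements are trivial is a `p`-group. -/
theorem isPGroup_of_forall_coprime [Finite G] {p : ℕ} [hp : Fact p.Prime] {L : Subgroup G}
    (h : ∀ a ∈ L, (orderOf a).Coprime p → a = 1) : IsPGroup p L := by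
  intro g
  refine ⟨(orderOf g).factorization p, ?_⟩
  apply Subtype.ext
  rw [SubmonoidClass.coe_pow, OneMemClass.coe_one, ← Subgroup.orderOf_coe g]
  refine h _ (L.pow_mem g.2 _) ?_
  have hd : p ^ (orderOf (g : G)).factorization p ∣ orderOf (g : G) := Nat.ordProj_dvd _ _
  rw [orderOf_pow_of_dvd (pow_ne_zero _ hp.out.ne_zero) hd]
  exact (Nat.coprime_ordCompl hp.out (orderOf_pos _).ne').symm

theorem iterCommutator_mono {N N' L L' : Subgroup G} (hN : N ≤ N') (hL : L ≤ L') :
    ∀ n, Cfsg.iterCommutator N L n ≤ Cfsg.iterCommutator N' L' n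
  | 0 => hN
  | n + 1 => commutator_mono (iterCommutator_mono hN hL n) hL

/-- The coprime commutator `[R, A]` lies in every iterated commutator `[R, A, …, A]`. -/
theorem commutator_le_iterCommutator [Finite G] {A R : Subgroup G}
    (hAR : A ≤ normalizer (R : Set G)) (hcop : (Nat.card A).Coprime (Nat.card R))
    (hsolv : Group.IsSolvable A ∨ Group.IsSolvable R) :
    ∀ n, ⁅R, A⁆ ≤ Cfsg.iterCommutator R A n
  | 0 => Coprime.commutator_le_of_le_normalizer hAR
  | n + 1 => by
    conv_lhs => rw [← Coprime.commutator_commutator_eq hAR hcop hsolv]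
    exact commutator_mono (commutator_le_iterCommutator hAR hcop hsolv n) le_rfl

/-- A subgroup stabilizing a series of a self-centralizing `p`-subgroup is a `p`-group. -/
theorem isPGroup_of_iterCommutator_eq_bot [Finite G] {p : ℕ} [Fact p.Prime] {R L : Subgroup G}
    (hR : IsPGroup p R) (hC : centralizer (R : Set G) ≤ R) (hL : L ≤ normalizer (R : Set G))
    {n : ℕ} (hnil : Cfsg.iterCommutator R L n = ⊥) : IsPGroup p L := by
  refine isPGroup_of_forall_coprime fun a ha hap => ?_
  set A := zpowers a with hA
  have hAL : A ≤ L := zpowers_le.mpr ha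
  obtain ⟨k, hk⟩ := IsPGroup.iff_card.mp hR
  have hcop : (Nat.card A).Coprime (Nat.card R) := by
    rw [hA, Nat.card_zpowers, hk]; exact hap.pow_right k
  have hsolv : Group.IsSolvable R := by
    have := hR.isNilpotent
    infer_instance
  have h0 : ⁅R, A⁆ = ⊥ := eq_bot_iff.mpr <|
    (commutator_le_iterCommutator (hAL.trans hL) hcop (Or.inr hsolv) n).trans
      ((iterCommutator_mono le_rfl hAL n).trans hnil.le)
  have haC : a ∈ centralizer (R : Set G) :=
    le_centralizer_iff.mp (commutator_eq_bot_iff_le_centralizer.mp h0) (mem_zpowers a)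
  have haR : a ∈ R := hC haC
  have h2 : a ∈ A ⊓ R := ⟨mem_zpowers a, haR⟩
  rwa [inf_eq_bot_of_coprime hcop, mem_bot] at h2

/-- The normal subgroup of all elements centralizing a section `A' / A`, `A` normal. -/
theorem commutator_le_iff_le_comap_centralizer {A A' L : Subgroup G} [A.Normal] :
    ⁅A', L⁆ ≤ A ↔
      L ≤ (centralizer ((A'.map (QuotientGroup.mk' A) : Subgroup (G ⧸ A)) : Set (G ⧸ A))).comap
        (QuotientGroup.mk' A) := by
  rw [← map_le_iff_le_comap, le_centralizer_iff, ← commutator_eq_bot_iff_le_centralizer,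
    ← map_commutator, Subgroup.map_eq_bot_iff, QuotientGroup.ker_mk']

end Cfsg.Agent.LocalStructure
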