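import Mathlib

/-!
# Averaging (transfer) of a fixed point over the cosets of a subgroup
-/

set_option autoImplicit false
set_option linter.all false

namespace Cfsg.Agent.LocalStructure

open Subgroup

variable {G : Type*} [Group G] [Finite G]

/-- The conjugation action of `k ∈ normalizer W` on `W`. -/
def conjW {W : Subgroup G} (k : normalizer (W : Set G)) : W →* W :=
  (W.normalizerMonoidHom k).toMonoidHom

theorem conjW_apply {W : Subgroup G} (k : normalizer (W : Set G)) (w : W) :
    ((conjW k w : W) : G) = k * w * (k : G)⁻¹ := rfl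

variable (W K S : Subgroup G) [IsMulCommutative W] (hWK : K ≤ normalizer (W : Set G))

open scoped IsMulCommutative

/-- `∏ kvk⁻¹` over representatives of the cosets of `S` in `K`. -/
noncomputable def avg : W →* W :=
  letI := Fintype.ofFinite (K ⧸ S.subgroupOf K)
  ∏ q : K ⧸ S.subgroupOf K, conjW (Subgroup.inclusion hWK q.out)

variable {W K S}

theorem avg_apply (v : W) :
    avg W K S hWK v =
      (letI := Fintype.ofFinite (K ⧸ S.subgroupOf K)
       ∏ q : K ⧸ S.subgroupOf K, conjW (Subgroup.inclusion hWK q.out) v) := by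
  simp only [avg, MonoidHom.finsetProd_apply]

theorem conjW_rep {v : W} (hfix : (v : G) ∈ centralizer (S : Set G)) {k k' : K}
    (h : k⁻¹ * k' ∈ S.subgroupOf K) :
    conjW (Subgroup.inclusion hWK k') v = conjW (Subgroup.inclusion hWK k) v := by
  apply Subtype.ext
  have hs : ((k⁻¹ * k' : K) : G) ∈ S := h
  have h2 := mem_centralizer_iff.mp hfix _ hs
  simp only [conjW_apply, coe_inclusion, Subgroup.coe_mul, Subgroup.coe_inv] at h2 ⊢
  calc (k' : G) * v * (k' : G)⁻¹ = (k : G) * ((k : G)⁻¹ * k' * v) * (k' : G)⁻¹ := by group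
    _ = (k : G) * (v * ((k : G)⁻¹ * k')) * (k' : G)⁻¹ := by rw [h2]
    _ = (k : G) * v * (k : G)⁻¹ := by group

/-- The average of an `S`-fixed element is fixed by `K`. -/
theorem avg_mem_centralizer {v : W} (hfix : (v : G) ∈ centralizer (S : Set G)) :
    ((avg W K S hWK v : W) : G) ∈ centralizer (K : Set G) := by
  classical
  letI := Fintype.ofFinite (K ⧸ S.subgroupOf K)
  rw [mem_centralizer_iff]
  intro k hk
  have h1 : conjW (Subgroup.inclusion hWK ⟨k, hk⟩) (avg W K S hWK v) = avg W K S hWK v := by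
    rw [avg_apply, map_prod]
    refine Fintype.prod_equiv (MulAction.toPerm (⟨k, hk⟩ : K)) _ _ fun q => ?_
    have e : conjW (Subgroup.inclusion hWK ⟨k, hk⟩) (conjW (Subgroup.inclusion hWK q.out) v) =
        conjW (Subgroup.inclusion hWK (⟨k, hk⟩ * q.out)) v := by
      apply Subtype.ext
      simp only [conjW_apply, coe_inclusion, Subgroup.coe_mul]
      group
    rw [e]
    apply conjW_rep hWK hfix
    rw [← QuotientGroup.eq, QuotientGroup.out_eq']
    conv_lhs => rw [← QuotientGroup.out_eq' q]
    rfl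
  have h2 := congrArg Subtype.val h1
  simp only [conjW_apply, coe_inclusion] at h2
  exact mul_inv_eq_iff_eq_mul.mp h2

/-- An element fixed by `K` is raised to the index. -/
theorem avg_of_fixed {v : W} (hfix : (v : G) ∈ centralizer (K : Set G)) :
    avg W K S hWK v = v ^ S.relIndex K := by
  classical
  letI := Fintype.ofFinite (K ⧸ S.subgroupOf K)
  rw [avg_apply, Finset.prod_congr rfl (g := fun _ => v) (fun q _ => ?_), Finset.prod_const,
    Finset.card_univ, ← Nat.card_eq_fintype_card, ← index_eq_card]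
  · rfl
  · apply Subtype.ext
    simp only [conjW_apply, coe_inclusion]
    rw [mem_centralizer_iff.mp hfix _ (q.out.2)]
    group

/-- `v ^ n` differs from the average of `v` by an element of any subgroup containing all
`v · (k v k⁻¹)⁻¹` for `k` in a set of representatives of the cosets. -/
theorem avg_congr {v : W} (D : Subgroup G) (hfix : (v : G) ∈ centralizer (S : Set G))
    (hD : ∀ k : K, ∃ k' : K, k⁻¹ * k' ∈ S.subgroupOf K ∧
      (v : G) * ((k' : G) * v * (k' : G)⁻¹)⁻¹ ∈ D) :
    ((v ^ S.relIndex K / avg W K S hWK v : W) : G) ∈ D := by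
  classical
  letI := Fintype.ofFinite (K ⧸ S.subgroupOf K)
  have e : v ^ S.relIndex K = ∏ _q : K ⧸ S.subgroupOf K, v := by
    rw [Finset.prod_const, Finset.card_univ, ← Nat.card_eq_fintype_card, ← index_eq_card]
    rfl
  rw [e, avg_apply, ← Finset.prod_div_distrib]
  suffices h : (∏ q : K ⧸ S.subgroupOf K, v / conjW (Subgroup.inclusion hWK q.out) v) ∈ D.subgroupOf W from h
  refine Subgroup.prod_mem _ fun q _ => ?_
  obtain ⟨k', hk', hmem⟩ := hD q.out
  rw [← conjW_rep hWK hfix hk', mem_subgroupOf]
  simpa [div_eq_mul_inv, conjW_apply] using hmem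

/-- Averaging commutes with conjugation by elements normalizing `W`, `K` and `S`. -/
theorem avg_conj {v : W} (hfix : (v : G) ∈ centralizer (S : Set G)) {t : G}
    (htW : t ∈ normalizer (W : Set G)) (htK : t ∈ normalizer (K : Set G))
    (htS : t ∈ normalizer (S : Set G)) :
    avg W K S hWK (conjW ⟨t, htW⟩ v) = conjW ⟨t, htW⟩ (avg W K S hWK v) := by
  classical
  letI := Fintype.ofFinite (K ⧸ S.subgroupOf K)
  let c : K ≃* K := K.normalizerMonoidHom ⟨t, htK⟩
  have hc : ∀ k : K, (c k : G) = t * k * t⁻¹ := fun k => rfl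
  have hcS : ∀ k : K, k ∈ S.subgroupOf K ↔ c k ∈ S.subgroupOf K := fun k => by
    rw [mem_subgroupOf, mem_subgroupOf, hc]
    exact mem_normalizer_iff.mp htS k
  let e : (K ⧸ S.subgroupOf K) ≃ (K ⧸ S.subgroupOf K) :=
    Quotient.congr c.toEquiv (fun a b => by
      rw [← Quotient.eq'', ← Quotient.eq'']
      show (QuotientGroup.mk a : K ⧸ _) = QuotientGroup.mk b ↔
        (QuotientGroup.mk (c a) : K ⧸ _) = QuotientGroup.mk (c b)
      rw [QuotientGroup.eq, QuotientGroup.eq, hcS, map_mul, map_inv])
  have he : ∀ k : K, e (QuotientGroup.mk k) = QuotientGroup.mk (c k) := fun k => rfl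
  rw [avg_apply, avg_apply, map_prod]
  refine (Fintype.prod_equiv e _ _ fun q => ?_).symm
  have hfix' : ((conjW ⟨t, htW⟩ v : W) : G) ∈ centralizer (S : Set G) := by
    rw [mem_centralizer_iff]
    intro s hs
    have h1 : t⁻¹ * s * t ∈ S := by
      have := (mem_normalizer_iff.mp (inv_mem htS) s).mp hs
      simpa using this
    have h2 := mem_centralizer_iff.mp hfix _ h1
    rw [conjW_apply]
    calc s * (t * (v : G) * t⁻¹) = t * (t⁻¹ * s * t * v) * t⁻¹ := by group
      _ = t * (v * (t⁻¹ * s * t)) * t⁻¹ := by rw [h2]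
      _ = _ := by group
  have hrep : conjW (Subgroup.inclusion hWK (e q).out) (conjW ⟨t, htW⟩ v) =
      conjW (Subgroup.inclusion hWK (c q.out)) (conjW ⟨t, htW⟩ v) := by
    apply conjW_rep hWK hfix'
    rw [← QuotientGroup.eq, QuotientGroup.out_eq', ← he, QuotientGroup.out_eq']
  rw [hrep]
  apply Subtype.ext
  simp only [conjW_apply, coe_inclusion, hc]
  group

end Cfsg.Agent.LocalStructure
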