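import Mathlib
import Cfsg.Prelude.Def_Transfer
import Cfsg.Agent.Core.PCore
import Cfsg.Agent.Fusion.Residual
import Cfsg.Agent.Layer.Subnormal
import Cfsg.Agent.Coprime.Basic

/-!
# `O^p` of subnormal subgroups, `p′`-elements
-/

set_option autoImplicit false
set_option linter.all false

namespace Cfsg.Agent.LocalStructure

open Subgroup
open scoped commutatorElement

variable {G : Type*} [Group G]

/-- `O^p(K)` inside the ambient group. -/
abbrev resOf (p : ℕ) (K : Subgroup G) : Subgroup G := (Cfsg.pResidual p K).map K.subtype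

theorem resOf_eq_closure (p : ℕ) (K : Subgroup G) :
    resOf p K = closure {g : G | g ∈ K ∧ (orderOf g).Coprime p} := by
  unfold resOf
  rw [Cfsg.pResidual, MonoidHom.map_closure]
  congr 1
  ext g
  constructor
  · rintro ⟨⟨x, hx⟩, hc, rfl⟩
    exact ⟨hx, by simpa [Subgroup.orderOf_mk] using hc⟩
  · rintro ⟨hg, hc⟩
    exact ⟨⟨g, hg⟩, by simpa [Subgroup.orderOf_mk] using hc, rfl⟩

theorem resOf_le (p : ℕ) (K : Subgroup G) : resOf p K ≤ K := map_subtype_le _

theorem mem_resOf {p : ℕ} {K : Subgroup G} {g : G} (hg : g ∈ K) (hc : (orderOf g).Coprime p) :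
    g ∈ resOf p K := by
  rw [resOf_eq_closure]
  exact subset_closure ⟨hg, hc⟩

theorem resOf_mono (p : ℕ) {K L : Subgroup G} (h : K ≤ L) : resOf p K ≤ resOf p L := by
  rw [resOf_eq_closure, resOf_eq_closure]
  exact closure_mono fun g hg => ⟨h hg.1, hg.2⟩

theorem resOf_le_iff {p : ℕ} {K C : Subgroup G} :
    resOf p K ≤ C ↔ ∀ g ∈ K, (orderOf g).Coprime p → g ∈ C := by
  rw [resOf_eq_closure, closure_le]
  exact ⟨fun h g hg hc => h ⟨hg, hc⟩, fun h g hg => h g hg.1 hg.2⟩

theorem resOf_top (p : ℕ) : resOf p (⊤ : Subgroup G) = Cfsg.pResidual p G := by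
  rw [resOf_eq_closure]
  simp [Cfsg.pResidual]

theorem resOf_resOf [Finite G] (p : ℕ) (K : Subgroup G) : resOf p (resOf p K) = resOf p K := by
  refine le_antisymm (resOf_le _ _) ?_
  conv_lhs => rw [resOf_eq_closure]
  rw [closure_le]
  exact fun g hg => mem_resOf (mem_resOf hg.1 hg.2) hg.2

theorem orderOf_conj (g x : G) : orderOf (g * x * g⁻¹) = orderOf x :=
  (MulAut.conj g).orderOf_eq x

theorem le_normalizer_resOf (p : ℕ) {A K : Subgroup G} (h : A ≤ normalizer (K : Set G)) :
    A ≤ normalizer ((resOf p K : Subgroup G) : Set G) := by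
  have key : ∀ a ∈ A, ∀ x ∈ resOf p K, a * x * a⁻¹ ∈ resOf p K := by
    intro a ha
    suffices resOf p K ≤ (resOf p K).comap (MulAut.conj a).toMonoidHom from fun x hx => this hx
    rw [resOf_le_iff]
    intro g hg hc
    exact mem_resOf ((mem_normalizer_iff.mp (h ha) g).mp hg)
      (by rw [show (MulAut.conj a).toMonoidHom g = a * g * a⁻¹ from rfl, orderOf_conj]; exact hc)
  intro a ha
  rw [mem_normalizer_iff]
  intro x
  refine ⟨key a ha x, fun hx => ?_⟩
  have := key a⁻¹ (A.inv_mem ha) _ hx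
  simpa [mul_assoc] using this

instance resOf_normal {K : Subgroup G} [K.Normal] {p : ℕ} : (resOf p K).Normal := by
  rw [← normalizer_eq_top_iff, eq_top_iff]
  exact le_normalizer_resOf p (by rw [normalizer_eq_top (H := K)])

theorem pCoreOf_subnormal_eq [Finite G] {p : ℕ} [Fact p.Prime] {L : Subgroup G}
    (hL : L.IsSubnormal) : (Cfsg.pCore p L).map L.subtype = L ⊓ Cfsg.pCore p G := by
  refine le_antisymm (le_inf (map_subtype_le _) ?_) ?_
  · exact Layer.subnormal_le_pCore
      ((Normal.isSubnormal (inferInstance : (Cfsg.pCore p L).Normal)).trans' hL)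
      (Core.pCore_isPGroup.map _)
  · intro x hx
    exact ⟨⟨x, hx.1⟩, Core.le_pCore (N := (Cfsg.pCore p G).subgroupOf L)
      (hN := normal_subgroupOf) (Core.pCore_isPGroup.comap_of_injective L.subtype L.subtype_injective)
      (show (⟨x, hx.1⟩ : L) ∈ (Cfsg.pCore p G).subgroupOf L from hx.2), rfl⟩

variable {p : ℕ} [hp : Fact p.Prime]

/-- A subnormal subgroup of `p`-power index contains every `p′`-element. -/
theorem mem_of_coprime_of_subnormal_index [Finite G] {K : Subgroup G} (hK : K.IsSubnormal)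
    (hidx : ∃ k : ℕ, K.index = p ^ k) {g : G} (hg : (orderOf g).Coprime p) : g ∈ K := by
  induction hK with
  | top => exact mem_top g
  | step H M hle _ hN ih =>
    obtain ⟨k, hk⟩ := hidx
    have hM : g ∈ M := by
      obtain ⟨j, -, hj⟩ := (Nat.dvd_prime_pow hp.out).mp (hk ▸ index_dvd_of_le hle)
      exact ih ⟨j, hj⟩
    obtain ⟨j, -, hj⟩ := (Nat.dvd_prime_pow hp.out).mp
      (hk ▸ (relIndex_mul_index hle ▸ dvd_mul_right _ _ : H.relIndex M ∣ H.index))
    have h1 : orderOf (QuotientGroup.mk' (H.subgroupOf M) ⟨g, hM⟩) ∣ p ^ j := by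
      rw [← hj, relIndex, index_eq_card]
      exact orderOf_dvd_natCard _
    have h3 : orderOf (QuotientGroup.mk' (H.subgroupOf M) ⟨g, hM⟩) ∣ orderOf g := by
      have := orderOf_map_dvd (QuotientGroup.mk' (H.subgroupOf M)) ⟨g, hM⟩
      rwa [Subgroup.orderOf_mk] at this
    have h4 := Nat.eq_one_of_dvd_coprimes (hg.pow_right j) h3 h1
    rw [orderOf_eq_one_iff, QuotientGroup.mk'_apply, QuotientGroup.eq_one_iff] at h4
    exact h4

/-- A subnormal subgroup of `p`-power index in `X` has the same `O^p`. -/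
theorem resOf_eq_of_subnormal [Finite G] {K X : Subgroup G} (hKX : K ≤ X)
    (hK : (K.subgroupOf X).IsSubnormal) (hidx : ∃ k : ℕ, K.relIndex X = p ^ k) :
    resOf p K = resOf p X := by
  refine le_antisymm (resOf_mono p hKX) ?_
  rw [resOf_le_iff]
  exact fun g hg hc => mem_resOf
    (mem_of_coprime_of_subnormal_index hK hidx (g := ⟨g, hg⟩) (by rwa [Subgroup.orderOf_mk])) hc

/-- A subnormal `p`-subgroup normalizes `O^p` of every subnormal subgroup, and does not change it. -/
theorem resOf_sup_of_subnormal [Finite G] {A K : Subgroup G} (hA : A.IsSubnormal)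
    (hAp : IsPGroup p A) (hK : K.IsSubnormal) :
    A ≤ normalizer ((resOf p K : Subgroup G) : Set G) ∧ resOf p (A ⊔ K) = resOf p K := by
  set X : Subgroup G := A ⊔ K with hX
  set A' : Subgroup X := A.subgroupOf X with hA'
  set K' : Subgroup X := K.subgroupOf X with hK'
  have hO : A' ≤ Cfsg.pCore p X :=
    Layer.subnormal_le_pCore hA.subgroupOf (hAp.comap_of_injective X.subtype X.subtype_injective)
  have htop : K' ⊔ Cfsg.pCore p X = ⊤ := by
    rw [eq_top_iff]
    refine le_trans ?_ (sup_le_sup_left hO _)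
    rw [← subgroupOf_sup le_sup_right le_sup_left]
    intro x _
    rw [mem_subgroupOf, sup_comm]
    exact x.2
  have hidx : ∃ k : ℕ, K.relIndex X = p ^ k := by
    obtain ⟨n, hn⟩ := IsPGroup.iff_card.mp (Core.pCore_isPGroup (p := p) (G := X))
    have h1 := relIndex_sup_right (H := K') (K := Cfsg.pCore p X)
    have h2 : K'.index * Nat.card ↥(K' ⊓ Cfsg.pCore p X) = Nat.card (Cfsg.pCore p X) := by
      have h3 := Core.card_sup_mul_card_inf K' (Cfsg.pCore p X)
      rw [htop, card_top, ← index_mul_card K'] at h3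
      have h4 : Nat.card K' * (K'.index * Nat.card ↥(K' ⊓ Cfsg.pCore p X)) =
          Nat.card K' * Nat.card (Cfsg.pCore p X) := by rw [← h3]; ring
      exact Nat.eq_of_mul_eq_mul_left Nat.card_pos h4
    obtain ⟨k, -, hk⟩ := (Nat.dvd_prime_pow hp.out).mp (hn ▸ h2 ▸ dvd_mul_right _ _ :
      K'.index ∣ p ^ n)
    exact ⟨k, hk⟩
  have heq := resOf_eq_of_subnormal le_sup_right hK.subgroupOf hidx
  refine ⟨?_, heq.symm⟩
  rw [heq]
  exact le_sup_left.trans (le_normalizer_resOf p le_normalizer)

/-- A normal `p`-subgroup `V` is moved by `O^p` of a subnormal subgroup `K` inside `K`. -/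
theorem commutator_resOf_le [Finite G] {V K : Subgroup G} (hV : V.IsSubnormal) (hVp : IsPGroup p V)
    (hK : K.IsSubnormal) : ⁅V, resOf p K⁆ ≤ resOf p K := by
  rw [commutator_comm]
  exact le_normalizer_iff_commutator_le_left.mp (resOf_sup_of_subnormal hV hVp hK).1

/-- A `p′`-element acting on a `p`-group and trivially on `[V, g]` centralizes `V`. -/
theorem commute_of_double_commutator [Finite G] {V : Subgroup G} (hV : IsPGroup p V) {g : G}
    (hg : g ∈ normalizer (V : Set G)) (hgc : (orderOf g).Coprime p)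
    (h : ∀ v ∈ V, Commute g ⁅g, v⁆) : g ∈ centralizer (V : Set G) := by
  set A : Subgroup G := zpowers g with hA
  have hAV : A ≤ normalizer (V : Set G) := zpowers_le.mpr hg
  obtain ⟨n, hn⟩ := IsPGroup.iff_card.mp hV
  have hcop : (Nat.card A).Coprime (Nat.card V) := by
    rw [hA, Nat.card_zpowers, hn]; exact hgc.pow_right n
  have hsolv : Group.IsSolvable V := by have := hV.isNilpotent; infer_instance
  rw [mem_centralizer_iff]
  intro v hv
  set d := ⁅g, v⁆ with hd
  have hdV : d ∈ V := by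
    rw [hd, commutatorElement_def]
    exact V.mul_mem ((mem_normalizer_iff.mp hg v).mp hv) (V.inv_mem hv)
  have hgv : g * v * g⁻¹ = d * v := by rw [hd, commutatorElement_def]; group
  have hgd : Commute g d := h v hv
  clear_value d
  have hiter : ∀ m : ℕ, g ^ m * v * (g ^ m)⁻¹ = d ^ m * v := by
    intro m
    induction m with
    | zero => simp
    | succ m ih =>
      calc g ^ (m + 1) * v * (g ^ (m + 1))⁻¹ = g * (g ^ m * v * (g ^ m)⁻¹) * g⁻¹ := by
            rw [pow_succ']; group
        _ = (g * d ^ m) * v * g⁻¹ := by rw [ih]; group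
        _ = d ^ m * (g * v * g⁻¹) := by rw [(hgd.pow_right m).eq]; group
        _ = _ := by rw [hgv, pow_succ]; group
  have h1 : d ^ orderOf g = 1 := by
    have := hiter (orderOf g)
    rw [pow_orderOf_eq_one] at this
    simpa using this.symm
  have h2 : d ^ p ^ n = 1 := by
    rw [← hn]
    exact orderOf_dvd_iff_pow_eq_one.mp (V.orderOf_dvd_natCard hdV)
  have hd1 : d = 1 := by
    have := pow_gcd_eq_one.mpr ⟨h1, h2⟩
    rwa [Nat.Coprime.gcd_eq_one (hgc.pow_right n), pow_one] at this
  rw [hd1, one_mul] at hgv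
  exact (mul_inv_eq_iff_eq_mul.mp hgv).symm

end Cfsg.Agent.LocalStructure

namespace Cfsg.Agent.LocalStructure

/-- A `p′`-element with a `p`-power in `C` lies in `C`. -/
theorem mem_of_pow_mem_of_coprime {G : Type*} [Group G] {p : ℕ} {C : Subgroup G} {g : G} {j : ℕ}
    (h : g ^ p ^ j ∈ C) (hg : (orderOf g).Coprime p) : g ∈ C := by
  obtain ⟨m, hm⟩ := exists_pow_eq_self_of_coprime (x := g) (hg.pow_right j).symm
  rw [← hm]
  exact C.pow_mem h m

end Cfsg.Agent.LocalStructure
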