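import Mathlib
import Cfsg.Agent.Fusion.Alperin
import Cfsg.Agent.Core.Basics

/-!
# Normalizers of `p`-subgroups in quotients
-/

set_option autoImplicit false
set_option linter.all false

namespace Cfsg.Agent.LocalStructure

open Subgroup

variable {G : Type*} [Group G] [Finite G] {p : ℕ} [Fact p.Prime]

theorem relIndex_sup_normal (H N : Subgroup G) [N.Normal] :
    H.relIndex (H ⊔ N) = H.relIndex N := by
  have h1 : Nat.card H * H.relIndex (H ⊔ N) = Nat.card (H ⊔ N : Subgroup G) := by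
    rw [← Subgroup.relIndex_bot_left, ← Subgroup.relIndex_bot_left,
      Subgroup.relIndex_mul_relIndex _ _ _ bot_le le_sup_left]
  have h2 : Nat.card (H ⊓ N : Subgroup G) * (H ⊓ N).relIndex N = Nat.card N := by
    rw [← Subgroup.relIndex_bot_left, ← Subgroup.relIndex_bot_left,
      Subgroup.relIndex_mul_relIndex _ _ _ bot_le inf_le_right]
  rw [Subgroup.inf_relIndex_right] at h2
  have h3 := Core.card_sup_mul_card_inf H N
  rw [← h1, ← h2] at h3
  have hpos : 0 < Nat.card H * Nat.card (H ⊓ N : Subgroup G) :=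
    Nat.mul_pos Nat.card_pos Nat.card_pos
  exact Nat.eq_of_mul_eq_mul_left hpos (by linarith)

theorem not_dvd_relIndex_normal (P : Sylow p G) (N : Subgroup G) [N.Normal] :
    ¬ p ∣ (P : Subgroup G).relIndex N := by
  rw [← relIndex_sup_normal]
  exact fun h => P.not_dvd_index (h.trans
    (Subgroup.relIndex_mul_index (le_sup_left : (P : Subgroup G) ≤ (P : Subgroup G) ⊔ N) ▸
      dvd_mul_right _ _))

/-- An element normalizing a nontrivial subgroup `R` of the image of `P` in `G ⧸ N` is, modulo `R`,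
the image of an element normalizing a nontrivial subgroup of `P`. -/
theorem exists_mul_of_mem_normalizer_quotient (P : Sylow p G) (N : Subgroup G) [N.Normal]
    {R : Subgroup (G ⧸ N)} (hR : R ≤ (P : Subgroup G).map (QuotientGroup.mk' N)) (hR0 : R ≠ ⊥)
    {x : G ⧸ N} (hx : x ∈ normalizer (R : Set (G ⧸ N))) :
    ∃ R0 : Subgroup G, R0 ≤ (P : Subgroup G) ∧ R0 ≠ ⊥ ∧ ∃ m g : G,
      QuotientGroup.mk' N m ∈ R ∧ g ∈ normalizer (R0 : Set G) ∧
      x = QuotientGroup.mk' N m * QuotientGroup.mk' N g := by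
  obtain ⟨g, rfl⟩ := QuotientGroup.mk'_surjective N x
  set M : Subgroup G := R.comap (QuotientGroup.mk' N) with hM
  set R0 : Subgroup G := (P : Subgroup G) ⊓ M with hR0d
  have hNM : N ≤ M := by
    intro n hn
    show QuotientGroup.mk' N n ∈ R
    rw [show QuotientGroup.mk' N n = 1 from (QuotientGroup.eq_one_iff n).mpr hn]
    exact R.one_mem
  have hMeq : M = R0 ⊔ N := by
    refine le_antisymm (fun m hm => ?_) (sup_le inf_le_right hNM)
    obtain ⟨q, hq, hqm⟩ := hR hm
    have h1 : q⁻¹ * m ∈ N := QuotientGroup.eq.mp hqm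
    have h2 : q ∈ M := by
      show QuotientGroup.mk' N q ∈ R
      rw [hqm]
      exact hm
    have h3 : q * (q⁻¹ * m) ∈ R0 ⊔ N := Subgroup.mul_mem_sup ⟨hq, h2⟩ h1
    simpa using h3
  have hR00 : R0 ≠ ⊥ := by
    intro e
    rw [e, bot_sup_eq] at hMeq
    refine hR0 (eq_bot_iff.mpr fun r hr => ?_)
    obtain ⟨r', rfl⟩ := QuotientGroup.mk'_surjective N r
    have : r' ∈ N := hMeq ▸ (show r' ∈ M from hr)
    exact (QuotientGroup.eq_one_iff r').mpr this
  have hidx : ¬ p ∣ R0.relIndex M := by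
    rw [hMeq, relIndex_sup_normal, hR0d, ← Subgroup.inf_relIndex_right, inf_assoc,
      inf_eq_right.mpr hNM, Subgroup.inf_relIndex_right]
    exact not_dvd_relIndex_normal P N
  have hgM : ∀ r ∈ R0, g * r * g⁻¹ ∈ M := fun r hr => by
    have h1 := (Subgroup.mem_normalizer_iff.mp hx (QuotientGroup.mk' N r)).mp hr.2
    show QuotientGroup.mk' N (g * r * g⁻¹) ∈ R
    rw [map_mul, map_mul, map_inv]
    exact h1
  obtain ⟨m, hm, hle⟩ := Fusion.exists_conjSub_le_of_not_dvd_relIndex (S := R0) (N := M)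
    (T := R0.map (MulAut.conj g).toMonoidHom) inf_le_right (P.isPGroup'.to_le inf_le_left) hidx
    (by rintro _ ⟨r, hr, rfl⟩; exact hgM r hr) ((P.isPGroup'.to_le inf_le_left).map _)
  refine ⟨R0, inf_le_left, hR00, m, m⁻¹ * g, hm, ?_, by rw [← map_mul, mul_inv_cancel_left]⟩
  refine Subgroup.mem_normalizer_fintype (S := (R0 : Set G)) fun q hq => ?_
  have h1 : m⁻¹ * (g * q * g⁻¹) * m ∈ R0 := by
    apply hle
    rw [Fusion.mem_conjSub]
    exact ⟨q, hq, by simp [mul_assoc]⟩
  rw [show m⁻¹ * g * q * (m⁻¹ * g)⁻¹ = m⁻¹ * (g * q * g⁻¹) * m by group]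
  exact h1

end Cfsg.Agent.LocalStructure
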