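import Mathlib
import Cfsg.Prelude.Def_LocalStructure
import Cfsg.Agent.LocalStructure.PResidual
import Cfsg.Agent.Thompson.Basic
import Cfsg.Agent.Fusion.Alperin
import Cfsg.Agent.LocalStructure.QuotientNormalizer

/-!
# `p`-reduced normal subgroups and `Y_L`
-/

set_option autoImplicit false
set_option linter.all false

namespace Cfsg.Agent.LocalStructure

open Subgroup

variable {G : Type*} [Group G] [Finite G] {p : ℕ} [hp : Fact p.Prime]

/-! ### Elementary facts -/

theorem exists_pow_mem_of_coprime_mem {K C : Subgroup G}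
    (h : ∀ g ∈ K, (orderOf g).Coprime p → g ∈ C) {g : G} (hg : g ∈ K) :
    ∃ k : ℕ, g ^ p ^ k ∈ C := by
  obtain ⟨a, b, hab, hcomm, ha, hb, ⟨k, hk⟩, hbc⟩ :=
    Fusion.exists_pPart_mul (p := p) g (isOfFinOrder_of_finite g)
  refine ⟨k, ?_⟩
  rw [hab, hcomm.mul_pow, orderOf_dvd_iff_pow_eq_one.mp hk, one_mul]
  exact C.pow_mem (h b (zpowers_le.mpr hg hb) hbc) _

theorem isPGroup_map_of_coprime_mem (C : Subgroup G) [C.Normal] {K : Subgroup G}
    (h : ∀ g ∈ K, (orderOf g).Coprime p → g ∈ C) :
    IsPGroup p (K.map (QuotientGroup.mk' C)) := by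
  rintro ⟨_, g, hg, rfl⟩
  obtain ⟨k, hk⟩ := exists_pow_mem_of_coprime_mem h hg
  exact ⟨k, Subtype.ext (by simpa using (QuotientGroup.eq_one_iff (g ^ p ^ k)).mpr hk)⟩

/-- A subgroup `K` is covered by `O^p(K)` and a Sylow subgroup. -/
theorem le_resOf_sup {K S : Subgroup G} (hS : S ≤ K) (hSp : IsPGroup p S)
    (hidx : ¬ p ∣ S.relIndex K) : K ≤ resOf p K ⊔ S := by
  have h := Fusion.sylow_sup_pResidual (G := K)
    ((hSp.comap_of_injective K.subtype K.subtype_injective).toSylow hidx)
  have h2 := congrArg (Subgroup.map K.subtype) h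
  rw [Subgroup.map_sup, ← MonoidHom.range_eq_map, range_subtype] at h2
  refine h2.ge.trans (sup_le ?_ le_sup_left)
  show (S.subgroupOf K).map K.subtype ≤ _
  rw [map_subgroupOf_eq_of_le hS]
  exact le_sup_right

/-- A Sylow subgroup meets a normalized subgroup in a Sylow subgroup. -/
theorem not_dvd_relIndex_inf (T : Sylow p G) {K : Subgroup G}
    (hK : (T : Subgroup G) ≤ normalizer (K : Set G)) : ¬ p ∣ ((T : Subgroup G) ⊓ K).relIndex K := by
  rw [inf_relIndex_right]
  have hN : (K.subgroupOf (normalizer (K : Set G))).Normal := normal_subgroupOf_of_le_normalizer le_rfl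
  have h1 := not_dvd_relIndex_normal (T.subtype hK) (K.subgroupOf (normalizer (K : Set G)))
  rwa [Sylow.coe_subtype, relIndex_subgroupOf Subgroup.le_normalizer] at h1

theorem ea_le_centralizer {A B : Subgroup G} (hB : Cfsg.IsElementaryAbelian p B) (h : A ≤ B) :
    A ≤ centralizer (B : Set G) :=
  h.trans (Thompson.ea_iff.mp hB).1

theorem ea_isMulCommutative {A : Subgroup G} (hA : Cfsg.IsElementaryAbelian p A) :
    IsMulCommutative A := hA.1

/-! ### `p`-reduced normal subgroups -/

theorem isPReducedNormal_iff {V : Subgroup G} :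
    Cfsg.IsPReducedNormal p V ↔ V.Normal ∧ Cfsg.IsElementaryAbelian p V ∧
      ∀ K : Subgroup G, K.Normal → (∀ g ∈ K, (orderOf g).Coprime p → g ∈ centralizer (V : Set G)) →
        K ≤ centralizer (V : Set G) := by
  constructor
  · rintro ⟨hn, hea, hC, h⟩
    refine ⟨hn, hea, fun K hK hg => ?_⟩
    haveI := hK.map (QuotientGroup.mk' (centralizer (V : Set G))) (QuotientGroup.mk'_surjective _)
    have h1 := (Core.le_pCore (isPGroup_map_of_coprime_mem (centralizer (V : Set G)) hg)).trans h.le
    rwa [le_bot_iff, Subgroup.map_eq_bot_iff, QuotientGroup.ker_mk'] at h1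
  · rintro ⟨hn, hea, h⟩
    haveI := hn
    haveI hC : (centralizer (V : Set G)).Normal := inferInstance
    refine ⟨hn, hea, hC, ?_⟩
    set f := QuotientGroup.mk' (centralizer (V : Set G)) with hf
    set K := (Cfsg.pCore p (G ⧸ centralizer (V : Set G))).comap f with hK
    have h1 : K ≤ centralizer (V : Set G) := by
      refine h K ((inferInstance : (Cfsg.pCore p (G ⧸ centralizer (V : Set G))).Normal).comap _) ?_
      intro g hg hgc
      obtain ⟨k, hk⟩ := (Core.pCore_isPGroup (p := p) (G := G ⧸ centralizer (V : Set G))) ⟨f g, hg⟩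
      have h2 : orderOf (f g) ∣ p ^ k := orderOf_dvd_of_pow_eq_one (by simpa [Subtype.ext_iff] using hk)
      have h3 := Nat.eq_one_of_dvd_coprimes (hgc.pow_right k) (orderOf_map_dvd f g) h2
      rw [orderOf_eq_one_iff] at h3
      exact (QuotientGroup.eq_one_iff g).mp h3
    rw [eq_bot_iff]
    intro x hx
    obtain ⟨g, rfl⟩ := QuotientGroup.mk'_surjective _ x
    exact (QuotientGroup.eq_one_iff g).mpr (h1 hx)

/-- In a `p`-reduced situation also the subnormal subgroups acting as `p`-groups act trivially. -/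
theorem le_centralizer_of_subnormal {V : Subgroup G} (hV : Cfsg.IsPReducedNormal p V)
    {K : Subgroup G} (hK : K.IsSubnormal)
    (h : ∀ g ∈ K, (orderOf g).Coprime p → g ∈ centralizer (V : Set G)) :
    K ≤ centralizer (V : Set G) := by
  obtain ⟨hn, hea, hC, hcore⟩ := hV
  have h1 := (Layer.subnormal_le_pCore (hK.map (QuotientGroup.mk'_surjective (centralizer (V : Set G))))
    (isPGroup_map_of_coprime_mem (centralizer (V : Set G)) h)).trans hcore.le
  rwa [le_bot_iff, Subgroup.map_eq_bot_iff, QuotientGroup.ker_mk'] at h1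

theorem coprime_mem_centralizer_of_isPGroup {K C : Subgroup G} (hK : IsPGroup p K) {g : G}
    (hg : g ∈ K) (hgc : (orderOf g).Coprime p) : g ∈ C := by
  obtain ⟨k, hk⟩ := hK ⟨g, hg⟩
  have h2 : orderOf g ∣ p ^ k := orderOf_dvd_of_pow_eq_one (by simpa [Subtype.ext_iff] using hk)
  have h3 := Nat.eq_one_of_dvd_coprimes (hgc.pow_right k) dvd_rfl h2
  rw [orderOf_eq_one_iff] at h3
  exact h3 ▸ C.one_mem

theorem pCore_le_centralizer {V : Subgroup G} (hV : Cfsg.IsPReducedNormal p V) :
    Cfsg.pCore p G ≤ centralizer (V : Set G) :=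
  (isPReducedNormal_iff.mp hV).2.2 _ inferInstance fun g hg hgc =>
    coprime_mem_centralizer_of_isPGroup Core.pCore_isPGroup hg hgc

theorem pReduced_le_pCore {V : Subgroup G} (hV : Cfsg.IsPReducedNormal p V) :
    V ≤ Cfsg.pCore p G :=
  haveI := hV.1
  Core.le_pCore (Thompson.ea_isPGroup hV.2.1)

theorem pReduced_bot : Cfsg.IsPReducedNormal p (⊥ : Subgroup G) :=
  isPReducedNormal_iff.mpr ⟨inferInstance, Thompson.ea_bot, fun K _ _ x _ => by
    rw [mem_centralizer_iff]
    intro y hy
    rw [Subgroup.coe_bot, Set.mem_singleton_iff] at hy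
    simp [hy]⟩

theorem centralizer_sup_eq (U V : Subgroup G) :
    centralizer ((U ⊔ V : Subgroup G) : Set G) =
      centralizer (U : Set G) ⊓ centralizer (V : Set G) := by
  refine le_antisymm (le_inf (centralizer_le (SetLike.coe_subset_coe.mpr (le_sup_left : U ≤ U ⊔ V))) (centralizer_le (SetLike.coe_subset_coe.mpr (le_sup_right : V ≤ U ⊔ V)))) ?_
  rw [le_centralizer_iff]
  exact sup_le (le_centralizer_iff.mp inf_le_left) (le_centralizer_iff.mp inf_le_right)

theorem pReduced_sup {U V : Subgroup G} (hU : Cfsg.IsPReducedNormal p U)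
    (hV : Cfsg.IsPReducedNormal p V) : Cfsg.IsPReducedNormal p (U ⊔ V) := by
  haveI := hU.1
  haveI := hV.1
  refine isPReducedNormal_iff.mpr ⟨inferInstance, Thompson.ea_sup hU.2.1 hV.2.1
    ((pReduced_le_pCore hU).trans (pCore_le_centralizer hV)), fun K hK hg => ?_⟩
  rw [centralizer_sup_eq] at hg ⊢
  exact le_inf ((isPReducedNormal_iff.mp hU).2.2 K hK fun g h1 h2 => (hg g h1 h2).1)
    ((isPReducedNormal_iff.mp hV).2.2 K hK fun g h1 h2 => (hg g h1 h2).2)

theorem pReduced_largest : Cfsg.IsPReducedNormal p (Cfsg.largestPReduced p G) := by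
  unfold Cfsg.largestPReduced
  have hs : Set.Finite {V : Subgroup G | Cfsg.IsPReducedNormal p V} := Set.toFinite _
  suffices h : ∀ s : Set (Subgroup G), s.Finite → (∀ V ∈ s, Cfsg.IsPReducedNormal p V) →
      Cfsg.IsPReducedNormal p (sSup s) from h _ hs fun V hV => hV
  intro s hs
  induction s, hs using Set.Finite.induction_on with
  | empty => intro _; rw [sSup_empty]; exact pReduced_bot
  | @insert V t _ _ ih =>
    intro h
    rw [sSup_insert]
    exact pReduced_sup (h V (Set.mem_insert _ _)) (ih fun W hW => h W (Set.mem_insert_of_mem _ hW))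

theorem le_largest {V : Subgroup G} (hV : Cfsg.IsPReducedNormal p V) :
    V ≤ Cfsg.largestPReduced p G := le_sSup hV

/-- `Y_G` centralizes `O_p(G)` and lies in it. -/
theorem largest_le_omega : Cfsg.largestPReduced p G ≤
    Cfsg.omegaOne p (Cfsg.pCore p G ⊓ centralizer (Cfsg.pCore p G : Set G)) := fun y hy =>
  Thompson.mem_omegaOne
    ⟨pReduced_le_pCore pReduced_largest hy,
      le_centralizer_iff.mp (pCore_le_centralizer pReduced_largest) hy⟩
    (pReduced_largest.2.1.2 y hy)

/-! ### Inside a subgroup -/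

theorem le_normalizer_map_of_normal (L : Subgroup G) (N : Subgroup L) [N.Normal] :
    L ≤ normalizer ((N.map L.subtype : Subgroup G) : Set G) := by
  have h : L = (⊤ : Subgroup L).map L.subtype := by rw [← MonoidHom.range_eq_map, range_subtype]
  refine h.le.trans ?_
  rw [← normalizer_eq_top (H := N)]
  exact le_normalizer_map _

/-- `V` is a `p`-reduced normal subgroup of `L`, in terms of the ambient group. -/
structure ReducedIn (p : ℕ) (L V : Subgroup G) : Prop where
  le : V ≤ L
  le_normalizer : L ≤ normalizer (V : Set G)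
  ea : Cfsg.IsElementaryAbelian p V
  reduced : ∀ K : Subgroup G, K ≤ L → L ≤ normalizer (K : Set G) →
    (∀ g ∈ K, (orderOf g).Coprime p → g ∈ centralizer (V : Set G)) → K ≤ centralizer (V : Set G)

theorem mem_centralizer_subgroupOf {L V : Subgroup G} (hV : V ≤ L) {x : L} :
    x ∈ centralizer ((V.subgroupOf L : Subgroup L) : Set L) ↔ (x : G) ∈ centralizer (V : Set G) := by
  constructor
  · intro h
    rw [mem_centralizer_iff]
    intro v hv
    exact congrArg Subtype.val (mem_centralizer_iff.mp h ⟨v, hV hv⟩ hv)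
  · intro h
    rw [mem_centralizer_iff]
    intro v hv
    exact Subtype.ext (mem_centralizer_iff.mp h v hv)

theorem reducedIn_iff {L V : Subgroup G} (hVL : V ≤ L) :
    ReducedIn p L V ↔ Cfsg.IsPReducedNormal p (V.subgroupOf L) := by
  rw [isPReducedNormal_iff]
  constructor
  · intro h
    refine ⟨normal_subgroupOf_of_le_normalizer h.le_normalizer,
      (Thompson.ea_map_iff L.subtype_injective).mp (by rw [map_subgroupOf_eq_of_le hVL]; exact h.ea),
      fun K hK hg => ?_⟩
    have h1 : K.map L.subtype ≤ centralizer (V : Set G) := by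
      refine h.reduced _ (map_subtype_le _) ?_ ?_
      · intro l hl
        rw [mem_normalizer_iff]
        intro x
        constructor
        · rintro ⟨k, hk, rfl⟩
          exact ⟨⟨l, hl⟩ * k * ⟨l, hl⟩⁻¹, hK.conj_mem k hk _, rfl⟩
        · rintro ⟨k, hk, hkx⟩
          refine ⟨⟨l, hl⟩⁻¹ * k * ⟨l, hl⟩, by simpa using hK.conj_mem k hk (⟨l, hl⟩⁻¹), ?_⟩
          simp only [map_mul, map_inv, hkx]
          simp only [Subgroup.coe_subtype]
          group
      · rintro _ ⟨k, hk, rfl⟩ hc
        exact (mem_centralizer_subgroupOf hVL).mp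
          (hg k hk (by simpa [orderOf_injective L.subtype L.subtype_injective] using hc))
    exact fun k hk => (mem_centralizer_subgroupOf hVL).mpr (h1 ⟨k, hk, rfl⟩)
  · rintro ⟨hn, hea, h⟩
    refine ⟨hVL, ?_, ?_, fun K hKL hLK hg => ?_⟩
    · exact (normal_subgroupOf_iff_le_normalizer hVL).mp hn
    · have := Thompson.ea_map hea L.subtype
      rwa [map_subgroupOf_eq_of_le hVL] at this
    · have h1 := h (K.subgroupOf L) (normal_subgroupOf_of_le_normalizer hLK) (fun k hk hc =>
        (mem_centralizer_subgroupOf hVL).mpr (hg k hk (by rwa [Subgroup.orderOf_coe])))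
      intro k hk
      exact (mem_centralizer_subgroupOf hVL).mp (h1 (show (⟨k, hKL hk⟩ : L) ∈ K.subgroupOf L from hk))

theorem largestOf_le (p : ℕ) (L : Subgroup G) : Cfsg.largestPReducedOf p L ≤ L := map_subtype_le _

theorem reducedIn_largest (L : Subgroup G) : ReducedIn p L (Cfsg.largestPReducedOf p L) := by
  rw [reducedIn_iff (largestOf_le p L)]
  show Cfsg.IsPReducedNormal p (((Cfsg.largestPReduced p L).map L.subtype).comap L.subtype)
  rw [comap_map_eq_self_of_injective L.subtype_injective]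
  exact pReduced_largest

theorem le_largestOf {L V : Subgroup G} (hV : ReducedIn p L V) :
    V ≤ Cfsg.largestPReducedOf p L := by
  intro v hv
  exact ⟨⟨v, hV.le hv⟩, le_largest ((reducedIn_iff hV.le).mp hV)
    (show (⟨v, hV.le hv⟩ : L) ∈ V.subgroupOf L from hv), rfl⟩

theorem reducedIn_top_iff {V : Subgroup G} :
    ReducedIn p ⊤ V ↔ Cfsg.IsPReducedNormal p V := by
  rw [isPReducedNormal_iff]
  constructor
  · intro h
    exact ⟨normalizer_eq_top_iff.mp (top_le_iff.mp h.le_normalizer), h.ea, fun K hK hg =>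
      h.reduced K le_top (normalizer_eq_top (H := K)).ge hg⟩
  · rintro ⟨hn, hea, h⟩
    exact ⟨le_top, (normalizer_eq_top (H := V)).ge, hea, fun K _ hK hg =>
      h K (normalizer_eq_top_iff.mp (top_le_iff.mp hK)) hg⟩

theorem pCoreOf_le_centralizer {L V : Subgroup G} (hV : ReducedIn p L V) :
    Cfsg.pCoreOf p L ≤ centralizer (V : Set G) := by
  refine hV.reduced _ (map_subtype_le _) ?_ fun g hg hgc =>
    coprime_mem_centralizer_of_isPGroup (Core.pCore_isPGroup.map _) hg hgc
  exact le_normalizer_map_of_normal L (Cfsg.pCore p L)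

theorem reduced_le_pCoreOf {L V : Subgroup G} (hV : ReducedIn p L V) : V ≤ Cfsg.pCoreOf p L := by
  intro v hv
  exact ⟨⟨v, hV.le hv⟩, pReduced_le_pCore ((reducedIn_iff hV.le).mp hV)
    (show (⟨v, hV.le hv⟩ : L) ∈ V.subgroupOf L from hv), rfl⟩

end Cfsg.Agent.LocalStructure
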