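import Mathlib
import Cfsg.Agent.LocalStructure.PReduced
import Cfsg.Agent.LocalStructure.Averaging
import Cfsg.Agent.LocalStructure.Series

/-!
# Subgroups of characteristic `p`, centres of Sylow subgroups
-/

set_option autoImplicit false
set_option linter.all false

namespace Cfsg.Agent.LocalStructure

open Subgroup
open scoped commutatorElement

variable {G : Type*} [Group G] [Finite G] {p : ℕ} [hp : Fact p.Prime]

/-- `L` has characteristic `p`, in terms of the ambient group. -/
def CharP (p : ℕ) (L : Subgroup G) : Prop :=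
  L ⊓ centralizer (Cfsg.pCoreOf p L : Set G) ≤ Cfsg.pCoreOf p L

theorem charP_iff {L : Subgroup G} :
    CharP p L ↔ centralizer (Cfsg.pCore p L : Set L) ≤ Cfsg.pCore p L := by
  constructor
  · intro h x hx
    obtain ⟨y, hy, hyx⟩ := h (show (x : G) ∈ L ⊓ centralizer (Cfsg.pCoreOf p L : Set G) from ⟨x.2, by
      refine mem_centralizer_iff.mpr ?_
      rintro _ ⟨y, hy, rfl⟩
      exact congrArg Subtype.val (mem_centralizer_iff.mp hx y hy)⟩)
    rwa [← show y = x from Subtype.ext hyx]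
  · rintro h x ⟨hxL, hxC⟩
    refine ⟨⟨x, hxL⟩, h ?_, rfl⟩
    rw [mem_centralizer_iff]
    exact fun y hy => Subtype.ext (mem_centralizer_iff.mp hxC _ ⟨y, hy, rfl⟩)

theorem pCoreOf_top : Cfsg.pCoreOf p (⊤ : Subgroup G) = Cfsg.pCore p G := by
  show (Cfsg.pCore p (⊤ : Subgroup G)).map (⊤ : Subgroup G).subtype = _
  rw [pCoreOf_subnormal_eq IsSubnormal.top, top_inf_eq]

theorem charP_top_iff :
    CharP p (⊤ : Subgroup G) ↔ centralizer (Cfsg.pCore p G : Set G) ≤ Cfsg.pCore p G := by
  rw [CharP, pCoreOf_top, top_inf_eq]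

theorem pCoreOf_le (L : Subgroup G) : Cfsg.pCoreOf p L ≤ L := map_subtype_le _

theorem pCoreOf_isPGroup (L : Subgroup G) : IsPGroup p (Cfsg.pCoreOf p L) :=
  Core.pCore_isPGroup.map _

theorem le_normalizer_pCoreOf (L : Subgroup G) :
    L ≤ normalizer ((Cfsg.pCoreOf p L : Subgroup G) : Set G) :=
  le_normalizer_map_of_normal L (Cfsg.pCore p L)

theorem le_pCoreOf {L N : Subgroup G} (hNL : N ≤ L) (hN : (N.subgroupOf L).IsSubnormal)
    (hNp : IsPGroup p N) : N ≤ Cfsg.pCoreOf p L := fun x hx =>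
  ⟨⟨x, hNL hx⟩, Layer.subnormal_le_pCore hN (hNp.comap_of_injective L.subtype L.subtype_injective) hx,
    rfl⟩

theorem le_pCoreOf_of_normal {L N : Subgroup G} (hNL : N ≤ L) (hN : L ≤ normalizer (N : Set G))
    (hNp : IsPGroup p N) : N ≤ Cfsg.pCoreOf p L :=
  le_pCoreOf hNL (Subgroup.Normal.isSubnormal (normal_subgroupOf_of_le_normalizer hN)) hNp

theorem pCoreOf_eq_inf {K L : Subgroup G} (hKL : K ≤ L) (hK : (K.subgroupOf L).IsSubnormal) :
    Cfsg.pCoreOf p K = K ⊓ Cfsg.pCoreOf p L := by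
  refine le_antisymm (le_inf (pCoreOf_le K) ?_) ?_
  · refine le_pCoreOf ((pCoreOf_le K).trans hKL) ?_ (pCoreOf_isPGroup K)
    refine IsSubnormal.trans (fun x hx => pCoreOf_le K hx) ?_ hK
    have h : ((Cfsg.pCoreOf p K).subgroupOf L).subgroupOf (K.subgroupOf L) =
        ((Cfsg.pCoreOf p K).subgroupOf K).comap
          (subgroupOfEquivOfLe hKL).toMonoidHom := rfl
    rw [h]
    apply IsSubnormal.comap
    show (((Cfsg.pCore p K).map K.subtype).comap K.subtype).IsSubnormal
    rw [comap_map_eq_self_of_injective K.subtype_injective]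
    exact Subgroup.Normal.isSubnormal inferInstance
  · exact le_pCoreOf_of_normal inf_le_left
      (Coprime.le_normalizer_inf Subgroup.le_normalizer (hKL.trans (le_normalizer_pCoreOf L)))
      ((pCoreOf_isPGroup L).to_le inf_le_right)

/-- Characteristic `p` passes to normal subgroups. -/
theorem charP_of_normal {K L : Subgroup G} (hKL : K ≤ L) (hLK : L ≤ normalizer (K : Set G))
    (hL : CharP p L) : CharP p K := by
  have hK : (K.subgroupOf L).IsSubnormal :=
    Subgroup.Normal.isSubnormal (normal_subgroupOf_of_le_normalizer hLK)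
  have hO := pCoreOf_eq_inf (p := p) hKL hK
  set C : Subgroup G := K ⊓ centralizer (Cfsg.pCoreOf p K : Set G) with hC
  have hLC : L ≤ normalizer (C : Set G) := Coprime.le_normalizer_inf hLK
    (Coprime.le_normalizer_centralizer
      (by rw [hO]; exact Coprime.le_normalizer_inf hLK (le_normalizer_pCoreOf L)))
  have hCp : IsPGroup p C := by
    refine isPGroup_of_forall_coprime fun x hx hxc => ?_
    have hxL : x ∈ L := hKL hx.1
    have hxN : x ∈ normalizer ((Cfsg.pCoreOf p L : Subgroup G) : Set G) := le_normalizer_pCoreOf L hxL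
    have h1 : x ∈ centralizer (Cfsg.pCoreOf p L : Set G) := by
      refine commute_of_double_commutator (pCoreOf_isPGroup L) hxN hxc fun v hv => ?_
      have hd : ⁅x, v⁆ ∈ Cfsg.pCoreOf p K := by
        rw [hO, commutatorElement_def]
        refine ⟨?_, Subgroup.mul_mem _ ((mem_normalizer_iff.mp hxN v).mp hv) (Subgroup.inv_mem _ hv)⟩
        rw [mul_assoc, mul_assoc]
        refine K.mul_mem hx.1 ?_
        rw [← mul_assoc]
        exact (mem_normalizer_iff.mp (hLK (pCoreOf_le L hv)) x⁻¹).mp (K.inv_mem hx.1)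
      exact (mem_centralizer_iff.mp hx.2 _ hd).symm
    have h2 : x ∈ Cfsg.pCoreOf p L := hL ⟨hxL, h1⟩
    exact Subgroup.mem_bot.mp (coprime_mem_centralizer_of_isPGroup (pCoreOf_isPGroup L) h2 hxc)
  exact le_pCoreOf_of_normal inf_le_left (hKL.trans hLC) hCp

/-- Characteristic `p` passes to subnormal subgroups. -/
theorem charP_of_subnormal {K : Subgroup G} (hK : K.IsSubnormal)
    (hG : centralizer (Cfsg.pCore p G : Set G) ≤ Cfsg.pCore p G) : CharP p K := by
  induction hK with
  | top => exact charP_top_iff.mpr hG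
  | step A B hle _ hN ih =>
    exact charP_of_normal hle ((normal_subgroupOf_iff_le_normalizer hle).mp hN) ih

/-! ### `Ω₁(Z(S))` -/

/-- `Ω₁(Z(S))`. -/
abbrev omegaZ (p : ℕ) (S : Subgroup G) : Subgroup G :=
  Cfsg.omegaOne p (S ⊓ centralizer (S : Set G))

theorem mem_omegaZ_iff {S : Subgroup G} {x : G} :
    x ∈ omegaZ p S ↔ x ∈ S ∧ x ∈ centralizer (S : Set G) ∧ x ^ p = 1 := by
  constructor
  · intro hx
    exact ⟨(Thompson.omegaOne_le _ _ hx).1, (Thompson.omegaOne_le _ _ hx).2,
      (Thompson.omegaOne_centre_ea p S).2 x hx⟩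
  · rintro ⟨h1, h2, h3⟩
    exact Thompson.mem_omegaOne ⟨h1, h2⟩ h3

theorem omegaZ_le (S : Subgroup G) : omegaZ p S ≤ S := fun _ hx => (mem_omegaZ_iff.mp hx).1

theorem omegaZ_le_centralizer (S : Subgroup G) : omegaZ p S ≤ centralizer (S : Set G) :=
  fun _ hx => (mem_omegaZ_iff.mp hx).2.1

theorem omegaZ_ea (S : Subgroup G) : Cfsg.IsElementaryAbelian p (omegaZ p S) :=
  Thompson.omegaOne_centre_ea p S

theorem le_normalizer_omegaZ {A S : Subgroup G} (h : A ≤ normalizer (S : Set G)) :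
    A ≤ normalizer ((omegaZ p S : Subgroup G) : Set G) := by
  have key : ∀ a ∈ A, ∀ x ∈ omegaZ p S, a * x * a⁻¹ ∈ omegaZ p S := by
    intro a ha x hx
    obtain ⟨h1, h2, h3⟩ := mem_omegaZ_iff.mp hx
    refine mem_omegaZ_iff.mpr ⟨(mem_normalizer_iff.mp (h ha) x).mp h1, ?_, ?_⟩
    · exact (mem_normalizer_iff.mp (Coprime.le_normalizer_centralizer h ha) x).mp h2
    · rw [conj_pow, h3, mul_one, mul_inv_cancel]
  intro a ha
  rw [mem_normalizer_iff]
  intro x
  refine ⟨key a ha x, fun hx => ?_⟩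
  have := key a⁻¹ (A.inv_mem ha) _ hx
  simpa [mul_assoc] using this

/-- In a group of characteristic `p`, `Ω₁(Z(S)) ≤ Ω₁(Z(O_p))` for a Sylow subgroup `S`. -/
theorem omegaZ_le_omegaZ_pCoreOf {L S : Subgroup G} (hL : CharP p L) (hSL : S ≤ L)
    (hS : Cfsg.pCoreOf p L ≤ S) : omegaZ p S ≤ omegaZ p (Cfsg.pCoreOf p L) := by
  intro x hx
  obtain ⟨h1, h2, h3⟩ := mem_omegaZ_iff.mp hx
  have h4 : x ∈ centralizer (Cfsg.pCoreOf p L : Set G) := centralizer_le hS h2
  exact mem_omegaZ_iff.mpr ⟨hL ⟨hSL h1, h4⟩, h4, h3⟩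

theorem pCoreOf_le_sylow {L S : Subgroup G} (hSL : S ≤ L) (hSp : IsPGroup p S)
    (hidx : ¬ p ∣ S.relIndex L) : Cfsg.pCoreOf p L ≤ S := by
  have h := Core.pCore_le_sylow ((hSp.comap_of_injective L.subtype L.subtype_injective).toSylow hidx)
  refine (Subgroup.map_mono h).trans ?_
  show (S.subgroupOf L).map L.subtype ≤ S
  rw [map_subgroupOf_eq_of_le hSL]

theorem sylow_not_dvd_relIndex (T : Sylow p G) {L : Subgroup G} (hTL : (T : Subgroup G) ≤ L) :
    ¬ p ∣ (T : Subgroup G).relIndex L :=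
  fun h => T.not_dvd_index (h.trans (relIndex_mul_index hTL ▸ dvd_mul_right _ _))

/-- A Sylow subgroup meets a subnormal subgroup in a Sylow subgroup. -/
theorem not_dvd_relIndex_subnormal (T : Sylow p G) {K : Subgroup G} (hK : K.IsSubnormal) :
    ¬ p ∣ (T : Subgroup G).relIndex K := by
  induction hK with
  | top => rw [relIndex_top_right]; exact T.not_dvd_index
  | step A B hle _ hN ih =>
    haveI := hN
    have hS : IsPGroup p ((T : Subgroup G).subgroupOf B) :=
      T.isPGroup'.comap_of_injective B.subtype B.subtype_injective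
    have h1 := not_dvd_relIndex_normal (hS.toSylow ih) (A.subgroupOf B)
    change ¬ p ∣ ((T : Subgroup G).subgroupOf B).relIndex (A.subgroupOf B) at h1
    rwa [relIndex_subgroupOf hle] at h1

end Cfsg.Agent.LocalStructure
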