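import Mathlib
import Cfsg.Agent.FusSys.Embedded

/-!
# Strongly p-embedded subgroups: basic consequences
-/

set_option autoImplicit false
set_option linter.all false

namespace Cfsg.Agent.LocalStructure

open Subgroup

variable {G : Type*} [Group G] [Finite G] {p : ℕ} [hp : Fact p.Prime]

/-- If the centralizers of the elements of order `p` of a Sylow subgroup `P ≤ H` and the normalizer
of `P` lie in `H`, then so does every element carrying an element of order `p` of `P` into `H`. -/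
theorem mem_of_conj_mem (H : Subgroup G) (P : Sylow p G) (hPH : (P : Subgroup G) ≤ H)
    (hC : ∀ x ∈ (P : Subgroup G), orderOf x = p → centralizer ({x} : Set G) ≤ H)
    (hN : normalizer ((P : Subgroup G) : Set G) ≤ H)
    {x g : G} (hx : x ∈ (P : Subgroup G)) (hxo : orderOf x = p) (hg : g * x * g⁻¹ ∈ H) : g ∈ H := by
  have hp' : p.Prime := hp.out
  -- inside `H`, elements of order `p` are conjugate into `P`
  have hinto : ∀ w ∈ H, orderOf w = p → ∃ h ∈ H, h * w * h⁻¹ ∈ (P : Subgroup G) := by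
    intro w hw hwo
    obtain ⟨T, hT⟩ := ((IsPGroup.of_card (n := 1) (by rw [Nat.card_zpowers, hwo, pow_one]) :
      IsPGroup p (zpowers w)).comap_of_injective H.subtype H.subtype_injective).exists_le_sylow
    obtain ⟨h, hh⟩ := MulAction.exists_smul_eq H T (P.subtype hPH)
    refine ⟨h, h.2, ?_⟩
    have h1 : h • (⟨w, hw⟩ : H) = h * ⟨w, hw⟩ := rfl
    have h2 : h * ⟨w, hw⟩ * h⁻¹ ∈ (P.subtype hPH : Subgroup H) := by
      rw [← hh]
      exact ⟨⟨w, hw⟩, hT (mem_zpowers w), by simp⟩
    exact h2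
  -- an element of order `p` in the centre of `P`
  have hne : (P : Subgroup G) ≠ ⊥ := fun e => by
    rw [e, mem_bot] at hx
    rw [hx, orderOf_one] at hxo
    exact hp'.ne_one hxo.symm
  haveI : Nontrivial (P : Subgroup G) := (nontrivial_iff_ne_bot _).mpr hne
  have hcn := P.isPGroup'.center_nontrivial
  obtain ⟨m, hm0, hm⟩ := (P.isPGroup'.to_subgroup (center (P : Subgroup G))).nontrivial_iff_card.mp hcn
  obtain ⟨z', hz'⟩ := exists_prime_orderOf_dvd_card' p (hm ▸ dvd_pow_self p hm0.ne')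
  set z : G := ((z' : (P : Subgroup G)) : G) with hz
  have hzo : orderOf z = p := by rw [hz, Subgroup.orderOf_coe, Subgroup.orderOf_coe, hz']
  have hzP : z ∈ (P : Subgroup G) := (z' : (P : Subgroup G)).2
  have hzc : ∀ q ∈ (P : Subgroup G), q * z = z * q := fun q hq =>
    congrArg Subtype.val (mem_center_iff.mp z'.2 ⟨q, hq⟩)
  -- `g z g⁻¹` lies in `H`
  have hcent : ∀ w ∈ H, orderOf w = p → centralizer ({w} : Set G) ≤ H := by
    intro w hw hwo c hc
    obtain ⟨h, hh, hhw⟩ := hinto w hw hwo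
    have h1 : h * c * h⁻¹ ∈ centralizer ({h * w * h⁻¹} : Set G) := by
      rw [mem_centralizer_iff]
      rintro _ rfl
      have := mem_centralizer_iff.mp hc w rfl
      calc h * w * h⁻¹ * (h * c * h⁻¹) = h * (w * c) * h⁻¹ := by group
        _ = _ := by rw [this]; group
    have h2 := hC _ hhw (by rw [show h * w * h⁻¹ = MulAut.conj h w by simp, MulEquiv.orderOf_eq, hwo]) h1
    have := H.mul_mem (H.mul_mem (H.inv_mem hh) h2) hh
    simpa [mul_assoc] using this
  have ho : ∀ y : G, orderOf (g * y * g⁻¹) = orderOf y := fun y => by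
    rw [show g * y * g⁻¹ = MulAut.conj g y by simp, MulEquiv.orderOf_eq]
  have hgz : g * z * g⁻¹ ∈ H := by
    refine hcent _ hg (by rw [ho, hxo]) ?_
    rw [mem_centralizer_iff]
    rintro _ rfl
    have := hzc x hx
    calc g * x * g⁻¹ * (g * z * g⁻¹) = g * (x * z) * g⁻¹ := by group
      _ = _ := by rw [this]; group
  have hgP : ∀ q ∈ (P : Subgroup G), g * q * g⁻¹ ∈ H := by
    intro q hq
    refine hcent _ hgz (by rw [ho, hzo]) ?_
    rw [mem_centralizer_iff]
    rintro _ rfl
    have := hzc q hq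
    calc g * z * g⁻¹ * (g * q * g⁻¹) = g * (z * q) * g⁻¹ := by group
      _ = _ := by rw [← this]; group
  obtain ⟨T, hT⟩ := ((P.isPGroup'.map (MulAut.conj g).toMonoidHom).comap_of_injective H.subtype
    H.subtype_injective).exists_le_sylow
  obtain ⟨h, hh⟩ := MulAction.exists_smul_eq H T (P.subtype hPH)
  have hN' : (h : G) * g ∈ normalizer ((P : Subgroup G) : Set G) := by
    refine mem_normalizer_fintype (S := ((P : Subgroup G) : Set G)) fun q hq => ?_
    have h2 : h * (⟨g * q * g⁻¹, hgP q hq⟩ : H) * h⁻¹ ∈ (P.subtype hPH : Subgroup H) := by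
      rw [← hh]
      refine ⟨⟨g * q * g⁻¹, hgP q hq⟩, hT ?_, by simp⟩
      exact ⟨q, hq, rfl⟩
    have h3 : (h : G) * (g * q * g⁻¹) * (h : G)⁻¹ ∈ (P : Subgroup G) := h2
    have h4 : (h : G) * g * q * ((h : G) * g)⁻¹ ∈ (P : Subgroup G) := by
      rw [show (h : G) * g * q * ((h : G) * g)⁻¹ = (h : G) * (g * q * g⁻¹) * (h : G)⁻¹ by group]
      exact h3
    exact h4
  have := H.mul_mem (H.inv_mem h.2) (hN hN')
  simpa [← mul_assoc] using this

/-- A strongly `p`-embedded subgroup contains a Sylow subgroup and the normalizers of its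
nontrivial subgroups. -/
theorem exists_sylow_of_stronglyPEmbedded {H : Subgroup G} (hH : Cfsg.IsStronglyPEmbedded p H) :
    ∃ P : Sylow p G, (P : Subgroup G) ≤ H ∧ (P : Subgroup G) ≠ ⊥ ∧
      ∀ Q : Subgroup G, Q ≤ (P : Subgroup G) → Q ≠ ⊥ → normalizer (Q : Set G) ≤ H := by
  obtain ⟨hdvd, -, P, hP⟩ := hH
  have hne : (P : Subgroup G) ≠ ⊥ := P.ne_bot_of_dvd_card hdvd
  have hN : ∀ Q : Subgroup G, Q ≤ (P : Subgroup G) → Q ≠ ⊥ → normalizer (Q : Set G) ≤ H :=
    fun Q hQ hQ0 => (FusSys.normalizer_le_kGen P hQ hQ0).trans hP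
  exact ⟨P, Subgroup.le_normalizer.trans (hN _ le_rfl hne), hne, hN⟩

theorem centralizer_le_of_normalizers_le {H : Subgroup G} {P : Subgroup G}
    (hN : ∀ Q : Subgroup G, Q ≤ P → Q ≠ ⊥ → normalizer (Q : Set G) ≤ H)
    {x : G} (hx : x ∈ P) (hx1 : x ≠ 1) : centralizer ({x} : Set G) ≤ H := by
  refine le_trans ?_ (hN (zpowers x) (zpowers_le.mpr hx) (by simpa using hx1))
  refine le_trans ?_ (centralizer_le_normalizer _)
  rw [zpowers_eq_closure, centralizer_closure]

end Cfsg.Agent.LocalStructure
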