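import Mathlib

/-!
# Recognizing `SL(2,3)`
-/

set_option autoImplicit false
set_option linter.all false

namespace Cfsg.Agent.LocalStructure

open Matrix

abbrev SL23 := Matrix.SpecialLinearGroup (Fin 2) (ZMod 3)

/-- The relations of the binary tetrahedral group on three elements. -/
structure BTRel {G : Type*} [Group G] (i j x : G) : Prop where
  i4 : i ^ 4 = 1
  j2 : j * j = i * i
  ji : j * i = i ^ 3 * j
  x3 : x ^ 3 = 1
  xi : x * i = j * x
  xj : x * j = i * j * x

theorem BTRel.closure_card_le {G : Type*} [Group G] {i j x : G} (h : BTRel i j x) :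
    (Subgroup.closure {i, j, x} : Set G).ncard ≤ 24 ∧ (Subgroup.closure {i, j, x} : Set G).Finite := by
  let f : Fin 4 × Fin 2 × Fin 3 → G := fun t => i ^ (t.1 : ℕ) * j ^ (t.2.1 : ℕ) * x ^ (t.2.2 : ℕ)
  set S : Set G := Set.range f with hS
  have hfin : S.Finite := Set.finite_range f
  have memS : ∀ a b c : ℕ, b < 2 → i ^ a * j ^ b * x ^ c ∈ S := by
    intro a b c hb
    refine ⟨(⟨a % 4, Nat.mod_lt _ (by norm_num)⟩, ⟨b, hb⟩, ⟨c % 3, Nat.mod_lt _ (by norm_num)⟩), ?_⟩
    show i ^ (a % 4) * j ^ b * x ^ (c % 3) = _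
    rw [← pow_eq_pow_mod a h.i4, ← pow_eq_pow_mod c h.x3]
  have hjia : ∀ a : ℕ, j * i ^ a = i ^ (3 * a) * j := by
    intro a
    induction a with
    | zero => simp
    | succ a ih => rw [pow_succ, ← mul_assoc, ih, mul_assoc, h.ji, ← mul_assoc, ← pow_add]; rfl
  have hI : ∀ s ∈ S, i * s ∈ S := by
    rintro _ ⟨⟨a, b, c⟩, rfl⟩
    show i * (i ^ (a : ℕ) * j ^ (b : ℕ) * x ^ (c : ℕ)) ∈ S
    rw [← mul_assoc, ← mul_assoc, ← pow_succ']
    exact memS _ _ _ b.2
  have hJ : ∀ s ∈ S, j * s ∈ S := by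
    rintro _ ⟨⟨a, b, c⟩, rfl⟩
    show j * (i ^ (a : ℕ) * j ^ (b : ℕ) * x ^ (c : ℕ)) ∈ S
    rw [← mul_assoc, ← mul_assoc, hjia]
    obtain ⟨b, hb⟩ := b
    interval_cases b
    · rw [pow_zero, mul_one]
      simpa using memS (3 * (a : ℕ)) 1 c (by norm_num)
    · rw [pow_one, mul_assoc (i ^ (3 * (a : ℕ))) j j, h.j2, ← mul_assoc, ← pow_succ, ← pow_succ]
      simpa using memS (3 * (a : ℕ) + 1 + 1) 0 c (by norm_num)
  have hword : ∀ (a : ℕ) (s : G), s ∈ S → j ^ a * s ∈ S := by
    intro a
    induction a with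
    | zero => intro s hs; simpa using hs
    | succ a ih => intro s hs; rw [pow_succ, mul_assoc]; exact ih _ (hJ s hs)
  have hX : ∀ s ∈ S, x * s ∈ S := by
    rintro _ ⟨⟨a, b, c⟩, rfl⟩
    have hxa : ∀ a : ℕ, x * i ^ a = j ^ a * x := by
      intro a
      induction a with
      | zero => simp
      | succ a ih => rw [pow_succ, ← mul_assoc, ih, mul_assoc, h.xi, ← mul_assoc, ← pow_succ]
    show x * (i ^ (a : ℕ) * j ^ (b : ℕ) * x ^ (c : ℕ)) ∈ S
    rw [← mul_assoc, ← mul_assoc, hxa]
    obtain ⟨b, hb⟩ := b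
    interval_cases b
    · rw [pow_zero, mul_one, mul_assoc, ← pow_succ']
      exact hword _ _ (by simpa using memS 0 0 ((c : ℕ) + 1) (by norm_num))
    · rw [pow_one, mul_assoc (j ^ (a : ℕ)) x j, h.xj, mul_assoc, mul_assoc (i * j), ← pow_succ',
        mul_assoc i j]
      exact hword _ _ (hI _ (hJ _ (by simpa using memS 0 0 ((c : ℕ) + 1) (by norm_num))))
  have hgen : ∀ g ∈ ({i, j, x} : Set G), ∀ s ∈ S, g * s ∈ S := by
    rintro g (rfl | rfl | rfl)
    exacts [hI, hJ, hX]
  have hle : (Subgroup.closure {i, j, x} : Set G) ⊆ S := by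
    intro y hy
    have : ∀ s ∈ S, y * s ∈ S ∧ y⁻¹ * s ∈ S := by
      induction hy using Subgroup.closure_induction with
      | mem g hg =>
        intro s hs
        refine ⟨hgen g hg s hs, ?_⟩
        have himg : (fun t => g * t) '' S = S := Set.eq_of_subset_of_ncard_le
          (by rintro _ ⟨t, ht, rfl⟩; exact hgen g hg t ht)
          (by rw [Set.ncard_image_of_injective _ (mul_right_injective g)]) hfin
        obtain ⟨t, ht, rfl⟩ := himg.ge hs
        simpa using ht
      | one => intro s hs; simpa using hs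
      | mul a b _ _ ha hb =>
        intro s hs
        refine ⟨?_, ?_⟩
        · rw [mul_assoc]; exact (ha _ (hb s hs).1).1
        · rw [_root_.mul_inv_rev, mul_assoc]; exact (hb _ (ha s hs).2).2
      | inv a _ ha => intro s hs; exact ⟨(ha s hs).2, by rw [inv_inv]; exact (ha s hs).1⟩
    have h1 := (this 1 (by simpa using memS 0 0 0 (by norm_num))).1
    simpa using h1
  refine ⟨(Set.ncard_le_ncard hle hfin).trans ?_, hfin.subset hle⟩
  rw [hS, ← Set.image_univ]
  refine (Set.ncard_image_le Set.finite_univ).trans ?_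
  rw [Set.ncard_univ, Nat.card_eq_fintype_card]
  rfl

def slI : SL23 := ⟨!![0, -1; 1, 0], by decide⟩
def slJ : SL23 := ⟨!![1, 1; 1, -1], by decide⟩
def slX : SL23 := ⟨!![1, 1; 0, 1], by decide⟩

theorem btRel_sl23 : BTRel slI slJ slX :=
  ⟨by decide, by decide, by decide, by decide, by decide, by decide⟩

theorem closure_sl23 : Subgroup.closure {slI, slJ, slX} = (⊤ : Subgroup SL23) := by
  rw [eq_top_iff]
  intro g _
  have : ∀ g : SL23, ∃ a : Fin 4, ∃ b : Fin 2, ∃ c : Fin 3,
      g = slI ^ (a : ℕ) * slJ ^ (b : ℕ) * slX ^ (c : ℕ) := by decide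
  obtain ⟨a, b, c, rfl⟩ := this g
  exact mul_mem (mul_mem (pow_mem (Subgroup.subset_closure (by simp)) _) (pow_mem (Subgroup.subset_closure (by simp)) _))
    (pow_mem (Subgroup.subset_closure (by simp)) _)

theorem card_sl23 : Nat.card SL23 = 24 := by
  rw [Nat.card_eq_fintype_card]
  decide

/-- A group of order at least 24 generated by elements with these relations is `SL(2,3)`. -/
theorem sl23_iso {G : Type*} [Group G] {i j x : G} (h : BTRel i j x)
    (hgen : Subgroup.closure {i, j, x} = ⊤) (hcard : 24 ≤ Nat.card G) : Nonempty (G ≃* SL23) := by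
  classical
  set D : Subgroup (G × SL23) := Subgroup.closure {(i, slI), (j, slJ), (x, slX)} with hD
  have hrel : BTRel (i, slI) (j, slJ) (x, slX) := by
    have hs := btRel_sl23
    constructor
    · exact Prod.ext h.i4 hs.i4
    · exact Prod.ext h.j2 hs.j2
    · exact Prod.ext h.ji hs.ji
    · exact Prod.ext h.x3 hs.x3
    · exact Prod.ext h.xi hs.xi
    · exact Prod.ext h.xj hs.xj
  obtain ⟨hDc, hDfin⟩ := hrel.closure_card_le
  haveI : Finite D := hDfin.to_subtype
  have hDcard : Nat.card D ≤ 24 := by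
    rw [← Nat.card_coe_set_eq] at hDc
    exact hDc
  have hs1 : Function.Surjective ((MonoidHom.fst G SL23).comp D.subtype) := by
    rw [← MonoidHom.range_eq_top, MonoidHom.range_comp, Subgroup.range_subtype, hD, MonoidHom.map_closure, eq_top_iff,
      ← hgen]
    exact Subgroup.closure_mono (by simp [Set.image_insert_eq])
  have hs2 : Function.Surjective ((MonoidHom.snd G SL23).comp D.subtype) := by
    rw [← MonoidHom.range_eq_top, MonoidHom.range_comp, Subgroup.range_subtype, hD, MonoidHom.map_closure, eq_top_iff,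
      ← closure_sl23]
    exact Subgroup.closure_mono (by simp [Set.image_insert_eq])
  haveI : Finite G := Finite.of_surjective _ hs1
  have hG : Nat.card G ≤ Nat.card D := Nat.card_le_card_of_surjective _ hs1
  have hb1 := (Nat.bijective_iff_surjective_and_card ((MonoidHom.fst G SL23).comp D.subtype)).mpr
    ⟨hs1, le_antisymm (hDcard.trans hcard) hG⟩
  have hb2 := (Nat.bijective_iff_surjective_and_card ((MonoidHom.snd G SL23).comp D.subtype)).mpr
    ⟨hs2, le_antisymm (hDcard.trans card_sl23.ge) (Nat.card_le_card_of_surjective _ hs2)⟩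
  exact ⟨(MulEquiv.ofBijective _ hb1).symm.trans (MulEquiv.ofBijective _ hb2)⟩

end Cfsg.Agent.LocalStructure
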