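import Mathlib

/-!
# Primitive prime divisors
-/

set_option autoImplicit false
set_option linter.all false

namespace Cfsg.Agent.LocalStructure

open Polynomial

theorem le_two_pow_pred (r : ℕ) : r ≤ 2 ^ (r - 1) := by
  rcases r with _ | r
  · simp
  · simpa using Nat.lt_two_pow_self (n := r)

theorem three_mul_lt_two_pow {r : ℕ} (hr : 4 ≤ r) : 3 * r + 1 < 2 ^ r := by
  induction r, hr using Nat.le_induction with
  | base => norm_num
  | succ n hn ih => rw [pow_succ]; omega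

theorem primitive_of_root {a n r : ℕ} [hr : Fact r.Prime] (ha : 1 < a) (hn : 0 < n) (hrn : ¬ r ∣ n)
    (hdvd : (r : ℤ) ∣ (cyclotomic n ℤ).eval (a : ℤ)) :
    r ∣ a ^ n - 1 ∧ ∀ k : ℕ, 0 < k → k < n → ¬ r ∣ a ^ k - 1 := by
  have hroot : IsRoot (cyclotomic n (ZMod r)) (a : ZMod r) := by
    have h := (ZMod.intCast_zmod_eq_zero_iff_dvd _ r).mpr hdvd
    rw [← map_cyclotomic_int n (ZMod r), IsRoot.def, show (a : ZMod r) = ((a : ℤ) : ZMod r) by push_cast; rfl,
      eval_intCast_map]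
    exact h
  haveI : NeZero ((n : ℕ) : ZMod r) := ⟨fun h => hrn ((ZMod.natCast_eq_zero_iff n r).mp h)⟩
  have hp : IsPrimitiveRoot (a : ZMod r) n := isRoot_cyclotomic_iff.mp hroot
  have key : ∀ k : ℕ, r ∣ a ^ k - 1 ↔ (a : ZMod r) ^ k = 1 := by
    intro k
    rw [← ZMod.natCast_eq_zero_iff, Nat.cast_sub (Nat.one_le_pow _ _ (by omega)), sub_eq_zero, Nat.cast_pow,
      Nat.cast_one]
  refine ⟨(key n).mpr hp.pow_eq_one, fun k hk hkn h => ?_⟩
  have := Nat.le_of_dvd hk (hp.dvd_of_pow_eq_one k ((key k).mp h))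
  omega

/-- A non-primitive prime divisor of `Φ_n(a)`. -/
theorem order_of_root {a n r : ℕ} [hr : Fact r.Prime] (hn : 0 < n) (hdvd : (r : ℤ) ∣ (cyclotomic n ℤ).eval (a : ℤ)) :
    ∃ k m : ℕ, n = r ^ k * m ∧ ¬ r ∣ m ∧ m ∣ r - 1 ∧ (a : ZMod r) ^ m = 1 := by
  obtain ⟨k, m, hm, rfl⟩ := Nat.exists_eq_pow_mul_and_not_dvd hn.ne' r hr.out.ne_one
  have hroot : IsRoot (cyclotomic (r ^ k * m) (ZMod r)) (a : ZMod r) := by
    have h := (ZMod.intCast_zmod_eq_zero_iff_dvd _ r).mpr hdvd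
    rw [← map_cyclotomic_int _ (ZMod r), IsRoot.def, show (a : ZMod r) = ((a : ℤ) : ZMod r) by push_cast; rfl,
      eval_intCast_map]
    exact h
  haveI : NeZero ((m : ℕ) : ZMod r) := ⟨fun h => hm ((ZMod.natCast_eq_zero_iff m r).mp h)⟩
  have hp : IsPrimitiveRoot (a : ZMod r) m := (isRoot_cyclotomic_prime_pow_mul_iff_of_charP).mp hroot
  refine ⟨k, m, rfl, hm, hp.dvd_of_pow_eq_one _ (ZMod.pow_card_sub_one_eq_one fun h => ?_), hp.pow_eq_one⟩
  have h1 := hp.pow_eq_one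
  have hm0 : m ≠ 0 := fun e => hm (e ▸ dvd_zero r)
  rw [h, zero_pow hm0] at h1
  exact zero_ne_one h1

/-- The non-primitive prime divides `Φ_n(a)` only once. -/
theorem not_sq_dvd {a n r k m : ℕ} [hr : Fact r.Prime] (hn : 2 < n) (hk : 0 < k) (hnk : n = r ^ k * m)
    (hm : m ∣ r - 1) (ham : (a : ZMod r) ^ m = 1) : ¬ ((r : ℤ) ^ 2 ∣ (cyclotomic n ℤ).eval (a : ℤ)) := by
  intro hsq
  have hrn : r ∣ n := hnk ▸ (dvd_pow_self r hk.ne').mul_right m
  set d := n / r with hd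
  have hdn : d ∈ n.properDivisors := by
    rw [Nat.mem_properDivisors]
    exact ⟨Nat.div_dvd_of_dvd hrn, Nat.div_lt_self (by omega) hr.out.one_lt⟩
  have hdr : n = d * r := (Nat.div_mul_cancel hrn).symm
  have hpoly := X_pow_sub_one_mul_cyclotomic_dvd_X_pow_sub_one_of_dvd ℤ hdn
  have hev := eval_dvd (x := (a : ℤ)) hpoly
  simp only [eval_mul, eval_sub, eval_pow, eval_X, eval_one] at hev
  set b : ℤ := (a : ℤ) ^ d with hb
  have hbn : (a : ℤ) ^ n - 1 = (∑ i ∈ Finset.range r, b ^ i) * (b - 1) := by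
    rw [geom_sum_mul, hb, ← pow_mul, ← hdr]
  have hdm : d = r ^ (k - 1) * m := by
    rw [hd, hnk, show r ^ k = r * r ^ (k - 1) by rw [← pow_succ', Nat.sub_add_cancel hk], mul_assoc,
      Nat.mul_div_cancel_left _ hr.out.pos]
  have hb1 : (r : ℤ) ∣ b - 1 := by
    rw [← ZMod.intCast_zmod_eq_zero_iff_dvd, hb, Int.cast_sub, Int.cast_pow, Int.cast_one, Int.cast_natCast,
      sub_eq_zero, hdm, mul_comm, pow_mul, ham, one_pow]
  by_cases hz : b - 1 = 0
  · have hd0 : d ≠ 0 := by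
      intro e
      rw [e, zero_mul] at hdr
      omega
    have h0 : (a : ℤ) ^ d = 1 := sub_eq_zero.mp hz
    have : a ^ d = 1 := by exact_mod_cast h0
    obtain rfl : a = 1 := (pow_eq_one_iff.mp this).resolve_right hd0
    have h1 : (cyclotomic n ℤ).eval 1 ∣ (r : ℤ) := by
      by_cases hpp : ∀ {q : ℕ}, q.Prime → ∀ j : ℕ, q ^ j ≠ n
      · rw [eval_one_cyclotomic_not_prime_pow hpp]; exact one_dvd _
      · push Not at hpp
        obtain ⟨q, hq, j, hj⟩ := hpp
        rcases j with _ | j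
        · simp at hj; omega
        · haveI := Fact.mk hq
          have hqr : q = r := ((Nat.prime_dvd_prime_iff_eq hr.out hq).mp (hr.out.dvd_of_dvd_pow (hj ▸ hrn))).symm
          rw [← hj, eval_one_cyclotomic_prime_pow, hqr]
    rw [Nat.cast_one] at hsq
    have h2 := Int.le_of_dvd (by exact_mod_cast hr.out.pos) (hsq.trans h1)
    have h3 : (2 : ℤ) ≤ r := by exact_mod_cast hr.out.two_le
    nlinarith
  rw [hbn, mul_comm (b - 1) _] at hev
  have hsum : (r : ℤ) ^ 2 ∣ ∑ i ∈ Finset.range r, b ^ i := hsq.trans ((mul_dvd_mul_iff_right hz).mp hev)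
  obtain ⟨c, hc⟩ := hb1
  rcases hr.out.eq_two_or_odd' with rfl | hodd
  · have hm1 : m = 1 := by simpa using hm
    subst hm1
    have hk2 : 2 ≤ k := by
      by_contra h
      have : k = 1 := by omega
      subst this
      omega
    obtain ⟨u, hu⟩ : ∃ u : ℤ, b = u * u := by
      refine ⟨(a : ℤ) ^ 2 ^ (k - 2), ?_⟩
      rw [hb, hdm, mul_one, show k - 1 = (k - 2) + 1 by omega, pow_succ, ← pow_add, ← mul_two]
    simp only [Finset.sum_range_succ, Finset.sum_range_zero, pow_zero, pow_one, zero_add] at hsum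
    have h4 : (4 : ℤ) ∣ 1 + u * u := by rw [← hu]; simpa using hsum
    rcases Int.even_or_odd' u with ⟨v, rfl | rfl⟩
    · obtain ⟨w, hw⟩ := h4
      have : (4 : ℤ) * (w - v * v) = 1 := by linarith
      omega
    · obtain ⟨w, hw⟩ := h4
      have : (4 : ℤ) * (w - v * v - v) = 2 := by linarith
      omega
  · have h := odd_sq_dvd_geom_sum₂_sub (R := ℤ) (a := 1) (b := c) hodd
    simp only [one_pow, mul_one] at h
    rw [show ((1 : ℤ) + r * c) = b by linarith] at h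
    have h2 : ((r : ℤ)) ^ 2 ∣ (r : ℤ) := by
      simpa using dvd_sub hsum h
    have h3 := Int.le_of_dvd (by exact_mod_cast hr.out.pos) h2
    have h4 : (2 : ℤ) ≤ r := by exact_mod_cast hr.out.two_le
    nlinarith

theorem cyclotomic_ne_prime {a n r k m : ℕ} [hr : Fact r.Prime] (ha : 1 < a) (hn : 2 < n) (h6 : ¬ (a = 2 ∧ n = 6))
    (hk : 0 < k) (hnk : n = r ^ k * m) (hm : m ∣ r - 1) : (cyclotomic n ℤ).eval (a : ℤ) ≠ r := by
  intro heq
  have hrn : r ∣ n := hnk ▸ (dvd_pow_self r hk.ne').mul_right m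
  have big : ∀ (N q : ℕ), r ∣ N → 1 < N → 3 ≤ q → ((cyclotomic N ℤ).eval (q : ℤ)).natAbs ≠ r := by
    intro N q hN hN1 hq he
    have h1 := sub_one_pow_totient_lt_natAbs_cyclotomic_eval (q := q) hN1 (by omega)
    rw [he] at h1
    have h2 : r - 1 ≤ N.totient := by
      rw [← Nat.totient_prime hr.out]
      exact Nat.le_of_dvd (Nat.totient_pos.mpr (by omega)) (Nat.totient_dvd_of_dvd hN)
    have h3 : 2 ^ (r - 1) ≤ (q - 1) ^ N.totient :=
      (Nat.pow_le_pow_left (by omega : 2 ≤ q - 1) _).trans (Nat.pow_le_pow_right (by omega) h2)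
    have := le_two_pow_pred r
    omega
  by_cases ha3 : 3 ≤ a
  · exact big n a hrn (by omega) ha3 (by rw [heq]; rfl)
  obtain rfl : a = 2 := by omega
  by_cases hk2 : 2 ≤ k
  · have hdiv : n = (r ^ (k - 1) * m) * r := by
      rw [hnk, mul_right_comm, ← pow_succ, Nat.sub_add_cancel hk]
    have hr' : r ∣ r ^ (k - 1) * m := (dvd_pow_self r (by omega)).mul_right m
    have hexp := congrArg (eval (2 : ℤ)) (cyclotomic_expand_eq_cyclotomic hr.out hr' ℤ)
    rw [expand_eval, ← hdiv] at hexp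
    have hm0 : 0 < m := Nat.pos_of_ne_zero fun e => by rw [e, mul_zero] at hnk; omega
    have hN1 : 1 < r ^ (k - 1) * m :=
      lt_of_lt_of_le hr.out.one_lt (Nat.le_of_dvd (Nat.mul_pos (Nat.pow_pos hr.out.pos) hm0) hr')
    refine big (r ^ (k - 1) * m) (2 ^ r) hr' hN1 ?_ ?_
    · calc 3 ≤ 2 ^ 2 := by norm_num
        _ ≤ 2 ^ r := Nat.pow_le_pow_right (by norm_num) hr.out.two_le
    · rw [show ((2 ^ r : ℕ) : ℤ) = 2 ^ r by push_cast; rfl, hexp]
      rw [show ((2 : ℕ) : ℤ) = 2 by rfl] at heq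
      rw [heq]; rfl
  obtain rfl : k = 1 := by omega
  rw [pow_one] at hnk
  have hrm : ¬ r ∣ m := by
    intro h
    have h1 := Nat.le_of_dvd (by have := hr.out.two_le; omega) (h.trans hm)
    have := hr.out.two_le
    omega
  have hexp := congrArg (eval (2 : ℝ)) (cyclotomic_expand_eq_cyclotomic_mul hr.out hrm ℝ)
  rw [expand_eval, eval_mul, mul_comm m r, ← hnk] at hexp
  have hcast : (cyclotomic n ℝ).eval 2 = (r : ℝ) := by
    rw [← map_cyclotomic_int n ℝ, show (2 : ℝ) = ((2 : ℤ) : ℝ) by norm_num, eval_intCast_map]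
    rw [show ((2 : ℕ) : ℤ) = 2 by rfl] at heq
    rw [Int.cast_id, heq]; simp
  have hlo : ((2 : ℝ) ^ r - 1) ^ m.totient ≤ (cyclotomic m ℝ).eval ((2 : ℝ) ^ r) :=
    sub_one_pow_totient_le_cyclotomic_eval (one_lt_pow₀ (by norm_num) hr.out.ne_zero) m
  have hhi : (cyclotomic m ℝ).eval (2 : ℝ) ≤ ((2 : ℝ) + 1) ^ m.totient :=
    cyclotomic_eval_le_add_one_pow_totient (by norm_num) m
  rw [hexp, hcast] at hlo
  have hm0 : 0 < m := Nat.pos_of_ne_zero fun e => hrm (e ▸ dvd_zero r)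
  have hφ : 1 ≤ m.totient := Nat.totient_pos.mpr hm0
  have hr3 : r < 4 := by
    by_contra h
    have hbase : (3 : ℝ) * r < (2 : ℝ) ^ r - 1 := by
      have := three_mul_lt_two_pow (show 4 ≤ r by omega)
      have h' : ((3 * r + 1 : ℕ) : ℝ) < ((2 ^ r : ℕ) : ℝ) := by exact_mod_cast this
      push_cast at h'
      linarith
    have hr1 : (1 : ℝ) ≤ r := by exact_mod_cast hr.out.one_le
    have h1 : ((3 : ℝ) * r) ^ m.totient < ((2 : ℝ) ^ r - 1) ^ m.totient :=
      pow_lt_pow_left₀ hbase (by positivity) (by omega)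
    have h2 : (r : ℝ) * 3 ^ m.totient ≤ ((3 : ℝ) * r) ^ m.totient := by
      rw [mul_pow, mul_comm]
      exact mul_le_mul_of_nonneg_left (le_self_pow₀ hr1 (by omega)) (by positivity)
    have h3 : (r : ℝ) * (cyclotomic m ℝ).eval 2 ≤ (r : ℝ) * 3 ^ m.totient := by
      refine mul_le_mul_of_nonneg_left (hhi.trans (le_of_eq ?_)) (by positivity)
      norm_num
    linarith
  have hr2 := hr.out.two_le
  interval_cases r
  · have : m = 1 := by simpa using hm
    omega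
  · rcases (Nat.dvd_prime Nat.prime_two).mp hm with rfl | rfl
    · subst hnk
      rw [mul_one, cyclotomic_three] at heq
      norm_num at heq
    · exact h6 ⟨rfl, hnk⟩

/-- Zsigmondy's theorem. -/
theorem zsigmondy {a n : ℕ} (ha : 1 < a) (hn : 1 < n) (h6 : ¬ (a = 2 ∧ n = 6))
    (h2 : ¬ (n = 2 ∧ ∃ m : ℕ, a + 1 = 2 ^ m)) :
    ∃ r : ℕ, r.Prime ∧ r ∣ a ^ n - 1 ∧ ∀ k : ℕ, 0 < k → k < n → ¬ r ∣ a ^ k - 1 := by
  rcases eq_or_lt_of_le (Nat.succ_le_of_lt hn) with h | hn2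
  · obtain rfl : n = 2 := by omega
    obtain ⟨r, hr, hra, hr2⟩ : ∃ r : ℕ, r.Prime ∧ r ∣ a + 1 ∧ r ≠ 2 := by
      by_contra h
      push Not at h
      exact h2 ⟨rfl, _, Nat.eq_prime_pow_of_unique_prime_dvd (by omega) fun {q} hq hqa => h q hq hqa⟩
    refine ⟨r, hr, ?_, fun k hk hk2 hd => ?_⟩
    · have e : a ^ 2 - 1 = (a + 1) * (a - 1) := by rw [← Nat.sq_sub_sq, one_pow]
      exact e ▸ hra.mul_right _
    · obtain rfl : k = 1 := by omega
      rw [pow_one] at hd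
      have h3 := Nat.dvd_sub hra hd
      rw [show a + 1 - (a - 1) = 2 by omega] at h3
      exact hr2 ((Nat.prime_dvd_prime_iff_eq hr Nat.prime_two).mp h3)
  set Φ := (cyclotomic n ℤ).eval (a : ℤ) with hΦ
  by_cases hprim : ∃ r : ℕ, r.Prime ∧ (r : ℤ) ∣ Φ ∧ ¬ r ∣ n
  · obtain ⟨r, hr, hrΦ, hrn⟩ := hprim
    haveI := Fact.mk hr
    exact ⟨r, hr, primitive_of_root ha (by omega) hrn hrΦ⟩
  exfalso
  push Not at hprim
  have hN : 1 < Φ.natAbs := lt_of_le_of_lt (by omega : 1 ≤ a - 1)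
    (sub_one_lt_natAbs_cyclotomic_eval (n := n) (q := a) hn (by omega))
  obtain ⟨r, hr, hrN⟩ := Nat.exists_prime_and_dvd hN.ne'
  haveI := Fact.mk hr
  have hrΦ : (r : ℤ) ∣ Φ := Int.natCast_dvd.mpr hrN
  obtain ⟨k, m, hnk, hrm, hm, ham⟩ := order_of_root (a := a) (by omega : 0 < n) hrΦ
  have hk : 0 < k := by
    rcases k with _ | k
    · exact absurd (by simpa [hnk] using hprim r hr hrΦ) hrm
    · omega
  have huniq : ∀ {q : ℕ}, q.Prime → q ∣ Φ.natAbs → q = r := by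
    intro q hq hqN
    by_contra hne
    haveI := Fact.mk hq
    have hqΦ : (q : ℤ) ∣ Φ := Int.natCast_dvd.mpr hqN
    obtain ⟨j, l, hnj, hql, hl, -⟩ := order_of_root (a := a) (by omega : 0 < n) hqΦ
    have h1 : q ∣ m := by
      rcases hq.dvd_mul.mp (hnk ▸ hprim q hq hqΦ) with h | h
      · exact absurd ((Nat.prime_dvd_prime_iff_eq hq hr).mp (hq.dvd_of_dvd_pow h)) hne
      · exact h
    have h3 : r ∣ l := by
      rcases hr.dvd_mul.mp (hnj ▸ hprim r hr hrΦ) with h | h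
      · exact absurd ((Nat.prime_dvd_prime_iff_eq hr hq).mp (hr.dvd_of_dvd_pow h)).symm hne
      · exact h
    have h4 := Nat.le_of_dvd (by have := hr.two_le; omega) (h1.trans hm)
    have h5 := Nat.le_of_dvd (by have := hq.two_le; omega) (h3.trans hl)
    omega
  have hpow := Nat.eq_prime_pow_of_unique_prime_dvd (by omega : Φ.natAbs ≠ 0) huniq
  set j := Φ.natAbs.primeFactorsList.length with hj
  have hj1 : j = 1 := by
    by_contra hne
    rcases Nat.lt_or_ge j 2 with h | h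
    · have : j = 0 := by omega
      rw [this, pow_zero] at hpow
      omega
    · refine not_sq_dvd (a := a) hn2 hk hnk hm ham ?_
      have : r ^ 2 ∣ Φ.natAbs := hpow ▸ pow_dvd_pow r h
      have := Int.natCast_dvd.mpr this
      push_cast at this
      exact this
  rw [hj1, pow_one] at hpow
  refine cyclotomic_ne_prime (a := a) ha hn2 h6 hk hnk hm ?_
  have hpos : 0 < Φ := cyclotomic_pos hn2 _
  rw [← hΦ, ← hpow, Int.natAbs_of_nonneg hpos.le]

end Cfsg.Agent.LocalStructure
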