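import Mathlib
import Cfsg.Prelude.Def_LocalStructure
import Cfsg.Agent.Core.PCore
import Cfsg.Agent.Fusion.Residual
import Cfsg.Agent.LocalStructure.PResidual
import Cfsg.Agent.LocalStructure.CharP

/-!
# `p`-closed, `p`-irreducible and `Y`-minimal groups
-/

set_option autoImplicit false
set_option linter.all false

namespace Cfsg.Agent.LocalStructure

open Subgroup
open scoped commutatorElement

variable {G : Type*} [Group G] [Finite G] {p : ℕ} [Fact p.Prime]

omit [Finite G] in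
theorem isPGroup_zpowers_of_orderOf {x : G} {k : ℕ} (h : orderOf x = p ^ k) :
    IsPGroup p (zpowers x) :=
  IsPGroup.of_card (n := k) (by rw [Nat.card_zpowers, h])

theorem isPClosed_iff : Cfsg.IsPClosed p G ↔
    ∀ x : G, (∃ k, orderOf x = p ^ k) → x ∈ Cfsg.pCore p G := by
  constructor
  · rintro h x ⟨k, hk⟩
    obtain ⟨P, hP⟩ := (isPGroup_zpowers_of_orderOf hk).exists_le_sylow
    have := h P
    exact Core.le_pCore P.2 (hP (mem_zpowers x))
  · intro h P
    have : (P : Subgroup G) = Cfsg.pCore p G := le_antisymm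
      (fun x hx => h x (by
        obtain ⟨k, hk⟩ := IsPGroup.iff_orderOf.mp P.2 ⟨x, hx⟩
        exact ⟨k, by rwa [Subgroup.orderOf_mk] at hk⟩))
      (Core.pCore_le_sylow P)
    rw [this]; infer_instance

theorem isPClosed_subgroup_iff {N : Subgroup G} : Cfsg.IsPClosed p N ↔
    ∀ x ∈ N, (∃ k, orderOf x = p ^ k) → x ∈ Cfsg.pCoreOf p N := by
  rw [isPClosed_iff]
  constructor
  · intro h x hx hk
    exact ⟨⟨x, hx⟩, h ⟨x, hx⟩ (by simpa [Subgroup.orderOf_mk] using hk), rfl⟩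
  · rintro h ⟨x, hx⟩ hk
    obtain ⟨y, hy, hyx⟩ := h x hx (by simpa [Subgroup.orderOf_mk] using hk)
    exact (show y = ⟨x, hx⟩ from Subtype.ext hyx) ▸ hy

theorem isPClosed_normal_iff {N : Subgroup G} [hN : N.Normal] : Cfsg.IsPClosed p N ↔
    ∀ x ∈ N, (∃ k, orderOf x = p ^ k) → x ∈ Cfsg.pCore p G := by
  rw [isPClosed_subgroup_iff]
  refine forall_congr' fun x => forall_congr' fun hx => forall_congr' fun _ => ?_
  rw [show Cfsg.pCoreOf p N = (Cfsg.pCore p N).map N.subtype from rfl, Core.map_pCore_normal]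
  exact ⟨fun h => h.1, fun h => ⟨h, hx⟩⟩

/-- `[N, G] ≤ O_p(G)` makes the normal subgroup `N` `p`-closed. -/
theorem isPClosed_of_commutator_le {N : Subgroup G} [N.Normal]
    (h : ⁅N, (⊤ : Subgroup G)⁆ ≤ Cfsg.pCore p G) : Cfsg.IsPClosed p N := by
  rw [isPClosed_normal_iff]
  rintro x hx ⟨k, hk⟩
  have hn : (zpowers x ⊔ Cfsg.pCore p G).Normal := by
    constructor
    intro y hy g
    suffices zpowers x ⊔ Cfsg.pCore p G ≤
        (zpowers x ⊔ Cfsg.pCore p G).comap (MulAut.conj g).toMonoidHom from this hy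
    refine sup_le ((zpowers_le).mpr ?_) fun z hz =>
      Subgroup.mem_comap.mpr (mem_sup_right (Normal.conj_mem (H := Cfsg.pCore p G) inferInstance z hz g))
    show g * x * g⁻¹ ∈ zpowers x ⊔ Cfsg.pCore p G
    rw [show g * x * g⁻¹ = ⁅x, g⁆⁻¹ * x by simp only [commutatorElement_def]; group]
    exact mul_mem (mem_sup_right (inv_mem (h (commutator_mem_commutator hx (mem_top g)))))
      (mem_sup_left (mem_zpowers x))
  exact (Core.le_pCore (hN := hn)
    ((isPGroup_zpowers_of_orderOf hk).to_sup_of_normal_right Core.pCore_isPGroup))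
      (mem_sup_left (mem_zpowers x))

/-- A coprime element of `N D`, `D` a `p`-group, lies in `N`. -/
theorem mem_of_coprime_of_mem_sup {N D : Subgroup G} [N.Normal] (hD : IsPGroup p D) {g : G}
    (hg : g ∈ N ⊔ D) (hc : (orderOf g).Coprime p) : g ∈ N := by
  rw [← QuotientGroup.eq_one_iff]
  have hmem : (g : G ⧸ N) ∈ D.map (QuotientGroup.mk' N) := by
    have := mem_map_of_mem (QuotientGroup.mk' N) hg
    rwa [Subgroup.map_sup, QuotientGroup.map_mk'_self, bot_sup_eq] at this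
  obtain ⟨k, hk⟩ := IsPGroup.iff_orderOf.mp (hD.map (QuotientGroup.mk' N)) ⟨_, hmem⟩
  rw [Subgroup.orderOf_mk] at hk
  have h1 : orderOf (g : G ⧸ N) ∣ Nat.gcd (orderOf g) (p ^ k) :=
    Nat.dvd_gcd (orderOf_map_dvd (QuotientGroup.mk' N) g) hk.dvd
  rwa [Nat.Coprime.gcd_eq_one (Nat.Coprime.pow_right k hc), Nat.dvd_one,
    orderOf_eq_one_iff] at h1

theorem pResidual_le_of_le_sup {N D : Subgroup G} [N.Normal] (hD : IsPGroup p D)
    (h : Cfsg.pResidual p G ≤ N ⊔ D) : Cfsg.pResidual p G ≤ N :=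
  (closure_le (K := N)).mpr fun _ hg =>
    mem_of_coprime_of_mem_sup hD (h (subset_closure hg)) hg

theorem pResidual_le_of_sup_eq_top {N D : Subgroup G} [N.Normal] (hD : IsPGroup p D)
    (h : N ⊔ D = ⊤) : Cfsg.pResidual p G ≤ N :=
  pResidual_le_of_le_sup hD (le_top.trans h.ge)

/-- A `p`-element of an image is the image of a `p`-element of the preimage. -/
theorem exists_pElement_preimage {H : Type*} [Group H] (f : G →* H) {x : G} {k : ℕ}
    (hk : orderOf (f x) = p ^ k) :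
    ∃ a ∈ zpowers x, (∃ j, orderOf a = p ^ j) ∧ f a = f x := by
  obtain ⟨a, b, hab, -, haz, hbz, ⟨j, hj⟩, hb⟩ :=
    Fusion.exists_pPart_mul (p := p) x (isOfFinOrder_of_finite x)
  refine ⟨a, haz, ?_, ?_⟩
  · obtain ⟨i, -, hi⟩ := (Nat.dvd_prime_pow (Fact.out : p.Prime)).mp hj
    exact ⟨i, hi⟩
  · obtain ⟨n, rfl⟩ := mem_zpowers_iff.mp hbz
    have hd : orderOf (f (x ^ n)) ∣ p ^ k := by
      rw [← hk, map_zpow]
      exact orderOf_dvd_of_mem_zpowers (mem_zpowers_iff.mpr ⟨n, rfl⟩)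
    have h1 : orderOf (f (x ^ n)) ∣ Nat.gcd (orderOf (x ^ n)) (p ^ k) :=
      Nat.dvd_gcd (orderOf_map_dvd f _) hd
    rw [Nat.Coprime.gcd_eq_one (Nat.Coprime.pow_right k hb), Nat.dvd_one,
      orderOf_eq_one_iff] at h1
    conv_rhs => rw [hab, map_mul, h1, mul_one]

/-! ### `Y`-minimal groups -/

omit [Finite G] in
theorem isMinimalOver_not_normal {Y M : Subgroup G} (hY : Cfsg.IsMinimalOver Y) (hM : IsCoatom M)
    (hYM : Y ≤ M) {N : Subgroup G} [N.Normal] (hN : N ≤ M) : ¬ Y ≤ N := fun h =>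
  hM.1 (top_le_iff.mp (hY.1 ▸ ((normalClosure_le_normal (N := N) h).trans hN)))

theorem isMinimalOver_le {Y M : Subgroup G} (hY : Cfsg.IsMinimalOver Y) (hM : IsCoatom M)
    (hYM : Y ≤ M) {X : Subgroup G} (hYX : Y ≤ X) (hX : X ≠ ⊤) : X ≤ M := by
  obtain ⟨M', hM', hle⟩ := (eq_top_or_exists_le_coatom X).resolve_left hX
  exact hle.trans (hY.2.unique ⟨hM', hYX.trans hle⟩ ⟨hM, hYM⟩).le

theorem eq_top_of_sup_le_coatom {M N X : Subgroup G} (hM : IsCoatom M) (hN : N ≤ M)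
    (h : X ⊔ N = ⊤) (hX : X ≤ M) : False :=
  hM.1 (top_le_iff.mp (h.ge.trans (sup_le hX hN)))

end Cfsg.Agent.LocalStructure
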