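import Mathlib
import Cfsg.Agent.LocalStructure.CharP
import Cfsg.Agent.FusSys.SylowAux
import Cfsg.Agent.Fusion.PGroup

/-!
# Weakly closed subgroups
-/

set_option autoImplicit false
set_option linter.all false

namespace Cfsg.Agent.LocalStructure

open Subgroup

variable {G : Type*} [Group G]

/-- `Q ^ g = g Q g⁻¹`. -/
abbrev cmap (g : G) (Q : Subgroup G) : Subgroup G := Q.map (MulAut.conj g).toMonoidHom

theorem mem_cmap {g x : G} {Q : Subgroup G} : x ∈ cmap g Q ↔ g⁻¹ * x * g ∈ Q := Layer.mem_map_conj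

theorem cmap_mul (g h : G) (Q : Subgroup G) : cmap (g * h) Q = cmap g (cmap h Q) :=
  (Layer.map_conj_map_conj Q h g).symm

theorem cmap_one (Q : Subgroup G) : cmap (1 : G) Q = Q := Layer.map_conj_one Q

theorem cmap_inv_cmap (g : G) (Q : Subgroup G) : cmap g⁻¹ (cmap g Q) = Q := by
  rw [← cmap_mul, inv_mul_cancel, cmap_one]

theorem cmap_cmap_inv (g : G) (Q : Subgroup G) : cmap g (cmap g⁻¹ Q) = Q := by
  rw [← cmap_mul, mul_inv_cancel, cmap_one]

theorem cmap_eq_iff {g : G} {Q : Subgroup G} : cmap g Q = Q ↔ g ∈ normalizer (Q : Set G) :=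
  mem_normalizer_iff_map_conj_eq.symm

theorem cmap_mono {g : G} {A B : Subgroup G} (h : A ≤ B) : cmap g A ≤ cmap g B := Subgroup.map_mono h

theorem cmap_eq_self_of_mem {g : G} {A : Subgroup G} (h : g ∈ A) : cmap g A = A :=
  cmap_eq_iff.mpr (le_normalizer h)

theorem normalizer_cmap (g : G) (Q : Subgroup G) :
    normalizer ((cmap g Q : Subgroup G) : Set G) = cmap g (normalizer (Q : Set G)) :=
  (map_equiv_normalizer_eq Q (MulAut.conj g)).symm

theorem centralizer_cmap (g : G) (Q : Subgroup G) :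
    centralizer ((cmap g Q : Subgroup G) : Set G) = cmap g (centralizer (Q : Set G)) := by
  ext x
  rw [mem_cmap, mem_centralizer_iff, mem_centralizer_iff]
  constructor
  · intro h q hq
    have := h (g * q * g⁻¹) (mem_cmap.mpr (by simpa [mul_assoc] using hq))
    calc q * (g⁻¹ * x * g) = g⁻¹ * (g * q * g⁻¹ * x) * g := by group
      _ = g⁻¹ * x * g * q := by rw [this]; group
  · intro h q hq
    have := h _ (mem_cmap.mp hq)
    calc q * x = g * ((g⁻¹ * q * g) * (g⁻¹ * x * g)) * g⁻¹ := by group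
      _ = x * q := by rw [this]; group

variable [Finite G] {p : ℕ} [hp : Fact p.Prime]

theorem exists_cmap_le_sylow {A : Subgroup G} (hA : IsPGroup p A) (T : Sylow p G) :
    ∃ x : G, cmap x A ≤ (T : Subgroup G) := by
  obtain ⟨x, hx⟩ := FusSys.exists_conj_mem_sylow hA T
  exact ⟨x, by rintro _ ⟨a, ha, rfl⟩; exact hx a ha⟩

/-- A weakly closed subgroup is the only conjugate of itself in every `p`-group containing it. -/
theorem wc_eq {Q : Subgroup G} (hwc : Cfsg.IsWeaklyClosedSubgroup p Q) {S : Subgroup G}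
    (hS : IsPGroup p S) (hQS : Q ≤ S) {g : G} (hg : cmap g Q ≤ S) : cmap g Q = Q := by
  obtain ⟨T, hQT, hT⟩ := hwc
  obtain ⟨x, hx⟩ := exists_cmap_le_sylow hS T
  have h1 : cmap x Q = Q := hT x ((cmap_mono hQS).trans hx)
  have h2 : cmap (x * g) Q = Q := hT _ ((cmap_mul x g Q).le.trans ((cmap_mono hg).trans hx))
  calc cmap g Q = cmap x⁻¹ (cmap (x * g) Q) := by rw [cmap_mul x g, cmap_inv_cmap]
    _ = cmap x⁻¹ (cmap x Q) := by rw [h2, h1]
    _ = Q := cmap_inv_cmap x Q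

theorem wc_normalizer_le {Q : Subgroup G} (hwc : Cfsg.IsWeaklyClosedSubgroup p Q) {R : Subgroup G}
    (hR : IsPGroup p R) (hQR : Q ≤ R) : normalizer (R : Set G) ≤ normalizer (Q : Set G) := fun g hg =>
  cmap_eq_iff.mp (wc_eq hwc hR hQR ((cmap_mono hQR).trans (cmap_eq_iff.mpr hg).le))

theorem wc_le_normalizer {Q : Subgroup G} (hwc : Cfsg.IsWeaklyClosedSubgroup p Q) {R : Subgroup G}
    (hR : IsPGroup p R) (hQR : Q ≤ R) : R ≤ normalizer (Q : Set G) :=
  Subgroup.le_normalizer.trans (wc_normalizer_le hwc hR hQR)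

/-- Two conjugates of a weakly closed subgroup normalizing one another are equal. -/
theorem wc_eq_of_le_normalizer {Q : Subgroup G} (hQ : IsPGroup p Q)
    (hwc : Cfsg.IsWeaklyClosedSubgroup p Q) {g : G} (h : cmap g Q ≤ normalizer (Q : Set G)) :
    cmap g Q = Q :=
  wc_eq hwc (hQ.to_sup_of_normal_left' (hQ.map _) h) le_sup_left le_sup_right

theorem wc_of_normal_in_sylows {Q : Subgroup G} (hQ : IsPGroup p Q)
    (hnorm : ∀ T : Sylow p G, Q ≤ (T : Subgroup G) → (T : Subgroup G) ≤ normalizer (Q : Set G))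
    (heq : ∀ (T : Sylow p G) (g : G), Q ≤ (T : Subgroup G) → (T : Subgroup G) ≤ normalizer (Q : Set G) →
      cmap g Q ≤ (T : Subgroup G) → (T : Subgroup G) ≤ normalizer ((cmap g Q : Subgroup G) : Set G) →
      cmap g Q = Q) : Cfsg.IsWeaklyClosedSubgroup p Q := by
  obtain ⟨T, hT⟩ := hQ.exists_le_sylow
  refine ⟨T, hT, fun g hg => heq T g hT (hnorm T hT) hg ?_⟩
  obtain ⟨T', hT'⟩ := (T.isPGroup'.map (MulAut.conj g⁻¹).toMonoidHom).exists_le_sylow
  have h1 : Q ≤ (T' : Subgroup G) := by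
    refine le_trans ?_ hT'
    rw [← cmap_inv_cmap g Q]
    exact cmap_mono hg
  rw [normalizer_cmap]
  intro t ht
  exact mem_cmap.mpr (hnorm T' h1 (hT' ⟨t, ht, by simp⟩))

/-- Weak closure from the condition on normalizers of `p`-overgroups. -/
theorem wc_of_normalizer_le {Q : Subgroup G} (hQ : IsPGroup p Q)
    (h : ∀ R : Subgroup G, IsPGroup p R → Q ≤ R → normalizer (R : Set G) ≤ normalizer (Q : Set G)) :
    Cfsg.IsWeaklyClosedSubgroup p Q := by
  refine wc_of_normal_in_sylows hQ (fun T hT => Subgroup.le_normalizer.trans (h _ T.isPGroup' hT))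
    fun T g hQT hTQ hgT hTg => ?_
  set N := normalizer ((cmap g Q : Subgroup G) : Set G) with hN
  have h2 : cmap g (T : Subgroup G) ≤ N := by
    rw [hN, normalizer_cmap]
    exact cmap_mono hTQ
  obtain ⟨n, hn, hle⟩ := Fusion.exists_conjSub_le_of_not_dvd_relIndex hTg T.isPGroup'
    (sylow_not_dvd_relIndex T hTg) h2 (T.isPGroup'.map _)
  have h3 : n⁻¹ * g ∈ normalizer ((T : Subgroup G) : Set G) := by
    refine mem_normalizer_fintype (S := ((T : Subgroup G) : Set G)) fun q hq => ?_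
    have h4 : n⁻¹ * (g * q * g⁻¹) * n ∈ (T : Subgroup G) := by
      apply hle
      rw [Fusion.mem_conjSub]
      exact ⟨q, hq, by simp [mul_assoc]⟩
    have h5 : n⁻¹ * g * q * (n⁻¹ * g)⁻¹ ∈ (T : Subgroup G) := by
      rw [show n⁻¹ * g * q * (n⁻¹ * g)⁻¹ = n⁻¹ * (g * q * g⁻¹) * n by group]
      exact h4
    exact h5
  have h6 := cmap_eq_iff.mpr (h _ T.isPGroup' hQT h3)
  have h7 : cmap n⁻¹ (cmap g Q) = cmap g Q := cmap_eq_iff.mpr (inv_mem hn)
  rw [cmap_mul, h7] at h6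
  exact h6

/-- Weak closure from the condition on conjugates normalizing one another. -/
theorem wc_of_commutator {Q : Subgroup G} (hQ : IsPGroup p Q)
    (h : ∀ g : G, Q ≤ normalizer ((cmap g Q : Subgroup G) : Set G) →
      cmap g Q ≤ normalizer (Q : Set G) → cmap g Q = Q) : Cfsg.IsWeaklyClosedSubgroup p Q := by
  refine wc_of_normal_in_sylows hQ (fun T hT => ?_) fun T g hQT hTQ hgT hTg =>
    h g (hQT.trans hTg) (hgT.trans hTQ)
  by_contra hne
  have hlt : (T : Subgroup G) ⊓ normalizer (Q : Set G) < (T : Subgroup G) :=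
    lt_of_le_of_ne inf_le_left fun e => hne (e ▸ inf_le_right)
  obtain ⟨u, hu, huD⟩ := SetLike.exists_of_lt (Fusion.lt_inf_normalizer_of_isPGroup T.isPGroup' hlt)
  set D := (T : Subgroup G) ⊓ normalizer (Q : Set G) with hD
  have hQD : Q ≤ D := le_inf hT Subgroup.le_normalizer
  have huD' : cmap u D = D := cmap_eq_iff.mpr hu.2
  have h1 : cmap u Q ≤ normalizer (Q : Set G) := ((cmap_mono hQD).trans huD'.le).trans inf_le_right
  have h2 : Q ≤ normalizer ((cmap u Q : Subgroup G) : Set G) := by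
    rw [normalizer_cmap]
    exact hQD.trans (huD'.ge.trans (cmap_mono inf_le_right))
  exact huD ⟨hu.1, cmap_eq_iff.mp (h u h2 h1)⟩

/-- Conjugates inside `K` are conjugate in `K`. -/
theorem wc_exists_conj {Q : Subgroup G} (hQ : IsPGroup p Q) (hwc : Cfsg.IsWeaklyClosedSubgroup p Q)
    {K : Subgroup G} (hQK : Q ≤ K) {g : G} (hg : cmap g Q ≤ K) :
    ∃ k ∈ K, cmap g Q = cmap k Q := by
  obtain ⟨S, hS⟩ := (hQ.comap_of_injective K.subtype K.subtype_injective).exists_le_sylow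
  obtain ⟨k, hk⟩ := FusSys.exists_conj_mem_sylow ((hQ.map (MulAut.conj g).toMonoidHom).comap_of_injective
    K.subtype K.subtype_injective) S
  have h1 : cmap (k : G) (cmap g Q) ≤ (S : Subgroup K).map K.subtype := by
    rintro _ ⟨x, hx, rfl⟩
    exact ⟨k * ⟨x, hg hx⟩ * k⁻¹, hk ⟨x, hg hx⟩ hx, rfl⟩
  have h2 : Q ≤ (S : Subgroup K).map K.subtype := fun x hx => ⟨⟨x, hQK hx⟩, hS hx, rfl⟩
  rw [← cmap_mul] at h1
  refine ⟨(k : G)⁻¹, K.inv_mem k.2, ?_⟩
  have h3 := wc_eq hwc (S.isPGroup'.map _) h2 h1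
  calc cmap g Q = cmap (k : G)⁻¹ (cmap ((k : G) * g) Q) := by rw [cmap_mul, cmap_inv_cmap]
    _ = cmap (k : G)⁻¹ Q := by rw [h3]

theorem isPGroup_cmap {Q : Subgroup G} (hQ : IsPGroup p Q) (g : G) : IsPGroup p (cmap g Q) := hQ.map _

theorem cmap_ne_bot {Q : Subgroup G} (hQ : Q ≠ ⊥) (g : G) : cmap g Q ≠ ⊥ := fun h =>
  hQ ((Subgroup.map_eq_bot_iff_of_injective Q (MulAut.conj g).injective).mp h)

theorem inf_centralizer_ne_bot {Q V : Subgroup G} (hQ : IsPGroup p Q) (hV : IsPGroup p V)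
    (hQV : Q ≤ normalizer (V : Set G)) (hV1 : V ≠ ⊥) : V ⊓ centralizer (Q : Set G) ≠ ⊥ := by
  intro e
  set X : Subgroup G := V ⊔ Q with hX
  haveI : (V.subgroupOf X).Normal :=
    normal_subgroupOf_of_le_normalizer (sup_le Subgroup.le_normalizer hQV)
  refine Fusion.pGroup_inf_center_ne_bot (hV.to_sup_of_normal_left' hQ hQV) (V.subgroupOf X)
    (fun h => hV1 (disjoint_self.mp ((subgroupOf_eq_bot.mp h).mono_right le_sup_left))) ?_
  rw [eq_bot_iff]
  rintro ⟨z, hz⟩ ⟨h1, h2⟩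
  have h3 : z ∈ V ⊓ centralizer (Q : Set G) := ⟨h1, mem_centralizer_iff.mpr fun q hq =>
    congrArg Subtype.val (mem_center_iff.mp h2 ⟨q, mem_sup_right hq⟩)⟩
  rw [e, mem_bot] at h3
  exact Subgroup.mem_bot.mpr (Subtype.ext h3)

end Cfsg.Agent.LocalStructure
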