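import Mathlib
import Cfsg.Prelude.Def_LocalStructure
import Cfsg.Agent.Layer.PConstraint
import Cfsg.Agent.LocalStructure.CharP
import Cfsg.Agent.LocalStructure.WeaklyClosed
import Cfsg.Agent.LocalStructure.OmegaAction

/-!
# Characteristic `p` of local subgroups
-/

set_option autoImplicit false
set_option linter.all false

namespace Cfsg.Agent.LocalStructure

open Subgroup

variable {G : Type*} [Group G] [Finite G] {p : ℕ} [hp : Fact p.Prime]

theorem charP_iff_selfCentral {L : Subgroup G} : CharP p L ↔ Layer.PCoreSelfCentral p L := charP_iff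

theorem gfs_eq_iff_charP {L : Subgroup G} :
    Cfsg.generalizedFittingSubgroup L = Cfsg.pCore p L ↔ CharP p L :=
  Layer.generalizedFitting_eq_pCore_iff.trans charP_iff_selfCentral.symm

theorem charP_map_iff {H : Type*} [Group H] [Finite H] (f : G →* H) (hf : Function.Injective f)
    {L : Subgroup G} : CharP p (L.map f) ↔ CharP p L := by
  rw [charP_iff_selfCentral, charP_iff_selfCentral]
  exact ⟨Layer.pCoreSelfCentral_congr (L.equivMapOfInjective f hf).symm,
    Layer.pCoreSelfCentral_congr (L.equivMapOfInjective f hf)⟩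

theorem charP_cmap_iff {L : Subgroup G} (g : G) : CharP p (cmap g L) ↔ CharP p L :=
  charP_map_iff _ (MulAut.conj g).injective

theorem charP_of_coprime {L : Subgroup G}
    (h : ∀ x ∈ L, (orderOf x).Coprime p → x ∈ centralizer (Cfsg.pCoreOf p L : Set G) → x = 1) :
    CharP p L :=
  le_pCoreOf_of_normal inf_le_left (Coprime.le_normalizer_inf Subgroup.le_normalizer
    (Coprime.le_normalizer_centralizer (le_normalizer_pCoreOf L)))
    (isPGroup_of_forall_coprime fun x hx hxc => h x hx.1 hxc hx.2)

/-- Subgroups between `C(B)` and `N(B)` have characteristic `p` if a subgroup containing `B` and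
`C(B)` has. -/
theorem charP_of_centralizer_le {B K M : Subgroup G} (hK : CharP p K) (hB : IsPGroup p B) (hBK : B ≤ K)
    (hCK : centralizer (B : Set G) ≤ K) (hCM : centralizer (B : Set G) ≤ M)
    (hBM : B ≤ M) (hMN : M ≤ normalizer (B : Set G)) : CharP p M := by
  set O : Subgroup G := Cfsg.pCoreOf p K with hO
  set D : Subgroup G := Cfsg.pCoreOf p (centralizer (B : Set G)) with hD
  have hDM : D ≤ Cfsg.pCoreOf p M := by
    exact le_pCoreOf_of_normal ((pCoreOf_le _).trans hCM)
      (le_normalizer_map_characteristic (hMN.trans (Coprime.le_normalizer_centralizer le_rfl)) _)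
      (pCoreOf_isPGroup _)
  refine charP_of_coprime fun x hxM hxc hxO => ?_
  -- `x` centralizes `B`
  have hxB : x ∈ centralizer (B : Set G) := centralizer_le (SetLike.coe_subset_coe.mpr
    (le_pCoreOf_of_normal hBM hMN hB)) hxO
  have hxK : x ∈ K := hCK hxB
  have hU : O ⊓ centralizer (B : Set G) ≤ D := le_pCoreOf_of_normal inf_le_right
    (Coprime.le_normalizer_inf (hCK.trans (le_normalizer_pCoreOf K)) Subgroup.le_normalizer)
    ((pCoreOf_isPGroup K).to_le inf_le_left)
  have h1 : zpowers x ≤ centralizer (O : Set G) := by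
    refine Coprime.thompson_pxq hB (by rwa [Nat.card_zpowers]) (pCoreOf_isPGroup K)
      (le_centralizer_iff.mp (zpowers_le.mpr hxB)) (hBK.trans (le_normalizer_pCoreOf K))
      ((zpowers_le.mpr hxK).trans (le_normalizer_pCoreOf K)) ?_
    rw [le_centralizer_iff, zpowers_le]
    exact centralizer_le (SetLike.coe_subset_coe.mpr (hU.trans hDM)) hxO
  exact Subgroup.mem_bot.mp (coprime_mem_centralizer_of_isPGroup (pCoreOf_isPGroup K)
    (hK ⟨hxK, h1 (mem_zpowers x)⟩) hxc)

theorem charP_normalizer_of_centralizer_le {B K : Subgroup G} (hK : CharP p K) (hB : IsPGroup p B)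
    (hBK : B ≤ K) (hCK : centralizer (B : Set G) ≤ K) :
    CharP p (normalizer (B : Set G)) ∧ CharP p (centralizer (B : Set G)) :=
  have h := charP_of_centralizer_le hK hB hBK hCK (centralizer_le_normalizer _) Subgroup.le_normalizer le_rfl
  ⟨h, charP_of_normal (centralizer_le_normalizer _) (Coprime.le_normalizer_centralizer le_rfl) h⟩

theorem mem_sylow_of_centralizes {S : Sylow p G} {z : G} {k : ℕ} (hz : orderOf z = p ^ k)
    (hc : z ∈ centralizer ((S : Subgroup G) : Set G)) : z ∈ (S : Subgroup G) := by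
  have h1 : IsPGroup p ((S : Subgroup G) ⊔ zpowers z : Subgroup G) :=
    S.2.to_sup_of_normal_left' (IsPGroup.of_card (n := k) (by rw [Nat.card_zpowers, hz]))
      ((zpowers_le.mpr hc).trans (centralizer_le_normalizer _))
  exact (S.3 h1 le_sup_left).le (mem_sup_right (mem_zpowers z))

/-- Parabolic characteristic `p` follows from the centralizers in `Ω₁(Z(S))`. -/
theorem parabolicChar_of_centralizers (S : Sylow p G)
    (h : ∀ z ∈ omegaZ p (S : Subgroup G), z ≠ 1 → CharP p (centralizer ({z} : Set G))) :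
    Cfsg.IsOfParabolicCharacteristic p G := by
  intro R hR hR1 hpar
  rw [← charP_iff]
  obtain ⟨T, hT⟩ := hpar
  obtain ⟨g, rfl⟩ := MulAction.exists_smul_eq G S T
  set R' : Subgroup G := cmap g⁻¹ R with hR'
  have hR'p : IsPGroup p R' := isPGroup_cmap hR _
  have hSR : (S : Subgroup G) ≤ normalizer (R' : Set G) := by
    rw [hR', normalizer_cmap]
    intro s hs
    rw [mem_cmap]
    apply hT
    rw [Sylow.coe_subgroup_smul]
    simpa using smul_mem_pointwise_smul s (MulAut.conj g) (S : Subgroup G) hs
  have hne := inf_centralizer_ne_bot S.2 hR'p hSR (cmap_ne_bot hR1 _)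
  set W : Subgroup G := R' ⊓ centralizer ((S : Subgroup G) : Set G) with hW
  haveI : Nontrivial W := (nontrivial_iff_ne_bot W).mpr hne
  obtain ⟨n, hn0, hn⟩ := (IsPGroup.nontrivial_iff_card (hR'p.to_le inf_le_left : IsPGroup p W)).mp inferInstance
  obtain ⟨⟨z, hz⟩, hzo⟩ := exists_prime_orderOf_dvd_card' (G := W) p (hn ▸ dvd_pow_self p hn0.ne')
  rw [← Subgroup.orderOf_coe] at hzo
  have hzo' : orderOf z = p := hzo
  have hzS : z ∈ (S : Subgroup G) := mem_sylow_of_centralizes (k := 1) (by rw [pow_one]; exact hzo') hz.2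
  have hz1 : z ≠ 1 := fun e => hp.out.ne_one (by rw [← hzo', e, orderOf_one])
  have hC := h z (mem_omegaZ_iff.mpr ⟨hzS, hz.2, hzo' ▸ pow_orderOf_eq_one z⟩) hz1
  have hR'S : R' ≤ (S : Subgroup G) :=
    le_sup_right.trans (S.3 (S.2.to_sup_of_normal_right' hR'p hSR) le_sup_left).le
  have h1 := (charP_normalizer_of_centralizer_le hC hR'p
    (fun r hr => mem_centralizer_singleton_iff.mpr (mem_centralizer_iff.mp hz.2 r (hR'S hr)))
    (fun c hc => mem_centralizer_singleton_iff.mpr (mem_centralizer_iff.mp hc z hz.1).symm)).1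
  rwa [hR', normalizer_cmap, charP_cmap_iff] at h1

theorem charP_centralizer_of_parabolicChar (hG : Cfsg.IsOfParabolicCharacteristic p G) (S : Sylow p G)
    {z : G} (hz : z ∈ omegaZ p (S : Subgroup G)) (hz1 : z ≠ 1) :
    CharP p (centralizer ({z} : Set G)) := by
  obtain ⟨hzS, hzC, -⟩ := mem_omegaZ_iff.mp hz
  have hC : centralizer ({z} : Set G) = centralizer ((zpowers z : Subgroup G) : Set G) := by
    rw [zpowers_eq_closure, centralizer_closure]
  rw [hC]
  have hN : (S : Subgroup G) ≤ normalizer ((zpowers z : Subgroup G) : Set G) := by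
    refine le_trans ?_ (centralizer_le_normalizer _)
    rw [le_centralizer_iff, zpowers_le]; exact hzC
  refine charP_of_normal (centralizer_le_normalizer _) (Coprime.le_normalizer_centralizer le_rfl)
    (charP_iff.mpr (hG _ (S.2.to_le (zpowers_le.mpr hzS)) (zpowers_ne_bot.mpr hz1) ⟨S, hN⟩))

end Cfsg.Agent.LocalStructure
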