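import Cfsg.Agent.LocalStructure.FrakH
import Cfsg.Agent.LocalStructure.LocalChar
import Cfsg.Agent.Invol.BaerSuzuki

/-!
# The asymmetric L-lemma

`L` minimal over `Y` with `Y` outside `O_p(L)` inside a member `H` of `ℌ(O)`.  The key point: if a
subgroup normalizes `Y ∩ O_p(H)`, then it normalizes a `p`-group containing `O`, hence `Y`.
-/

set_option autoImplicit false
set_option linter.all false

namespace Cfsg.Agent.LocalStructure.AsymL

open Subgroup

variable {G : Type*} [Group G]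

/-- Elements of `N` whose commutators with `A` lie in `B`. -/
def comSub (N A B : Subgroup G) (h : N ≤ normalizer (B : Set G)) : Subgroup G where
  carrier := {x | x ∈ N ∧ ∀ a ∈ A, x * a * x⁻¹ * a⁻¹ ∈ B}
  one_mem' := ⟨N.one_mem, fun a _ => by simpa using B.one_mem⟩
  mul_mem' := by
    rintro x y ⟨hx, hx'⟩ ⟨hy, hy'⟩
    refine ⟨N.mul_mem hx hy, fun a ha => ?_⟩
    have h1 := (mem_normalizer_iff.mp (h hx) _).mp (hy' a ha)
    rw [show x * y * a * (x * y)⁻¹ * a⁻¹ =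
      (x * (y * a * y⁻¹ * a⁻¹) * x⁻¹) * (x * a * x⁻¹ * a⁻¹) by group]
    exact B.mul_mem h1 (hx' a ha)
  inv_mem' := by
    rintro x ⟨hx, hx'⟩
    refine ⟨N.inv_mem hx, fun a ha => ?_⟩
    have h1 := (mem_normalizer_iff.mp (h (N.inv_mem hx)) _).mp (B.inv_mem (hx' a ha))
    convert h1 using 1
    group

theorem mem_comSub {N A B : Subgroup G} {h : N ≤ normalizer (B : Set G)} {x : G} :
    x ∈ comSub N A B h ↔ x ∈ N ∧ ∀ a ∈ A, x * a * x⁻¹ * a⁻¹ ∈ B := Iff.rfl

theorem le_normalizer_comSub [Finite G] {Z N A B : Subgroup G} {h : N ≤ normalizer (B : Set G)}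
    (hN : Z ≤ normalizer (N : Set G)) (hA : Z ≤ normalizer (A : Set G))
    (hB : Z ≤ normalizer (B : Set G)) : Z ≤ normalizer (comSub N A B h : Set G) := by
  intro z hz
  refine Layer.mem_normalizer_of_conj_mem fun x hx => ?_
  refine ⟨(mem_normalizer_iff.mp (hN hz) x).mp hx.1, fun a ha => ?_⟩
  have ha' : z⁻¹ * a * z ∈ A := by simpa using (mem_normalizer_iff.mp (hA (Z.inv_mem hz)) a).mp ha
  have h1 := (mem_normalizer_iff.mp (hB hz) _).mp (hx.2 _ ha')
  convert h1 using 1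
  group

/-- Elements of `V` fixed by `K` modulo `W`. -/
def fixSub (V K W : Subgroup G) (h : V ≤ normalizer (W : Set G)) : Subgroup G where
  carrier := {v | v ∈ V ∧ ∀ k ∈ K, k * v * k⁻¹ * v⁻¹ ∈ W}
  one_mem' := ⟨V.one_mem, fun k _ => by simpa using W.one_mem⟩
  mul_mem' := by
    rintro a b ⟨ha, ha'⟩ ⟨hb, hb'⟩
    refine ⟨V.mul_mem ha hb, fun k hk => ?_⟩
    have h1 := (mem_normalizer_iff.mp (h ha) _).mp (hb' k hk)
    rw [show k * (a * b) * k⁻¹ * (a * b)⁻¹ =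
      (k * a * k⁻¹ * a⁻¹) * (a * (k * b * k⁻¹ * b⁻¹) * a⁻¹) by group]
    exact W.mul_mem (ha' k hk) h1
  inv_mem' := by
    rintro a ⟨ha, ha'⟩
    refine ⟨V.inv_mem ha, fun k hk => ?_⟩
    have h1 := (mem_normalizer_iff.mp (h (V.inv_mem ha)) _).mp (W.inv_mem (ha' k hk))
    convert h1 using 1
    group

theorem mem_fixSub {V K W : Subgroup G} {h : V ≤ normalizer (W : Set G)} {v : G} :
    v ∈ fixSub V K W h ↔ v ∈ V ∧ ∀ k ∈ K, k * v * k⁻¹ * v⁻¹ ∈ W := Iff.rfl

theorem le_normalizer_fixSub [Finite G] {Z V K W : Subgroup G} {h : V ≤ normalizer (W : Set G)}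
    (hV : Z ≤ normalizer (V : Set G)) (hK : Z ≤ normalizer (K : Set G))
    (hW : Z ≤ normalizer (W : Set G)) : Z ≤ normalizer (fixSub V K W h : Set G) := by
  intro z hz
  refine Layer.mem_normalizer_of_conj_mem fun v hv => ?_
  refine ⟨(mem_normalizer_iff.mp (hV hz) v).mp hv.1, fun k hk => ?_⟩
  have hk' : z⁻¹ * k * z ∈ K := by simpa using (mem_normalizer_iff.mp (hK (Z.inv_mem hz)) k).mp hk
  have h1 := (mem_normalizer_iff.mp (hW hz) _).mp (hv.2 _ hk')
  convert h1 using 1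
  group

variable [Finite G] {p : ℕ} [hp : Fact p.Prime]

theorem isPGroup_of_coprime_eq_one {K : Subgroup G}
    (h : ∀ c ∈ K, (orderOf c).Coprime p → c = 1) : IsPGroup p K := by
  refine IsPGroup.iff_card.mpr ⟨_, Nat.eq_prime_pow_of_unique_prime_dvd Nat.card_pos.ne'
    fun {r} hr hrd => ?_⟩
  haveI : Fact r.Prime := ⟨hr⟩
  by_contra hne
  obtain ⟨x, hx⟩ := exists_prime_orderOf_dvd_card' r hrd
  rw [← Subgroup.orderOf_coe] at hx
  have := h x x.2 (hx ▸ (Nat.coprime_primes hr hp.out).mpr hne)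
  rw [this, orderOf_one] at hx
  exact hr.ne_one hx.symm

/-- A `p'`-element centralizing `B` and acting trivially modulo the `p`-group `B` centralizes. -/
theorem eq_of_stab {B : Subgroup G} (hB : IsPGroup p B) {c a : G} (hc : (orderOf c).Coprime p)
    (hb : c * a * c⁻¹ * a⁻¹ ∈ B) (hcb : ∀ b ∈ B, c * b = b * c) : c * a = a * c := by
  set b := c * a * c⁻¹ * a⁻¹ with hbdef
  have hcb' : c * b = b * c := hcb b hb
  have hit : ∀ n : ℕ, c ^ n * a * (c ^ n)⁻¹ = b ^ n * a := by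
    intro n
    induction n with
    | zero => simp
    | succ n ih =>
      have e1 : c * b ^ n * c⁻¹ = b ^ n := by
        rw [((show Commute c b from hcb').pow_right n).eq, mul_inv_cancel_right]
      calc c ^ (n + 1) * a * (c ^ (n + 1))⁻¹ = c * (c ^ n * a * (c ^ n)⁻¹) * c⁻¹ := by
            rw [pow_succ']; group
        _ = (c * b ^ n * c⁻¹) * (c * a * c⁻¹ * a⁻¹) * a := by rw [ih]; group
        _ = b ^ (n + 1) * a := by rw [e1, ← hbdef, pow_succ]
  have h1 : b ^ orderOf c = 1 := by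
    have := hit (orderOf c)
    rw [pow_orderOf_eq_one, one_mul, inv_one, mul_one] at this
    exact right_eq_mul.mp this
  obtain ⟨k, hk⟩ := IsPGroup.iff_orderOf.mp hB ⟨b, hb⟩
  rw [Subgroup.orderOf_mk] at hk
  have h2 : b = 1 := orderOf_eq_one_iff.mp (Nat.eq_one_of_dvd_coprimes
    (Nat.Coprime.pow_right k hc) (orderOf_dvd_of_pow_eq_one h1) (hk ▸ dvd_rfl))
  calc c * a = b * a * c := by rw [hbdef]; group
    _ = a * c := by rw [h2, one_mul]

/-- A `p`-group acting on a `p`-group section has nontrivial fixed points. -/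
theorem exists_fixed {V K W : Subgroup G} (hV : IsPGroup p V) (hK : IsPGroup p K)
    (hKV : K ≤ normalizer (V : Set G)) (hne : ¬ V ≤ W) :
    ∃ v ∈ V, v ∉ W ∧ ∀ k ∈ K, k * v * k⁻¹ * v⁻¹ ∈ W := by
  classical
  set P := V ⊔ K with hP
  have hPn : Group.IsNilpotent P := (hV.to_sup_of_normal_left' hK hKV).isNilpotent
  obtain ⟨N, hN⟩ := hPn.nilpotent'
  obtain ⟨v₀, hv₀, hv₀W⟩ := SetLike.not_le_iff_exists.mp hne
  have hex : ∃ n, ∃ v : P, (v : G) ∈ V ∧ (v : G) ∉ W ∧ v ∈ Subgroup.upperCentralSeries P n :=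
    ⟨N, ⟨v₀, mem_sup_left hv₀⟩, hv₀, hv₀W, hN ▸ Subgroup.mem_top _⟩
  obtain ⟨v, hvV, hvW, hvZ⟩ := Nat.find_spec hex
  refine ⟨v, hvV, hvW, fun k hk => ?_⟩
  by_contra hkW
  rcases hn : Nat.find hex with _ | n
  · rw [hn, Subgroup.upperCentralSeries_zero, mem_bot] at hvZ
    exact hvW (by rw [hvZ]; exact W.one_mem)
  · rw [hn, Subgroup.mem_upperCentralSeries_succ_iff] at hvZ
    have h1 := hvZ ⟨k, mem_sup_right hk⟩
    have h2 : (v : G) * k * (v : G)⁻¹ * k⁻¹ ∈ V := by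
      have := V.mul_mem hvV ((mem_normalizer_iff.mp (hKV hk) _).mp (V.inv_mem hvV))
      simpa [mul_assoc] using this
    refine Nat.find_min hex (hn ▸ Nat.lt_succ_self n) ⟨_, h2, fun hW => hkW ?_, h1⟩
    rw [show k * (v : G) * k⁻¹ * (v : G)⁻¹ = ((v : G) * k * (v : G)⁻¹ * k⁻¹)⁻¹ by group]
    exact W.inv_mem hW

/-- The facts about `O = O_p(M)`, `Y = Y_M`, `H` and `U = O_p(H)` that are used. -/
structure Ctx (p : ℕ) (O Y U H : Subgroup G) : Prop where
  hOp : IsPGroup p O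
  hUp : IsPGroup p U
  hYO : Y ≤ O
  hOH : O ≤ H
  hOY : O ≤ centralizer (Y : Set G)
  hUO : U ≤ normalizer (O : Set G)
  hUY : U ≤ normalizer (Y : Set G)
  hUH : U ≤ H
  hHU : H ≤ normalizer (U : Set G)
  hmax : ∀ N : Subgroup G, N ≤ H → H ≤ normalizer (N : Set G) → IsPGroup p N → N ≤ U
  hself : ∀ c ∈ H, (orderOf c).Coprime p → (∀ u ∈ U, c * u = u * c) → c = 1
  hNY : ∀ P : Subgroup G, IsPGroup p P → O ≤ P →
    normalizer (P : Set G) ≤ normalizer (Y : Set G)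
  hasym : ∀ g : G, cmap g Y ≤ normalizer (Y : Set G) →
    Y ≤ normalizer ((cmap g Y : Subgroup G) : Set G) → cmap g Y ≤ centralizer (Y : Set G)
  hmin : ∀ P : Subgroup G, O ≤ P → P < H → Y ≤ Cfsg.pCoreOf p P

/-- The minimal subgroup `L`. -/
structure LSetup (p : ℕ) (Y H L : Subgroup G) : Prop where
  hLH : L ≤ H
  hYL : Y ≤ L
  hYO : ¬ Y ≤ Cfsg.pCoreOf p L
  hmin : ∀ L' : Subgroup G, L' ≤ L → Y ≤ L' → ¬ Y ≤ Cfsg.pCoreOf p L' → L' = L

section

variable {O Y U H L : Subgroup G} (C : Ctx p O Y U H) (S : LSetup p Y H L)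
include C S

omit C in
theorem not_isPGroup : ¬ IsPGroup p L := fun h =>
  S.hYO (S.hYL.trans (le_pCoreOf_of_normal le_rfl Subgroup.le_normalizer h))

theorem Yp : IsPGroup p Y := C.hOp.to_le C.hYO

omit hp in
theorem Ycomm {a b : G} (ha : a ∈ Y) (hb : b ∈ Y) : a * b = b * a :=
  mem_centralizer_iff.mp (C.hOY (C.hYO hb)) a ha

theorem exists_gen : ∃ g ∈ L, Y ⊔ cmap g Y = L := by
  have hex : ∃ g ∈ L, ¬ IsPGroup p (Y ⊔ cmap g Y : Subgroup G) := by
    by_contra hcon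
    push Not at hcon
    set Y' : Subgroup L := Y.subgroupOf L with hY'
    obtain ⟨N, hN, hNp, hYN⟩ := Invol.baerSuzuki Y' ((Yp C S).comap_subtype) fun g => by
      refine IsPGroup.of_injective (p := p) (hcon g g.2)
        (((L.subtype).subgroupComap (Y ⊔ cmap (g : G) Y)).comp (Subgroup.inclusion ?_)) ?_
      · refine sup_le (fun y hy => mem_comap.mpr (mem_sup_left hy)) ?_
        rintro _ ⟨y, hy, rfl⟩
        exact mem_comap.mpr (mem_sup_right ⟨y, hy, rfl⟩)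
      · intro a b hab
        exact Subtype.ext (Subtype.ext (congrArg Subtype.val hab :))
    refine S.hYO ((le_of_eq ?_).trans (le_pCoreOf_of_normal (map_subtype_le N)
      (le_normalizer_map_of_normal L N) (hNp.map _) |> (Subgroup.map_mono hYN).trans))
    rw [hY', map_subgroupOf_eq_of_le S.hYL]
  obtain ⟨g, hg, hnp⟩ := hex
  refine ⟨g, hg, ?_⟩
  have hle : Y ⊔ cmap g Y ≤ L := sup_le S.hYL fun x hx => by
    obtain ⟨y, hy, rfl⟩ := hx
    exact L.mul_mem (L.mul_mem hg (S.hYL hy)) (L.inv_mem hg)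
  by_contra hne
  refine hne (S.hmin _ hle le_sup_left fun hY => hnp ?_)
  set X := Y ⊔ cmap g Y with hX
  have h1 : X ≤ Cfsg.pCoreOf p X ⊔ cmap g Y := sup_le (hY.trans le_sup_left) le_sup_right
  exact ((pCoreOf_isPGroup X).to_sup_of_normal_left' ((Yp C S).map _)
    ((le_sup_right : cmap g Y ≤ X).trans (le_normalizer_pCoreOf X))).to_le h1

omit hp in
/-- `O` centralizes `Y`, so its elements commute with those of `Y`. -/
theorem commOY {o y : G} (ho : o ∈ O) (hy : y ∈ Y) : y * o = o * y :=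
  mem_centralizer_iff.mp (C.hOY ho) y hy

omit hp in
theorem commUY {u y : G} (hu : u ∈ U) (hy : y ∈ Y) : u * y * u⁻¹ * y⁻¹ ∈ U ⊓ Y := by
  have hyH : y ∈ H := C.hOH (C.hYO hy)
  refine ⟨?_, Y.mul_mem ((mem_normalizer_iff.mp (C.hUY hu) y).mp hy) (Y.inv_mem hy)⟩
  have := U.mul_mem hu ((mem_normalizer_iff.mp (C.hHU hyH) _).mp (U.inv_mem hu))
  simpa [mul_assoc] using this

omit hp in
theorem conjU {g u : G} (hg : g ∈ L) (hu : u ∈ U) : g * u * g⁻¹ ∈ U :=
  (mem_normalizer_iff.mp (C.hHU (S.hLH hg)) u).mp hu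

omit hp in
theorem conjU' {g u : G} (hg : g ∈ L) (hu : u ∈ U) : g⁻¹ * u * g ∈ U := by
  simpa using conjU C S (L.inv_mem hg) hu

omit hp in
theorem commUY' {g u y : G} (hg : g ∈ L) (hu : u ∈ U) (hy : y ∈ cmap g Y) :
    u * y * u⁻¹ * y⁻¹ ∈ cmap g (U ⊓ Y) := by
  obtain ⟨z, hz, rfl⟩ := hy
  refine ⟨_, commUY C S (conjU' C S hg hu) hz, ?_⟩
  show g * ((g⁻¹ * u * g) * z * (g⁻¹ * u * g)⁻¹ * z⁻¹) * g⁻¹ =
    u * (g * z * g⁻¹) * u⁻¹ * (g * z * g⁻¹)⁻¹
  group

/-- The join of `U ∩ Y` and its conjugate. -/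
abbrev Jg (Y U : Subgroup G) (g : G) : Subgroup G := (U ⊓ Y) ⊔ cmap g (U ⊓ Y)

omit hp in
theorem cmapI_le {g : G} (hg : g ∈ L) : cmap g (U ⊓ Y) ≤ U := by
  rintro _ ⟨u, hu, rfl⟩
  exact conjU C S hg hu.1

omit hp in
theorem Jg_le {g : G} (hg : g ∈ L) : Jg Y U g ≤ U := sup_le inf_le_left (cmapI_le C S hg)

omit hp in
theorem mem_Jg {g : G} (hg : g ∈ L) {x : G} :
    x ∈ Jg Y U g ↔ ∃ a ∈ U ⊓ Y, ∃ b ∈ cmap g (U ⊓ Y), a * b = x :=
  Coprime.mem_sup_of_le_normalizer ((cmapI_le C S hg).trans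
    (Coprime.le_normalizer_inf Subgroup.le_normalizer C.hUY))

theorem L_le_comSub {g : G} (hg : g ∈ L) (hgen : Y ⊔ cmap g Y = L) :
    L ≤ normalizer (Jg Y U g : Set G) ∧
      ∀ x ∈ L, ∀ u ∈ U, x * u * x⁻¹ * u⁻¹ ∈ Jg Y U g := by
  set J := Jg Y U g with hJ
  have hUJ : U ≤ normalizer (J : Set G) := by
    refine Coprime.le_normalizer_sup (Coprime.le_normalizer_inf Subgroup.le_normalizer C.hUY) ?_
    intro u hu
    refine Layer.mem_normalizer_of_conj_mem ?_
    rintro _ ⟨i, hi, rfl⟩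
    have h1 : g⁻¹ * u * g ∈ U := conjU' C S hg hu
    refine ⟨(g⁻¹ * u * g) * i * (g⁻¹ * u * g)⁻¹,
      (mem_normalizer_iff.mp (Coprime.le_normalizer_inf Subgroup.le_normalizer C.hUY h1) i).mp hi, ?_⟩
    show g * ((g⁻¹ * u * g) * i * (g⁻¹ * u * g)⁻¹) * g⁻¹ = u * (g * i * g⁻¹) * u⁻¹
    group
  have hA : Y ≤ normalizer (J : Set G) := by
    intro y hy
    refine Layer.mem_normalizer_of_conj_mem fun x hx => ?_
    obtain ⟨a, ha, b, hb, rfl⟩ := (mem_Jg C S hg).mp hx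
    have e1 : y * a = a * y := Ycomm C S hy ha.2
    have h2 := (U ⊓ Y).inv_mem (commUY C S (cmapI_le C S hg hb) hy)
    rw [show y * (a * b) * y⁻¹ = a * ((b * y * b⁻¹ * y⁻¹)⁻¹ * b) by
      rw [← mul_assoc y a b, e1]; group]
    exact J.mul_mem (mem_sup_left ha) (J.mul_mem (mem_sup_left h2) (mem_sup_right hb))
  have hB : cmap g Y ≤ normalizer (J : Set G) := by
    intro y hy
    refine Layer.mem_normalizer_of_conj_mem fun x hx => ?_
    obtain ⟨a, ha, b, hb, rfl⟩ := (mem_Jg C S hg).mp hx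
    obtain ⟨z, hz, rfl⟩ := hy
    obtain ⟨i, hi, rfl⟩ := hb
    have h2 := (cmap g (U ⊓ Y)).inv_mem (commUY' C S hg ha.1 (⟨z, hz, rfl⟩ : g * z * g⁻¹ ∈ cmap g Y))
    have e1 : z * i * z⁻¹ = i := by rw [Ycomm C S hz hi.2, mul_inv_cancel_right]
    show g * z * g⁻¹ * (a * (g * i * g⁻¹)) * (g * z * g⁻¹)⁻¹ ∈ J
    rw [show g * z * g⁻¹ * (a * (g * i * g⁻¹)) * (g * z * g⁻¹)⁻¹ =
      (a * (g * z * g⁻¹) * a⁻¹ * (g * z * g⁻¹)⁻¹)⁻¹ * a * (g * (z * i * z⁻¹) * g⁻¹) by group, e1]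
    exact J.mul_mem (J.mul_mem (mem_sup_right h2) (mem_sup_left ha)) (mem_sup_right ⟨i, hi, rfl⟩)
  have hLJ : L ≤ normalizer (J : Set G) := hgen ▸ sup_le hA hB
  refine ⟨hLJ, fun x hx => ?_⟩
  suffices L ≤ comSub L U J hLJ from (this hx).2
  conv_lhs => rw [← hgen]
  refine sup_le (fun y hy => ⟨S.hYL hy, fun u hu => ?_⟩) fun y hy => ⟨hgen ▸ mem_sup_right hy, fun u hu => ?_⟩
  · have := (U ⊓ Y).inv_mem (commUY C S hu hy)
    exact mem_sup_left (by simpa [mul_assoc] using this)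
  · have := (cmap g (U ⊓ Y)).inv_mem (commUY' C S hg hu hy)
    exact mem_sup_right (by simpa [mul_assoc] using this)

omit hp C S in
theorem commute_of_gen {g z : G} (hgen : Y ⊔ cmap g Y = L) (h1 : ∀ y ∈ Y, z * y = y * z)
    (h2 : ∀ y ∈ cmap g Y, z * y = y * z) : ∀ x ∈ L, z * x = x * z := by
  intro x hx
  have : L ≤ centralizer ({z} : Set G) := by
    rw [← hgen]
    exact sup_le (fun y hy => mem_centralizer_singleton_iff.mpr (h1 y hy).symm)
      fun y hy => mem_centralizer_singleton_iff.mpr (h2 y hy).symm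
  exact (mem_centralizer_singleton_iff.mp (this hx)).symm

theorem J_centralizer {g j : G} (hg : g ∈ L) (hgen : Y ⊔ cmap g Y = L) (hj : j ∈ Jg Y U g)
    (hc : ∀ y ∈ Y, j * y = y * j) : j ∈ U ⊓ Y := by
  obtain ⟨a, ha, b, hb, rfl⟩ := (mem_Jg C S hg).mp hj
  obtain ⟨i, hi, rfl⟩ := hb
  suffices h : g * i * g⁻¹ = i by
    show a * (g * i * g⁻¹) ∈ U ⊓ Y
    rw [h]; exact (U ⊓ Y).mul_mem ha hi
  have h1 : ∀ y ∈ Y, (g * i * g⁻¹) * y = y * (g * i * g⁻¹) := fun y hy => by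
    have e : a * (g * i * g⁻¹) * y = y * (a * (g * i * g⁻¹)) := hc y hy
    calc g * i * g⁻¹ * y = a⁻¹ * (a * (g * i * g⁻¹) * y) := by group
      _ = a⁻¹ * (y * (a * (g * i * g⁻¹))) := by rw [e]
      _ = a⁻¹ * (y * a) * (g * i * g⁻¹) := by group
      _ = y * (g * i * g⁻¹) := by rw [Ycomm C S hy ha.2]; group
  have h2 : ∀ y ∈ cmap g Y, (g * i * g⁻¹) * y = y * (g * i * g⁻¹) := by
    rintro _ ⟨z, hz, rfl⟩
    show g * i * g⁻¹ * (g * z * g⁻¹) = g * z * g⁻¹ * (g * i * g⁻¹)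
    calc g * i * g⁻¹ * (g * z * g⁻¹) = g * (i * z) * g⁻¹ := by group
      _ = g * (z * i) * g⁻¹ := by rw [Ycomm C S hi.2 hz]
      _ = _ := by group
  have e := commute_of_gen hgen h1 h2 g⁻¹ (L.inv_mem hg)
  exact mul_right_cancel (e.trans (show g⁻¹ * (g * i * g⁻¹) = i * g⁻¹ by group))

/-- A conjugate of `Y` centralizing `Y` comes from the normalizer of `U ∩ Y`. -/
theorem normalizes_I {x : G} (hx : x ∈ L) (hc : cmap x Y ≤ centralizer (Y : Set G)) :
    x ∈ normalizer ((U ⊓ Y : Subgroup G) : Set G) := by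
  obtain ⟨g, hg, hgen⟩ := exists_gen C S
  suffices x⁻¹ ∈ normalizer ((U ⊓ Y : Subgroup G) : Set G) by simpa using inv_mem this
  refine Layer.mem_normalizer_of_conj_mem fun i hi => J_centralizer C S hg hgen ?_ fun y hy => ?_
  · exact (mem_normalizer_iff.mp ((L_le_comSub C S hg hgen).1 (L.inv_mem hx)) i).mp (mem_sup_left hi)
  · have h1 := mem_centralizer_iff.mp (hc ⟨y, hy, rfl⟩) i hi.2
    change i * (x * y * x⁻¹) = x * y * x⁻¹ * i at h1
    calc x⁻¹ * i * x⁻¹⁻¹ * y = x⁻¹ * (i * (x * y * x⁻¹)) * x := by group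
      _ = x⁻¹ * (x * y * x⁻¹ * i) * x := by rw [h1]
      _ = y * (x⁻¹ * i * x⁻¹⁻¹) := by group

theorem exists_split {f : G} (hf : f ∈ U ⊓ O) :
    ∃ i ∈ U ⊓ Y, ∀ x ∈ L, (i⁻¹ * f) * x = x * (i⁻¹ * f) := by
  obtain ⟨g, hg, hgen⟩ := exists_gen C S
  set j := g * f * g⁻¹ * f⁻¹ with hj
  obtain ⟨a, ha, b, hb, e⟩ := (mem_Jg C S hg).mp
    ((Jg Y U g).inv_mem ((L_le_comSub C S hg hgen).2 g hg f hf.1))
  refine ⟨a, ha, commute_of_gen hgen (fun y hy => ?_) fun y hy => ?_⟩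
  · have e1 : a⁻¹ * y = y * a⁻¹ := Ycomm C S (Y.inv_mem ha.2) hy
    calc a⁻¹ * f * y = a⁻¹ * (y * f) := by rw [mul_assoc, commOY C S hf.2 hy]
      _ = y * (a⁻¹ * f) := by rw [← mul_assoc, e1, mul_assoc]
  · have e2 : a⁻¹ * f = b * (g * f * g⁻¹) := by
      have : f = a * b * (g * f * g⁻¹) := by rw [e]; group
      calc a⁻¹ * f = a⁻¹ * (a * b * (g * f * g⁻¹)) := by rw [← this]
        _ = _ := by group
    obtain ⟨z, hz, rfl⟩ := hy
    obtain ⟨i, hi, rfl⟩ := hb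
    rw [e2]
    show g * i * g⁻¹ * (g * f * g⁻¹) * (g * z * g⁻¹) = g * z * g⁻¹ * (g * i * g⁻¹ * (g * f * g⁻¹))
    calc g * i * g⁻¹ * (g * f * g⁻¹) * (g * z * g⁻¹) = g * (i * (f * z)) * g⁻¹ := by group
      _ = g * ((i * z) * f) * g⁻¹ := by rw [← commOY C S hf.2 hz, ← mul_assoc i z f]
      _ = g * ((z * i) * f) * g⁻¹ := by rw [Ycomm C S hi.2 hz]
      _ = _ := by group

theorem trivial_mod_I {u : G} (hu : u ∈ L) (huI : u ∈ normalizer ((U ⊓ Y : Subgroup G) : Set G))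
    {f : G} (hf : f ∈ U ⊓ O) : u * f * u⁻¹ * f⁻¹ ∈ U ⊓ Y := by
  obtain ⟨i, hi, hc⟩ := exists_split C S hf
  have e : u * (i⁻¹ * f) * u⁻¹ = i⁻¹ * f := by rw [← hc u hu, mul_inv_cancel_right]
  rw [show u * f * u⁻¹ * f⁻¹ = (u * i * u⁻¹) * (u * (i⁻¹ * f) * u⁻¹) * f⁻¹ by group, e,
    show u * i * u⁻¹ * (i⁻¹ * f) * f⁻¹ = (u * i * u⁻¹) * i⁻¹ by group]
  exact (U ⊓ Y).mul_mem ((mem_normalizer_iff.mp huI i).mp hi) ((U ⊓ Y).inv_mem hi)

/-- The key lemma. -/
theorem normalizes_Y {u : G} (hu : u ∈ L) (huI : u ∈ normalizer ((U ⊓ Y : Subgroup G) : Set G)) :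
    u ∈ normalizer (Y : Set G) := by
  set I := U ⊓ Y with hI
  set F := U ⊓ O with hF
  have hIF : I ≤ F := le_inf inf_le_left (inf_le_right.trans C.hYO)
  have hOU : O ≤ normalizer (U : Set G) := C.hOH.trans C.hHU
  have hOF : O ≤ normalizer (F : Set G) := Coprime.le_normalizer_inf hOU Subgroup.le_normalizer
  have hOI' : O ≤ centralizer (I : Set G) := C.hOY.trans (centralizer_le inf_le_right)
  have hOI : O ≤ normalizer (I : Set G) := hOI'.trans (centralizer_le_normalizer _)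
  have huU : u ∈ normalizer (U : Set G) := C.hHU (S.hLH hu)
  have huF : u ∈ normalizer (F : Set G) := Layer.mem_normalizer_of_conj_mem fun f hf => by
    have h := F.mul_mem (hIF (trivial_mod_I C S hu huI hf)) hf
    simpa [mul_assoc] using h
  set P := O ⊔ zpowers u with hP
  have hPU : P ≤ normalizer (U : Set G) := sup_le hOU (zpowers_le.mpr huU)
  have hPF : P ≤ normalizer (F : Set G) := sup_le hOF (zpowers_le.mpr huF)
  have hPI : P ≤ normalizer (I : Set G) := sup_le hOI (zpowers_le.mpr huI)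
  have hPH : P ≤ H := sup_le C.hOH (zpowers_le.mpr (S.hLH hu))
  -- every element of `P` acts on `F / I` like an element of `O`
  let R : Subgroup G :=
    { carrier := {x | x ∈ P ∧ ∃ o ∈ O, ∀ f ∈ F, x * f * x⁻¹ * (o * f * o⁻¹)⁻¹ ∈ I}
      one_mem' := ⟨P.one_mem, 1, O.one_mem, fun f _ => by simpa using I.one_mem⟩
      mul_mem' := by
        rintro a b ⟨ha, o, ho, hao⟩ ⟨hb, o', ho', hbo⟩
        refine ⟨P.mul_mem ha hb, o * o', O.mul_mem ho ho', fun f hf => ?_⟩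
        have h1 := (mem_normalizer_iff.mp (hPI ha) _).mp (hbo f hf)
        have h2 := hao _ ((mem_normalizer_iff.mp (hOF ho') f).mp hf)
        convert I.mul_mem h1 h2 using 1
        group
      inv_mem' := by
        rintro a ⟨ha, o, ho, hao⟩
        refine ⟨P.inv_mem ha, o⁻¹, O.inv_mem ho, fun f hf => ?_⟩
        have hf' : o⁻¹ * f * o ∈ F := by
          simpa using (mem_normalizer_iff.mp (hOF (O.inv_mem ho)) f).mp hf
        have h1 := (mem_normalizer_iff.mp (hPI (P.inv_mem ha)) _).mp (I.inv_mem (hao _ hf'))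
        convert h1 using 1
        group }
  have hPR : P ≤ R := sup_le
    (fun o ho => ⟨mem_sup_left ho, o, ho, fun f _ => by simpa [mul_assoc] using I.one_mem⟩)
    (zpowers_le.mpr ⟨mem_sup_right (mem_zpowers u), 1, O.one_mem, fun f hf => by
      rw [one_mul, inv_one, mul_one]; exact trivial_mod_I C S hu huI hf⟩)
  set Ω := nclIn O P with hΩ
  have hΩP : Ω ≤ P := nclIn_le _ _
  let A : Subgroup G := comSub P U F hPF
  have hOA : O ≤ A := fun o ho => ⟨mem_sup_left ho, fun w hw => ⟨U.mul_mem ((mem_normalizer_iff.mp (hOU ho) w).mp hw) (U.inv_mem hw), by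
    have := O.mul_mem ho ((mem_normalizer_iff.mp (C.hUO hw) _).mp (O.inv_mem ho))
    simpa [mul_assoc] using this⟩⟩
  have hΩA : Ω ≤ A := nclIn_le_of_normalized hOA (le_normalizer_comSub Subgroup.le_normalizer hPU hPF)
  have hΩC : Ω ≤ centralizer (I : Set G) :=
    nclIn_le_of_normalized hOI' (Coprime.le_normalizer_centralizer hPI)
  have hΩp : IsPGroup p Ω := isPGroup_of_coprime_eq_one fun c hc hcp => by
    have hcI : ∀ i ∈ I, c * i = i * c := fun i hi => (mem_centralizer_iff.mp (hΩC hc) i hi).symm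
    have hIp : IsPGroup p I := C.hUp.to_le inf_le_left
    have hcF : ∀ f ∈ F, c * f = f * c := by
      obtain ⟨-, o, ho, hco⟩ := hPR (hΩP hc)
      obtain ⟨k, hk⟩ := IsPGroup.iff_orderOf.mp C.hOp ⟨o, ho⟩
      rw [Subgroup.orderOf_mk] at hk
      obtain ⟨m, hm⟩ := exists_pow_eq_self_of_coprime (x := c) (n := p ^ k)
        ((Nat.Coprime.pow_right k hcp).symm)
      have hn : ∀ n : ℕ, ∀ f ∈ F, c ^ n * f * (c ^ n)⁻¹ * (o ^ n * f * (o ^ n)⁻¹)⁻¹ ∈ I := by
        intro n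
        induction n with
        | zero => intro f _; simpa using I.one_mem
        | succ n ih =>
          intro f hf
          have h1 := (mem_normalizer_iff.mp (hPI (hΩP hc)) _).mp (ih f hf)
          have h2 := hco _ ((mem_normalizer_iff.mp (hOF (O.pow_mem ho n)) f).mp hf)
          convert I.mul_mem h1 h2 using 1
          rw [pow_succ' c, pow_succ' o]
          group
      intro f hf
      have h3 := hn (p ^ k * m) f hf
      rw [pow_mul c, hm, pow_mul o, ← hk, pow_orderOf_eq_one, one_pow] at h3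
      exact eq_of_stab hIp hcp (by simpa using h3) hcI
    exact C.hself c (hPH (hΩP hc)) hcp fun w hw =>
      eq_of_stab (C.hUp.to_le inf_le_left) hcp ((hΩA hc).2 w hw) hcF
  exact C.hNY Ω hΩp (le_nclIn le_sup_left) (nclIn_normalizer O P (mem_sup_right (mem_zpowers u)))

/-- Proper subgroups of `L` over `Y` normalize `Y`. -/
theorem le_normalizer_of_ne {X : Subgroup G} (hXL : X ≤ L) (hYX : Y ≤ X) (hne : X ≠ L) :
    X ≤ normalizer (Y : Set G) := by
  set N := normalizer (Y : Set G) with hN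
  have hY : Y ≤ Cfsg.pCoreOf p X := not_not.mp fun h => hne (S.hmin X hXL hYX h)
  set R := Cfsg.pCoreOf p X with hR
  have hRN : R ≤ N := by
    by_contra hcon
    have hlt : R ⊓ N < R := lt_of_le_of_ne inf_le_left fun e => hcon (e ▸ inf_le_right)
    obtain ⟨u, hu, huD⟩ := SetLike.exists_of_lt (Fusion.lt_inf_normalizer_of_isPGroup (pCoreOf_isPGroup X) hlt)
    have hYT : Y ≤ R ⊓ N := le_inf hY Subgroup.le_normalizer
    have hT : cmap u (R ⊓ N) = R ⊓ N := cmap_eq_iff.mpr hu.2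
    have h1 : cmap u Y ≤ N := ((cmap_mono hYT).trans hT.le).trans inf_le_right
    have h2 : Y ≤ normalizer ((cmap u Y : Subgroup G) : Set G) := by
      rw [normalizer_cmap]
      exact (hYT.trans hT.ge).trans (cmap_mono inf_le_right)
    have huL : u ∈ L := hXL (pCoreOf_le X hu.1)
    exact huD ⟨hu.1, normalizes_Y C S huL (normalizes_I C S huL (C.hasym u h1 h2))⟩
  intro x hx
  have hRx : cmap x R = R := cmap_eq_iff.mpr (le_normalizer_pCoreOf X hx)
  have h1 : cmap x Y ≤ N := ((cmap_mono hY).trans hRx.le).trans hRN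
  have h2 : Y ≤ normalizer ((cmap x Y : Subgroup G) : Set G) := by
    rw [normalizer_cmap]
    exact (hY.trans hRx.ge).trans (cmap_mono hRN)
  exact normalizes_Y C S (hXL hx) (normalizes_I C S (hXL hx) (C.hasym x h1 h2))

theorem inf_normalizer_lt : L ⊓ normalizer (Y : Set G) < L := by
  refine lt_of_le_of_ne inf_le_left fun e => S.hYO ?_
  exact le_pCoreOf_of_normal S.hYL (e ▸ inf_le_right) (Yp C S)

theorem conj_gen {h : G} (hh : h ∈ L) (hhN : h ∉ normalizer (Y : Set G)) :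
    Y ⊔ cmap h Y = L := by
  by_contra hne
  have hmem : ∀ k ∈ L, cmap k Y ≤ L := by
    rintro k hk _ ⟨y, hy, rfl⟩
    exact L.mul_mem (L.mul_mem hk (S.hYL hy)) (L.inv_mem hk)
  have hX := le_normalizer_of_ne C S (sup_le S.hYL (hmem h hh)) le_sup_left hne
  have hne' : Y ⊔ cmap h⁻¹ Y ≠ L := fun e => hne (by
    have e2 := congrArg (cmap h) e
    rw [cmap, Subgroup.map_sup] at e2
    change cmap h Y ⊔ cmap h (cmap h⁻¹ Y) = cmap h L at e2
    rwa [cmap_cmap_inv, cmap_eq_self_of_mem hh, sup_comm] at e2)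
  have hX' := le_normalizer_of_ne C S (sup_le S.hYL (hmem _ (L.inv_mem hh))) le_sup_left hne'
  refine hhN (normalizes_Y C S hh (normalizes_I C S hh (C.hasym h (le_sup_right.trans hX) ?_)))
  rw [normalizer_cmap]
  conv_lhs => rw [← cmap_cmap_inv h Y]
  exact cmap_mono (le_sup_right.trans hX')

theorem sup_eq : L ⊔ O = H := by
  by_contra hne
  have hlt : L ⊔ O < H := lt_of_le_of_ne (sup_le S.hLH C.hOH) hne
  refine S.hYO fun y hy => ?_
  have h1 := C.hmin _ le_sup_right hlt hy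
  refine le_pCoreOf_of_normal (inf_le_left : L ⊓ Cfsg.pCoreOf p (L ⊔ O) ≤ L) ?_
    ((pCoreOf_isPGroup _).to_le inf_le_right) ⟨S.hYL hy, h1⟩
  exact Coprime.le_normalizer_inf Subgroup.le_normalizer (le_sup_left.trans (le_normalizer_pCoreOf _))

theorem conj_sup_eq {h : G} (hh : h ∈ L) (hhN : h ∉ normalizer (Y : Set G)) :
    cmap h Y ⊔ O = H := by
  refine le_antisymm (sup_le ?_ C.hOH) ?_
  · exact ((le_sup_right).trans (conj_gen C S hh hhN).le).trans S.hLH
  · conv_lhs => rw [← sup_eq C S, ← conj_gen C S hh hhN]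
    exact sup_le (sup_le (C.hYO.trans le_sup_right) le_sup_left) le_sup_right

theorem minimalOver : Cfsg.IsMinimalOver (Y.subgroupOf L) := by
  obtain ⟨g, hg, hgen⟩ := exists_gen C S
  refine ⟨?_, ?_⟩
  · rw [← Subgroup.map_subtype_inj, ← MonoidHom.range_eq_map, range_subtype]
    refine le_antisymm (map_subtype_le _) ?_
    conv_lhs => rw [← hgen]
    refine sup_le (le_nclIn S.hYL) ?_
    rintro _ ⟨y, hy, rfl⟩
    exact conj_mem_nclIn S.hYL hg hy
  set N := normalizer (Y : Set G) with hN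
  have hlt := inf_normalizer_lt C S
  have key : ∀ M : Subgroup L, Y.subgroupOf L ≤ M → M ≠ ⊤ → M ≤ N.subgroupOf L := by
    intro M hYM hMt
    have h1 : M.map L.subtype ≤ N := le_normalizer_of_ne C S (map_subtype_le _)
      (by rw [← map_subgroupOf_eq_of_le S.hYL]; exact Subgroup.map_mono hYM)
      (fun e => hMt (by
        rw [← Subgroup.map_subtype_inj, ← MonoidHom.range_eq_map, range_subtype]; exact e))
    exact fun x hx => h1 ⟨x, hx, rfl⟩
  have hN0 : N.subgroupOf L ≠ ⊤ := fun e => hlt.ne (inf_eq_left.mpr (subgroupOf_eq_top.mp e))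
  have hYN : Y.subgroupOf L ≤ N.subgroupOf L := fun y hy => Subgroup.le_normalizer hy
  refine ⟨N.subgroupOf L, ⟨⟨hN0, fun X hX => ?_⟩, hYN⟩, fun M ⟨hM, hYM⟩ => ?_⟩
  · by_contra hXt
    exact hX.not_ge (key X (hYN.trans hX.le) hXt)
  · rcases (key M hYM hM.1).eq_or_lt with e | h
    · exact e
    · exact absurd (hM.2 _ h) hN0

theorem le_unique_max {X : Subgroup G} (hYX : Y ≤ X) (hXL : X < L) :
    X ≤ L ⊓ normalizer (Y : Set G) :=
  le_inf hXL.le (le_normalizer_of_ne C S hXL.le hYX hXL.ne)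

theorem charP_L : centralizer (Cfsg.pCore p L : Set L) ≤ Cfsg.pCore p L := by
  obtain ⟨g, hg, hgen⟩ := exists_gen C S
  obtain ⟨hLJ, hLU⟩ := L_le_comSub C S hg hgen
  have hJL : Jg Y U g ≤ L := sup_le (inf_le_right.trans S.hYL) (by
    rintro _ ⟨y, hy, rfl⟩
    exact L.mul_mem (L.mul_mem hg (S.hYL hy.2)) (L.inv_mem hg))
  have hJp : IsPGroup p (Jg Y U g) := C.hUp.to_le (Jg_le C S hg)
  have hJ : Jg Y U g ≤ Cfsg.pCoreOf p L := le_pCoreOf_of_normal hJL hLJ hJp
  rw [← charP_iff]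
  intro x hx
  have hp' : IsPGroup p (L ⊓ centralizer (Cfsg.pCoreOf p L : Set G) : Subgroup G) :=
    isPGroup_of_coprime_eq_one fun c hc hcp => by
      refine C.hself c (S.hLH hc.1) hcp fun u hu => ?_
      exact eq_of_stab hJp hcp (hLU c hc.1 u hu)
        fun j hj => (mem_centralizer_iff.mp hc.2 j (hJ hj)).symm
  exact le_pCoreOf_of_normal inf_le_left
    (Coprime.le_normalizer_inf Subgroup.le_normalizer
      (Coprime.le_normalizer_centralizer (le_normalizer_pCoreOf L))) hp' hx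

theorem L_eq_sup : Y ⊔ resOf p L = L := by
  by_contra hne
  set X := Y ⊔ resOf p L with hX
  have hXL : X ≤ L := sup_le S.hYL (resOf_le p L)
  have hXN := le_normalizer_of_ne C S hXL le_sup_left hne
  refine S.hYO (le_pCoreOf S.hYL ?_ (Yp C S))
  have hnil : Group.IsNilpotent (L ⧸ Cfsg.pResidual p L) :=
    (Fusion.isPGroup_quotient_pResidual (G := L) (p := p)).isNilpotent
  have h := (Cfsg.Agent.S3937.isSubnormal_of_nilpotent
    ((Y.subgroupOf L).map (QuotientGroup.mk' (Cfsg.pResidual p L)))).comap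
      (QuotientGroup.mk' (Cfsg.pResidual p L))
  rw [Subgroup.comap_map_eq, QuotientGroup.ker_mk'] at h
  refine IsSubnormal.trans le_sup_left (Subgroup.Normal.isSubnormal
    (normal_subgroupOf_of_le_normalizer ?_)) h
  intro x hx
  have hx' : (x : G) ∈ X := by
    have : (Y.subgroupOf L ⊔ Cfsg.pResidual p L).map L.subtype = X := by
      rw [Subgroup.map_sup, map_subgroupOf_eq_of_le S.hYL, hX]
    exact this.le ⟨x, hx, rfl⟩
  refine Layer.mem_normalizer_of_conj_mem fun y hy => ?_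
  exact (mem_normalizer_iff.mp (hXN hx') y).mp hy

/-- `O^p(L)` moves every noncentral chief factor of `H` in `O_p(H)`. -/
theorem chief {V W : Subgroup G} (hVU : V ≤ U) (hHV : H ≤ normalizer (V : Set G))
    (hHW : H ≤ normalizer (W : Set G)) (hWV : W < V)
    (hirr : ∀ Z : Subgroup G, H ≤ normalizer (Z : Set G) → W ≤ Z → Z ≤ V → Z = W ∨ Z = V)
    (hnc : ¬ ⁅V, H⁆ ≤ W) : ¬ ⁅V, resOf p L⁆ ≤ W := by
  intro hres
  have hVW : V ≤ normalizer (W : Set G) := (hVU.trans C.hUH).trans hHW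
  have hVp : IsPGroup p V := C.hUp.to_le hVU
  have hWfix : ∀ K : Subgroup G, K ≤ H → W ≤ fixSub V K W hVW := fun K hK w hw =>
    ⟨hWV.le hw, fun k hk => W.mul_mem ((mem_normalizer_iff.mp (hHW (hK hk)) w).mp hw) (W.inv_mem hw)⟩
  have hfix : ∀ K : Subgroup G, K ≤ H → IsPGroup p K → H ≤ normalizer (fixSub V K W hVW : Set G) →
      fixSub V K W hVW = V := by
    intro K hK hKp hn
    refine (hirr _ hn (hWfix K hK) fun v hv => hv.1).resolve_left fun e => ?_
    obtain ⟨v, hv, hvW, hfx⟩ := exists_fixed hVp hKp (hK.trans hHV) hWV.not_ge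
    exact hvW (e ▸ (show v ∈ fixSub V K W hVW from ⟨hv, hfx⟩))
  have hr : ∀ r ∈ resOf p L, ∀ v ∈ V, r * v * r⁻¹ * v⁻¹ ∈ W := fun r hr v hv =>
    hres (by
      rw [Subgroup.commutator_comm]
      exact commutator_mem_commutator hr hv)
  have hY : ∀ v ∈ fixSub V Y W hVW, ∀ x ∈ L, x * v * x⁻¹ * v⁻¹ ∈ W := by
    intro v hv x hx
    let K : Subgroup G :=
      { carrier := {x | x ∈ H ∧ x * v * x⁻¹ * v⁻¹ ∈ W}
        one_mem' := ⟨H.one_mem, by simpa using W.one_mem⟩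
        mul_mem' := by
          rintro a b ⟨ha, ha'⟩ ⟨hb, hb'⟩
          refine ⟨H.mul_mem ha hb, ?_⟩
          have h1 := (mem_normalizer_iff.mp (hHW ha) _).mp hb'
          convert W.mul_mem h1 ha' using 1
          group
        inv_mem' := by
          rintro a ⟨ha, ha'⟩
          refine ⟨H.inv_mem ha, ?_⟩
          have h1 := (mem_normalizer_iff.mp (hHW (H.inv_mem ha)) _).mp (W.inv_mem ha')
          convert h1 using 1
          group }
    suffices L ≤ K from (this hx).2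
    conv_lhs => rw [← L_eq_sup C S]
    exact sup_le (fun y hy => ⟨C.hOH (C.hYO hy), hv.2 y hy⟩)
      fun r h => ⟨S.hLH (resOf_le p L h), hr r h v hv.1⟩
  have hOYn : O ≤ normalizer (Y : Set G) := C.hOY.trans (centralizer_le_normalizer _)
  have h1 : fixSub V Y W hVW = V := by
    refine hfix Y (C.hYO.trans C.hOH) (Yp C S) ?_
    conv_lhs => rw [← sup_eq C S]
    refine sup_le (fun x hx => Layer.mem_normalizer_of_conj_mem fun v hv => ?_)
      (le_normalizer_fixSub (C.hOH.trans hHV) hOYn (C.hOH.trans hHW))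
    have h := (fixSub V Y W hVW).mul_mem (hWfix Y (C.hYO.trans C.hOH) (hY v hv x hx)) hv
    simpa [mul_assoc] using h
  have hL : ∀ v ∈ V, ∀ x ∈ L, x * v * x⁻¹ * v⁻¹ ∈ W := fun v hv => hY v (h1.symm.le hv)
  have h2 : fixSub V O W hVW = V := by
    refine hfix O C.hOH C.hOp ?_
    conv_lhs => rw [← sup_eq C S]
    refine sup_le (fun x hx => Layer.mem_normalizer_of_conj_mem fun v hv => ?_)
      (le_normalizer_fixSub (C.hOH.trans hHV) Subgroup.le_normalizer (C.hOH.trans hHW))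
    have h := (fixSub V O W hVW).mul_mem (hWfix O C.hOH (hL v hv.1 x hx)) hv
    simpa [mul_assoc] using h
  refine hnc ?_
  rw [Subgroup.commutator_comm, commutator_le]
  intro x hx v hv
  let K : Subgroup G := comSub H V W hHW
  suffices H ≤ K from (this hx).2 v hv
  conv_lhs => rw [← sup_eq C S]
  exact sup_le (fun x hx => ⟨S.hLH hx, fun v hv => hL v hv x hx⟩)
    fun o ho => ⟨C.hOH ho, fun v hv => (h2.symm.le hv).2 o ho⟩

theorem inf_le_U : Cfsg.pCoreOf p L ⊓ Y ≤ U := by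
  obtain ⟨g, hg, hgen⟩ := exists_gen C S
  obtain ⟨hLJ, hLU⟩ := L_le_comSub C S hg hgen
  set I := U ⊓ Y with hI
  set I' := cmap g I with hI'
  set F := U ⊓ O with hF
  set J := Jg Y U g with hJ
  set FJ := F ⊔ J with hFJ
  set B := Cfsg.pCoreOf p L with hB
  have hFJU : FJ ≤ U := sup_le inf_le_left (Jg_le C S hg)
  have hOU : O ≤ normalizer (U : Set G) := C.hOH.trans C.hHU
  have hOF' : ∀ o ∈ O, ∀ u ∈ U, o * u * o⁻¹ * u⁻¹ ∈ F := fun o ho u hu =>
    ⟨U.mul_mem ((mem_normalizer_iff.mp (hOU ho) u).mp hu) (U.inv_mem hu), by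
      have := O.mul_mem ho ((mem_normalizer_iff.mp (C.hUO hu) _).mp (O.inv_mem ho))
      simpa [mul_assoc] using this⟩
  -- `FJ` is normal in `H`
  have hcl : ∀ x ∈ H, (∀ u ∈ U, x * u * x⁻¹ * u⁻¹ ∈ FJ) → x ∈ normalizer (FJ : Set G) :=
    fun x _ hx => Layer.mem_normalizer_of_conj_mem fun w hw => by
      have := FJ.mul_mem (hx w (hFJU hw)) hw
      simpa [mul_assoc] using this
  have hHn : H ≤ normalizer (FJ : Set G) := by
    conv_lhs => rw [← sup_eq C S]
    exact sup_le (fun x hx => hcl x (S.hLH hx) fun u hu => mem_sup_right (hLU x hx u hu))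
      fun o ho => hcl o (C.hOH ho) fun u hu => mem_sup_left (hOF' o ho u hu)
  have hHFJ : ∀ x ∈ H, ∀ u ∈ U, x * u * x⁻¹ * u⁻¹ ∈ FJ := fun x hx => by
    suffices H ≤ comSub H U FJ hHn from (this hx).2
    conv_lhs => rw [← sup_eq C S]
    exact sup_le (fun x hx => ⟨S.hLH hx, fun u hu => mem_sup_right (hLU x hx u hu)⟩)
      fun o ho => ⟨C.hOH ho, fun u hu => mem_sup_left (hOF' o ho u hu)⟩
  -- `I ⊓ I'` is central in `H`
  set C0 := I ⊓ I' with hC0
  have hC0c : ∀ z ∈ C0, ∀ x ∈ H, x * z = z * x := by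
    intro z hz x hx
    suffices H ≤ centralizer ({z} : Set G) from mem_centralizer_singleton_iff.mp (this hx)
    conv_lhs => rw [← sup_eq C S]
    refine sup_le (fun x hx => ?_) fun o ho => mem_centralizer_singleton_iff.mpr (commOY C S ho hz.1.2).symm
    refine mem_centralizer_singleton_iff.mpr (commute_of_gen hgen (fun y hy => Ycomm C S hz.1.2 hy)
      (fun y hy => ?_) x hx).symm
    obtain ⟨i, hi, e⟩ := hz.2
    obtain ⟨w, hw, rfl⟩ := hy
    rw [← e]
    show g * i * g⁻¹ * (g * w * g⁻¹) = g * w * g⁻¹ * (g * i * g⁻¹)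
    calc g * i * g⁻¹ * (g * w * g⁻¹) = g * (i * w) * g⁻¹ := by group
      _ = g * (w * i) * g⁻¹ := by rw [Ycomm C S hi.2 hw]
      _ = _ := by group
  have hHC0 : H ≤ normalizer (C0 : Set G) := fun x hx => Layer.mem_normalizer_of_conj_mem fun z hz => by
    rw [hC0c z hz x hx, mul_inv_cancel_right]; exact hz
  -- the stabilizer of the series is a normal `p`-subgroup
  let D : Subgroup G := comSub H U FJ hHn ⊓ comSub H FJ C0 hHC0
  have hDp : IsPGroup p D := isPGroup_of_coprime_eq_one fun c hc hcp => by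
    have h1 : ∀ w ∈ FJ, c * w = w * c := fun w hw =>
      eq_of_stab (C.hUp.to_le (inf_le_left.trans inf_le_left)) hcp (hc.2.2 w hw)
        fun z hz => hC0c z hz c hc.1.1
    exact C.hself c hc.1.1 hcp fun u hu => eq_of_stab (C.hUp.to_le hFJU) hcp (hc.1.2 u hu) h1
  have hDn : H ≤ normalizer (D : Set G) := Coprime.le_normalizer_inf
    (le_normalizer_comSub Subgroup.le_normalizer C.hHU hHn)
    (le_normalizer_comSub Subgroup.le_normalizer hHn hHC0)
  refine le_trans ?_ (C.hmax D (fun x hx => hx.1.1) hDn hDp)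
  intro y hy
  have hyH : y ∈ H := S.hLH (pCoreOf_le L hy.1)
  -- `B` normalizes `Y`
  have hBN : B ≤ normalizer (Y : Set G) := by
    refine le_trans le_sup_left (le_normalizer_of_ne C S (sup_le (pCoreOf_le L) S.hYL)
      (le_sup_right : Y ≤ B ⊔ Y) fun e => not_isPGroup S ?_)
    exact ((pCoreOf_isPGroup L).to_sup_of_normal_left' (Yp C S)
      (S.hYL.trans (le_normalizer_pCoreOf L))).to_le e.ge
  have hBI : B ≤ normalizer (I : Set G) :=
    Coprime.le_normalizer_inf (((pCoreOf_le L).trans S.hLH).trans C.hHU) hBN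
  refine ⟨⟨hyH, hHFJ y hyH⟩, hyH, ?_⟩
  let K : Subgroup G := fixSub U (zpowers y) C0 (C.hUH.trans hHC0)
  suffices FJ ≤ K from fun w hw => (this hw).2 y (mem_zpowers y)
  have hcom : ∀ w ∈ U, y * w = w * y → w ∈ K := fun w hwU e => ⟨hwU, fun k hk => by
    obtain ⟨n, rfl⟩ := mem_zpowers_iff.mp hk
    rw [((show Commute y w from e).zpow_left n).eq]
    simpa [mul_assoc] using C0.one_mem⟩
  refine sup_le (fun f hf => hcom f hf.1 (commOY C S hf.2 hy.2)) (sup_le (fun i hi => hcom i hi.1 (Ycomm C S hy.2 hi.2)) ?_)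
  intro w hw
  have hwU : w ∈ U := cmapI_le C S hg hw
  refine ⟨hwU, fun k hk => ?_⟩
  have hkY : k ∈ Y := zpowers_le.mpr hy.2 hk
  have hkB : k ∈ B := zpowers_le.mpr hy.1 hk
  refine ⟨?_, ?_⟩
  · have := I.inv_mem (commUY C S hwU hkY)
    simpa [mul_assoc] using this
  · have hk' : g⁻¹ * k * g ∈ B := by
      simpa using (mem_normalizer_iff.mp (le_normalizer_pCoreOf L (L.inv_mem hg)) k).mp hkB
    obtain ⟨i, hi, rfl⟩ := hw
    refine ⟨(g⁻¹ * k * g) * i * (g⁻¹ * k * g)⁻¹ * i⁻¹,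
      I.mul_mem ((mem_normalizer_iff.mp (hBI hk') i).mp hi) (I.inv_mem hi), ?_⟩
    show g * ((g⁻¹ * k * g) * i * (g⁻¹ * k * g)⁻¹ * i⁻¹) * g⁻¹ =
      k * (g * i * g⁻¹) * k⁻¹ * (g * i * g⁻¹)⁻¹
    group

end

end Cfsg.Agent.LocalStructure.AsymL
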