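import Mathlib
import Cfsg.Agent.LocalStructure.WeaklyClosed

/-!
# Large subgroups
-/

set_option autoImplicit false
set_option linter.all false

namespace Cfsg.Agent.LocalStructure

open Subgroup
open scoped commutatorElement

variable {G : Type*} [Group G] [Finite G] {p : ℕ} [hp : Fact p.Prime]

theorem large_normalizer_le {Q : Subgroup G} (hQ1 : Q ≠ ⊥) (hL : Cfsg.IsLarge Q) {R : Subgroup G}
    (hR : IsPGroup p R) (hQR : Q ≤ R) : normalizer (R : Set G) ≤ normalizer (Q : Set G) := by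
  have hR1 : R ≠ ⊥ := fun e => hQ1 (le_bot_iff.mp (e ▸ hQR))
  refine le_trans ?_ (hL.2 (R ⊓ centralizer (R : Set G))
    (inf_le_right.trans (centralizer_le (SetLike.coe_subset_coe.mpr hQR)))
    (inf_centralizer_ne_bot hR hR Subgroup.le_normalizer hR1))
  exact Coprime.le_normalizer_inf le_rfl (Coprime.le_normalizer_centralizer le_rfl)

/-- A large `p`-subgroup is weakly closed. -/
theorem large_wc {Q : Subgroup G} (hQp : IsPGroup p Q) (hQ1 : Q ≠ ⊥) (hL : Cfsg.IsLarge Q) :
    Cfsg.IsWeaklyClosedSubgroup p Q :=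
  wc_of_normalizer_le hQp fun _ hR hQR => large_normalizer_le hQ1 hL hR hQR

theorem large_cmap {Q : Subgroup G} (hL : Cfsg.IsLarge Q) (g : G) : Cfsg.IsLarge (cmap g Q) := by
  refine ⟨?_, fun U hU hU1 => ?_⟩
  · rw [centralizer_cmap]; exact cmap_mono hL.1
  · rw [centralizer_cmap] at hU
    have h1 : cmap g⁻¹ U ≤ centralizer (Q : Set G) := by
      rw [← cmap_inv_cmap g (centralizer (Q : Set G))]
      exact cmap_mono hU
    have h2 := cmap_mono (g := g) (hL.2 _ h1 (cmap_ne_bot hU1 _))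
    rwa [normalizer_cmap, cmap_cmap_inv, ← normalizer_cmap] at h2

theorem large_centralizer_le_normalizer {Q Y : Subgroup G} (hQp : IsPGroup p Q) (hL : Cfsg.IsLarge Q)
    (hY : IsPGroup p Y) (hY1 : Y ≠ ⊥) (hQY : Q ≤ normalizer (Y : Set G)) :
    centralizer (Y : Set G) ≤ normalizer (Q : Set G) := by
  refine le_trans ?_ (hL.2 _ inf_le_right (inf_centralizer_ne_bot hQp hY hQY hY1))
  exact le_trans (centralizer_le (SetLike.coe_subset_coe.mpr inf_le_left)) (centralizer_le_normalizer _)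

theorem large_le_normalizer_pCoreOf {Q L : Subgroup G} (hQL : Q ≤ L) :
    Q ≤ normalizer ((Cfsg.pCoreOf p L : Subgroup G) : Set G) := hQL.trans (le_normalizer_pCoreOf L)

theorem pCoreOf_ne_bot_iff {L : Subgroup G} : Cfsg.pCoreOf p L ≠ ⊥ ↔ Cfsg.pCore p L ≠ ⊥ := by
  rw [Ne, Ne, Cfsg.pCoreOf, Subgroup.map_eq_bot_iff_of_injective _ L.subtype_injective]

theorem large_isPGroup_centralizer {Q L : Subgroup G} (hQp : IsPGroup p Q) (hL : Cfsg.IsLarge Q)
    (hQL : Q ≤ L) (hne : Cfsg.pCoreOf p L ≠ ⊥) :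
    IsPGroup p (centralizer (Cfsg.pCoreOf p L : Set G)) ∧ CharP p L := by
  set C : Subgroup G := centralizer (Cfsg.pCoreOf p L : Set G) with hC
  have hQC : Q ≤ normalizer (C : Set G) := Coprime.le_normalizer_centralizer (large_le_normalizer_pCoreOf hQL)
  have hCQ : C ≤ normalizer (Q : Set G) := large_centralizer_le_normalizer hQp hL (pCoreOf_isPGroup L)
    hne (large_le_normalizer_pCoreOf hQL)
  have hLC : L ≤ normalizer ((L ⊓ C : Subgroup G) : Set G) := Coprime.le_normalizer_inf Subgroup.le_normalizer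
    (Coprime.le_normalizer_centralizer (le_normalizer_pCoreOf L))
  have hQCC : Q ⊓ C ≤ Cfsg.pCoreOf p L := by
    refine le_pCoreOf (inf_le_left.trans hQL) ?_ (hQp.to_le inf_le_left)
    refine IsSubnormal.trans (K := (L ⊓ C).subgroupOf L) (fun x hx => ⟨x.2, hx.2⟩) ?_
      (Subgroup.Normal.isSubnormal (normal_subgroupOf_of_le_normalizer hLC))
    refine Subgroup.Normal.isSubnormal ?_
    refine normal_subgroupOf_of_le_normalizer ?_
    intro x hx
    have hx' : (x : G) ∈ normalizer ((Q ⊓ C : Subgroup G) : Set G) :=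
      (Coprime.le_normalizer_inf (inf_le_right.trans hCQ) (inf_le_right.trans Subgroup.le_normalizer) :
        L ⊓ C ≤ _) hx
    rw [mem_normalizer_iff]
    intro y
    exact mem_normalizer_iff.mp hx' (y : G)
  have hCp : IsPGroup p C := by
    refine isPGroup_of_forall_coprime fun x hx hxc => ?_
    have h1 : x ∈ centralizer (Q : Set G) := by
      refine commute_of_double_commutator hQp (hCQ hx) hxc fun v hv => ?_
      have hd : ⁅x, v⁆ ∈ Q ⊓ C := by
        rw [commutatorElement_def]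
        refine ⟨Q.mul_mem ((mem_normalizer_iff.mp (hCQ hx) v).mp hv) (Q.inv_mem hv), ?_⟩
        rw [mul_assoc, mul_assoc]
        refine C.mul_mem hx ?_
        rw [← mul_assoc]
        exact (mem_normalizer_iff.mp (hQC hv) x⁻¹).mp (C.inv_mem hx)
      exact (mem_centralizer_iff.mp hx _ (hQCC hd)).symm
    exact Subgroup.mem_bot.mp (coprime_mem_centralizer_of_isPGroup hQp (hL.1 h1) hxc)
  exact ⟨hCp, le_pCoreOf_of_normal inf_le_left hLC (hCp.to_le inf_le_right)⟩

theorem large_parabolic {Q R : Subgroup G} (hQp : IsPGroup p Q) (hL : Cfsg.IsLarge Q)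
    (hR : Cfsg.IsParabolic p R) (hne : Cfsg.pCoreOf p R ≠ ⊥) :
    centralizer (Cfsg.pCoreOf p R : Set G) ≤ Cfsg.pCoreOf p R ∧ CharP p R := by
  obtain ⟨T, hT⟩ := hR
  obtain ⟨g, hg⟩ := exists_cmap_le_sylow hQp T
  obtain ⟨h1, h2⟩ := large_isPGroup_centralizer (isPGroup_cmap hQp g) (large_cmap hL g) (hg.trans hT) hne
  refine ⟨fun x hx => h2 ⟨?_, hx⟩, h2⟩
  have hTC : (T : Subgroup G) ≤ normalizer (centralizer (Cfsg.pCoreOf p R : Set G) : Set G) :=
    Coprime.le_normalizer_centralizer (hT.trans (le_normalizer_pCoreOf R))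
  have h3 := T.3 (h1.to_sup_of_normal_left' T.isPGroup' hTC) le_sup_right
  exact hT (h3 ▸ mem_sup_left hx)

theorem large_parabolic_charP {Q : Subgroup G} (hQp : IsPGroup p Q) (hL : Cfsg.IsLarge Q) :
    Cfsg.IsOfParabolicCharacteristic p G := by
  intro R hR hR1 hpar
  refine charP_iff.mp (large_parabolic hQp hL hpar fun e => hR1 (le_bot_iff.mp (e ▸ ?_))).2
  exact le_pCoreOf_of_normal Subgroup.le_normalizer le_rfl hR

end Cfsg.Agent.LocalStructure
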