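import Mathlib
import Cfsg.Agent.LocalStructure.CharP

/-!
# `Y_L` and `Z_L`
-/

set_option autoImplicit false
set_option linter.all false

namespace Cfsg.Agent.LocalStructure

open Subgroup
open scoped Pointwise

variable {G : Type*} [Group G] [Finite G] {p : ℕ} [hp : Fact p.Prime]

theorem omegaZ_map_conj (g : G) (S : Subgroup G) :
    (omegaZ p S).map (MulAut.conj g).toMonoidHom ≤ omegaZ p (S.map (MulAut.conj g).toMonoidHom) := by
  rintro _ ⟨x, hx, rfl⟩
  obtain ⟨h1, h2, h3⟩ := mem_omegaZ_iff.mp hx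
  refine mem_omegaZ_iff.mpr ⟨mem_map_of_mem _ h1, ?_, by rw [← map_pow, h3, map_one]⟩
  refine mem_centralizer_iff.mpr ?_
  rintro _ ⟨s, hs, rfl⟩
  rw [← map_mul, ← map_mul, mem_centralizer_iff.mp h2 s hs]

theorem sylow_map_facts {L : Subgroup G} (S : Sylow p L) :
    (S : Subgroup L).map L.subtype ≤ L ∧ IsPGroup p ((S : Subgroup L).map L.subtype) ∧
      ¬ p ∣ ((S : Subgroup L).map L.subtype).relIndex L := by
  refine ⟨map_subtype_le _, S.isPGroup'.map _, ?_⟩
  rw [relIndex, subgroupOf, comap_map_eq_self_of_injective L.subtype_injective]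
  exact S.not_dvd_index

theorem le_normalizer_sylowCenterClosure (L : Subgroup G) :
    L ≤ normalizer ((Cfsg.sylowCenterClosure p L : Subgroup G) : Set G) := by
  intro l hl
  refine Layer.mem_normalizer_of_conj_mem fun x hx => ?_
  have h1 : (Cfsg.sylowCenterClosure p L).map (MulAut.conj l).toMonoidHom ≤
      Cfsg.sylowCenterClosure p L := by
    rw [Cfsg.sylowCenterClosure, Subgroup.map_iSup]
    refine iSup_le fun S => le_iSup_of_le ((⟨l, hl⟩ : L) • S) ?_
    refine (omegaZ_map_conj (p := p) l _).trans (le_of_eq ?_)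
    show Cfsg.omegaOne p _ = _
    have e : (((⟨l, hl⟩ : L) • S : Sylow p L) : Subgroup L).map L.subtype =
        ((S : Subgroup L).map L.subtype).map (MulAut.conj l).toMonoidHom := by
      rw [Sylow.smul_def]
      show (MulAut.conj (⟨l, hl⟩ : L) • (S : Subgroup L)).map L.subtype = _
      rw [Coprime.conj_smul_map_subtype, Coprime.conj_smul_eq_map]
    rw [e]
  exact h1 ⟨x, hx, rfl⟩

theorem sylowCenterClosure_le_omegaZ {L : Subgroup G} (hL : CharP p L) :
    Cfsg.sylowCenterClosure p L ≤ omegaZ p (Cfsg.pCoreOf p L) :=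
  iSup_le fun S => by
    obtain ⟨h1, h2, h3⟩ := sylow_map_facts S
    exact omegaZ_le_omegaZ_pCoreOf hL h1 (pCoreOf_le_sylow h1 h2 h3)

theorem sylowCenterClosure_le (p : ℕ) (L : Subgroup G) : Cfsg.sylowCenterClosure p L ≤ L :=
  iSup_le fun S => (Thompson.omegaOne_le _ _).trans (inf_le_left.trans (map_subtype_le _))

theorem sylowCenterClosure_reducedIn {L : Subgroup G} (hL : CharP p L) :
    ReducedIn p L (Cfsg.sylowCenterClosure p L) := by
  refine ⟨sylowCenterClosure_le p L, le_normalizer_sylowCenterClosure L,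
    Thompson.ea_mono (omegaZ_ea _) (sylowCenterClosure_le_omegaZ hL), fun K hKL hLK hg => ?_⟩
  rw [le_centralizer_iff]
  refine iSup_le fun S => ?_
  obtain ⟨h1, h2, h3⟩ := sylow_map_facts S
  set S' := (S : Subgroup L).map L.subtype with hS'
  have h4 : K ≤ resOf p K ⊔ (S' ⊓ K) := by
    refine le_resOf_sup inf_le_right (h2.to_le inf_le_left) ?_
    haveI : (K.subgroupOf L).Normal := normal_subgroupOf_of_le_normalizer hLK
    have h5 := not_dvd_relIndex_normal S (K.subgroupOf L)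
    have e : (S'.subgroupOf L : Subgroup L) = (S : Subgroup L) :=
      comap_map_eq_self_of_injective L.subtype_injective _
    rwa [inf_relIndex_right, ← relIndex_subgroupOf hKL, e]
  rw [le_centralizer_iff]
  refine h4.trans (sup_le ?_ ?_)
  · refine (resOf_le_iff.mpr hg).trans (centralizer_le (SetLike.coe_subset_coe.mpr ?_))
    exact le_iSup (fun S : Sylow p L => omegaZ p ((S : Subgroup L).map L.subtype)) S
  · exact inf_le_left.trans (le_centralizer_iff.mp (omegaZ_le_centralizer S'))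

theorem omegaZ_le_sylowCenterClosure {L S : Subgroup G} (hSL : S ≤ L) (hSp : IsPGroup p S)
    (hidx : ¬ p ∣ S.relIndex L) : omegaZ p S ≤ Cfsg.sylowCenterClosure p L := by
  refine le_iSup_of_le ((hSp.comap_of_injective L.subtype L.subtype_injective).toSylow hidx) (le_of_eq ?_)
  show _ = omegaZ p ((S.subgroupOf L).map L.subtype)
  rw [map_subgroupOf_eq_of_le hSL]

theorem sylowCenterClosure_le_largest {L : Subgroup G} (hL : CharP p L) :
    Cfsg.sylowCenterClosure p L ≤ Cfsg.largestPReducedOf p L :=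
  le_largestOf (sylowCenterClosure_reducedIn hL)

theorem largestOf_le_omegaZ_pCoreOf (L : Subgroup G) :
    Cfsg.largestPReducedOf p L ≤ omegaZ p (Cfsg.pCoreOf p L) := fun y hy =>
  mem_omegaZ_iff.mpr ⟨reduced_le_pCoreOf (reducedIn_largest L) hy,
    le_centralizer_iff.mp (pCoreOf_le_centralizer (reducedIn_largest L)) hy,
    (reducedIn_largest L).ea.2 y hy⟩

/-- Frattini: `L = N_L(T ∩ C) C` for the centralizer `C` of a normal subgroup. -/
theorem frattini_centralizer {L T Y : Subgroup G} (hTL : T ≤ L) (hTp : IsPGroup p T)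
    (hidx : ¬ p ∣ T.relIndex L) (hY : L ≤ normalizer (Y : Set G)) :
    L ≤ (L ⊓ normalizer ((T ⊓ centralizer (Y : Set G) : Subgroup G) : Set G)) ⊔
      (L ⊓ centralizer (Y : Set G)) := by
  intro g hg
  set C := centralizer (Y : Set G) with hC
  have hCn : ((C).subgroupOf L).Normal :=
    normal_subgroupOf_of_le_normalizer (Coprime.le_normalizer_centralizer hY)
  set T' : Sylow p L := (hTp.comap_of_injective L.subtype L.subtype_injective).toSylow hidx with hT'
  have hi : ¬ p ∣ (T ⊓ C).relIndex (L ⊓ C) := by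
    have h1 := not_dvd_relIndex_normal T' (C.subgroupOf L)
    have e1 : (T ⊓ C).relIndex (L ⊓ C) = T.relIndex (L ⊓ C) := by
      rw [← inf_relIndex_right (T ⊓ C) (L ⊓ C), ← inf_relIndex_right T (L ⊓ C)]
      congr 1
      rw [inf_assoc, inf_eq_right.mpr (inf_le_right : L ⊓ C ≤ C)]
    rw [e1]
    change ¬ p ∣ (T.subgroupOf L).relIndex (C.subgroupOf L) at h1
    have e2 : C.subgroupOf L = (L ⊓ C).subgroupOf L := by rw [inf_subgroupOf_left]
    rw [e2, relIndex_subgroupOf inf_le_left] at h1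
    exact h1
  have hgC : ∀ r ∈ T ⊓ C, g * r * g⁻¹ ∈ L ⊓ C := fun r hr =>
    ⟨L.mul_mem (L.mul_mem hg (hTL hr.1)) (L.inv_mem hg),
      (mem_normalizer_iff.mp (Coprime.le_normalizer_centralizer hY hg) r).mp hr.2⟩
  obtain ⟨m, hm, hle⟩ := Fusion.exists_conjSub_le_of_not_dvd_relIndex (S := T ⊓ C) (N := L ⊓ C)
    (T := (T ⊓ C).map (MulAut.conj g).toMonoidHom) (inf_le_inf_right _ hTL)
    (hTp.to_le inf_le_left) hi
    (by rintro _ ⟨r, hr, rfl⟩; exact hgC r hr) ((hTp.to_le inf_le_left).map _)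
  have hN : m⁻¹ * g ∈ normalizer ((T ⊓ C : Subgroup G) : Set G) := by
    refine mem_normalizer_fintype (S := ((T ⊓ C : Subgroup G) : Set G)) fun q hq => ?_
    have h1 : m⁻¹ * (g * q * g⁻¹) * m ∈ T ⊓ C := by
      apply hle
      rw [Fusion.mem_conjSub]
      exact ⟨q, hq, by simp [mul_assoc]⟩
    rw [show m⁻¹ * g * q * (m⁻¹ * g)⁻¹ = m⁻¹ * (g * q * g⁻¹) * m by group]
    exact h1
  have h3 : g = (g * ((m⁻¹ * g)⁻¹)) * (m⁻¹ * g) := by group
  rw [h3, sup_comm]
  refine mul_mem_sup (by simpa using hm) ⟨L.mul_mem (L.inv_mem hm.1) hg, hN⟩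

/-- A subgroup of `L` normalized by `L` up to `C(Y)` whose `p′`-elements centralize `Y` centralizes `Y`. -/
theorem le_centralizer_of_mod {L Y K R : Subgroup G} (hY : ReducedIn p L Y) (hKL : K ≤ L)
    (hRK : R ≤ normalizer (K : Set G)) (hRL : R ≤ L)
    (hL : L ≤ R ⊔ (L ⊓ centralizer (Y : Set G)))
    (hg : ∀ g ∈ K, (orderOf g).Coprime p → g ∈ centralizer (Y : Set G)) :
    K ≤ centralizer (Y : Set G) := by
  set C := L ⊓ centralizer (Y : Set G) with hC
  have hLC : L ≤ normalizer (C : Set G) := Coprime.le_normalizer_inf Subgroup.le_normalizer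
    (Coprime.le_normalizer_centralizer hY.le_normalizer)
  have hX : L ≤ normalizer ((K ⊔ C : Subgroup G) : Set G) :=
    hL.trans (sup_le (Coprime.le_normalizer_sup hRK (hRL.trans hLC))
      (le_sup_right.trans Subgroup.le_normalizer))
  refine le_sup_left.trans (hY.reduced (K ⊔ C) (sup_le hKL inf_le_left) hX fun g hgX hgc => ?_)
  have hgL : g ∈ L := sup_le hKL inf_le_left hgX
  set C' : Subgroup L := C.subgroupOf L with hC'
  haveI : C'.Normal := normal_subgroupOf_of_le_normalizer hLC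
  have hP : IsPGroup p ((K.subgroupOf L).map (QuotientGroup.mk' C')) :=
    isPGroup_map_of_coprime_mem C' fun x hx hxc =>
      (show (x : G) ∈ C from ⟨x.2, hg _ hx (by rwa [Subgroup.orderOf_coe])⟩)
  have hmem : QuotientGroup.mk' C' ⟨g, hgL⟩ ∈ (K.subgroupOf L).map (QuotientGroup.mk' C') := by
    obtain ⟨k, hk, c, hc, hkc⟩ := (Coprime.mem_sup_of_le_normalizer (N := C) (A := K)
      (hKL.trans hLC)).mp (sup_comm K C ▸ hgX)
    refine ⟨⟨c, hKL hc⟩, hc, ?_⟩
    rw [QuotientGroup.mk'_eq_mk']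
    refine ⟨(⟨c⁻¹ * g, L.mul_mem (L.inv_mem (hKL hc)) hgL⟩ : L), ?_, ?_⟩
    · show c⁻¹ * g ∈ C
      rw [← hkc]
      have := (mem_normalizer_iff.mp (hLC (L.inv_mem (hKL hc))) k).mp hk
      simpa [mul_assoc] using this
    · ext
      simp
  have hC1 : (QuotientGroup.mk' C' ⟨g, hgL⟩) = 1 := by
    refine Subgroup.mem_bot.mp (coprime_mem_centralizer_of_isPGroup hP hmem ?_)
    exact hgc.coprime_dvd_left ((orderOf_map_dvd _ _).trans (Subgroup.orderOf_mk g hgL).dvd)
  exact ((QuotientGroup.eq_one_iff (⟨g, hgL⟩ : L)).mp hC1 : g ∈ C).2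

end Cfsg.Agent.LocalStructure
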