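import Mathlib
import Cfsg.Agent.LocalStructure.YL

/-!
# `Y_L`: closure of reduced subgroups of parabolics, the characterisation `Y = Ω₁(Z(T_L))`
-/

set_option autoImplicit false
set_option linter.all false

namespace Cfsg.Agent.LocalStructure

open Subgroup

variable {G : Type*} [Group G] [Finite G] {p : ℕ} [hp : Fact p.Prime]

theorem pReduced_normalClosure (hchar : centralizer (Cfsg.pCore p G : Set G) ≤ Cfsg.pCore p G)
    (T : Sylow p G) {R X : Subgroup G} (hTR : (T : Subgroup G) ≤ R) (hX : ReducedIn p R X) :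
    Cfsg.IsPReducedNormal p (normalClosure (X : Set G)) := by
  have hOT : Cfsg.pCore p G ≤ (T : Subgroup G) := Core.pCore_le_sylow T
  have hOR : Cfsg.pCore p G ≤ Cfsg.pCoreOf p R := le_pCoreOf_of_normal (hOT.trans hTR)
    (le_top.trans (normalizer_eq_top (H := Cfsg.pCore p G)).ge) Core.pCore_isPGroup
  have h1 : X ≤ centralizer (Cfsg.pCore p G : Set G) :=
    (le_centralizer_iff.mp (pCoreOf_le_centralizer hX)).trans
      (centralizer_le (SetLike.coe_subset_coe.mpr hOR))
  have h2 : X ≤ omegaZ p (Cfsg.pCore p G) := fun x hx =>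
    mem_omegaZ_iff.mpr ⟨hchar (h1 hx), h1 hx, hX.ea.2 x hx⟩
  haveI : (omegaZ p (Cfsg.pCore p G)).Normal := normalizer_eq_top_iff.mp (top_le_iff.mp
    (le_normalizer_omegaZ (normalizer_eq_top (H := Cfsg.pCore p G)).ge))
  set V := normalClosure (X : Set G) with hV
  have hea : Cfsg.IsElementaryAbelian p V :=
    Thompson.ea_mono (omegaZ_ea _) (normalClosure_le_normal h2)
  refine isPReducedNormal_iff.mpr ⟨normalClosure_normal, hea, fun K hK hg => ?_⟩
  have hTK : (T : Subgroup G) ≤ normalizer (K : Set G) := le_top.trans (normalizer_eq_top (H := K)).ge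
  have hXV : X ≤ V := le_normalClosure
  have h3 : K ⊓ R ≤ centralizer (X : Set G) :=
    hX.reduced _ inf_le_right (Coprime.le_normalizer_inf (le_top.trans (normalizer_eq_top (H := K)).ge)
      Subgroup.le_normalizer) fun g hgK hgc =>
        centralizer_le (SetLike.coe_subset_coe.mpr hXV) (hg g hgK.1 hgc)
  have h4 : K ≤ centralizer (X : Set G) :=
    (le_resOf_sup inf_le_right (T.isPGroup'.to_le inf_le_left) (not_dvd_relIndex_inf T hTK)).trans
      (sup_le ((resOf_le_iff.mpr hg).trans (centralizer_le (SetLike.coe_subset_coe.mpr hXV)))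
        ((le_inf inf_le_right (inf_le_left.trans hTR)).trans h3))
  rw [le_centralizer_iff]
  exact normalClosure_le_normal (le_centralizer_iff.mp h4)

theorem frattini_top (T : Sylow p G) {Y : Subgroup G} [Y.Normal] (g : G) :
    ∃ a ∈ normalizer (((T : Subgroup G) ⊓ centralizer (Y : Set G) : Subgroup G) : Set G),
      ∃ c ∈ centralizer (Y : Set G), g = a * c := by
  have h := frattini_centralizer (L := ⊤) (T := (T : Subgroup G)) le_top T.isPGroup'
    (by rw [relIndex_top_right]; exact T.not_dvd_index) (normalizer_eq_top (H := Y)).ge (mem_top g)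
  rw [top_inf_eq, top_inf_eq] at h
  obtain ⟨a, ha, c, hc, e⟩ := mem_sup_of_normal_right.mp h
  exact ⟨a, ha, c, hc, e.symm⟩

theorem pCoreOf_normalizer_eq (T : Sylow p G) {Y : Subgroup G} (hY : Cfsg.IsPReducedNormal p Y) :
    Cfsg.pCoreOf p (normalizer (((T : Subgroup G) ⊓ centralizer (Y : Set G) : Subgroup G) : Set G)) =
      (T : Subgroup G) ⊓ centralizer (Y : Set G) := by
  haveI := hY.1
  set TL := (T : Subgroup G) ⊓ centralizer (Y : Set G) with hTL
  set N := normalizer (TL : Set G) with hN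
  have hTN : (T : Subgroup G) ≤ N := Coprime.le_normalizer_inf Subgroup.le_normalizer
    (Coprime.le_normalizer_centralizer (le_top.trans (normalizer_eq_top (H := Y)).ge))
  refine le_antisymm (le_inf (pCoreOf_le_sylow hTN T.isPGroup' (sylow_not_dvd_relIndex T hTN)) ?_)
    (le_pCoreOf_of_normal (inf_le_left.trans hTN) le_rfl (T.isPGroup'.to_le inf_le_left))
  refine le_centralizer_of_mod (reducedIn_top_iff.mpr hY) le_top (le_normalizer_pCoreOf N) le_top
    ?_ fun g hg hgc => coprime_mem_centralizer_of_isPGroup (pCoreOf_isPGroup N) hg hgc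
  intro g _
  obtain ⟨a, ha, c, hc, rfl⟩ := frattini_top T (Y := Y) g
  exact mul_mem_sup ha ⟨mem_top c, hc⟩

theorem largest_eq_omegaZ (hchar : centralizer (Cfsg.pCore p G : Set G) ≤ Cfsg.pCore p G)
    (T : Sylow p G) :
    Cfsg.largestPReduced p G =
      omegaZ p ((T : Subgroup G) ⊓ centralizer (Cfsg.largestPReduced p G : Set G)) := by
  set Y := Cfsg.largestPReduced p G with hYdef
  have hY : Cfsg.IsPReducedNormal p Y := pReduced_largest
  haveI := hY.1
  set TL := (T : Subgroup G) ⊓ centralizer (Y : Set G) with hTL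
  set N := normalizer (TL : Set G) with hN
  have hYT : Y ≤ TL := le_inf ((pReduced_le_pCore hY).trans (Core.pCore_le_sylow T))
    (Thompson.ea_iff.mp hY.2.1).1
  have hYX : Y ≤ omegaZ p TL := fun y hy =>
    mem_omegaZ_iff.mpr ⟨hYT hy,
      le_centralizer_iff.mp (inf_le_right : TL ≤ centralizer (Y : Set G)) hy, hY.2.1.2 y hy⟩
  refine le_antisymm hYX ?_
  have hTN : (T : Subgroup G) ≤ N := Coprime.le_normalizer_inf Subgroup.le_normalizer
    (Coprime.le_normalizer_centralizer (le_top.trans (normalizer_eq_top (H := Y)).ge))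
  have hred : ReducedIn p N (omegaZ p TL) := by
    refine ⟨(omegaZ_le TL).trans (inf_le_left.trans hTN), le_normalizer_omegaZ le_rfl, omegaZ_ea TL,
      fun K hKN hNK hg => ?_⟩
    have hgY : ∀ g ∈ K, (orderOf g).Coprime p → g ∈ centralizer (Y : Set G) := fun g h1 h2 =>
      centralizer_le (SetLike.coe_subset_coe.mpr hYX) (hg g h1 h2)
    have h1 : K ≤ centralizer (Y : Set G) := by
      refine le_centralizer_of_mod (reducedIn_top_iff.mpr hY) le_top hNK le_top ?_ hgY
      intro g _
      obtain ⟨a, ha, c, hc, rfl⟩ := frattini_top T (Y := Y) g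
      exact mul_mem_sup ha ⟨mem_top c, hc⟩
    refine (le_resOf_sup inf_le_right (T.isPGroup'.to_le inf_le_left)
      (not_dvd_relIndex_inf T (hTN.trans hNK))).trans (sup_le (resOf_le_iff.mpr hg) ?_)
    exact (le_inf inf_le_left (inf_le_right.trans h1)).trans (le_centralizer_iff.mp (omegaZ_le_centralizer TL))
  exact le_normalClosure.trans (le_largest (pReduced_normalClosure hchar T hTN hred))

end Cfsg.Agent.LocalStructure

namespace Cfsg.Agent.LocalStructure

open Subgroup

theorem omegaZ_subgroupOf {G : Type*} [Group G] [Finite G] {p : ℕ} [Fact p.Prime] {L S : Subgroup G}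
    (hS : S ≤ L) {x : L} : x ∈ omegaZ p (S.subgroupOf L) ↔ (x : G) ∈ omegaZ p S := by
  rw [mem_omegaZ_iff, mem_omegaZ_iff, mem_centralizer_subgroupOf hS, mem_subgroupOf]
  refine and_congr Iff.rfl (and_congr Iff.rfl ?_)
  simp [Subtype.ext_iff]

theorem largestOf_eq_omegaZ {G : Type*} [Group G] [Finite G] {p : ℕ} [Fact p.Prime] {L T : Subgroup G}
    (hL : CharP p L) (hTL : T ≤ L) (hTp : IsPGroup p T) (hidx : ¬ p ∣ T.relIndex L) :
    Cfsg.largestPReducedOf p L =
      omegaZ p (T ⊓ centralizer (Cfsg.largestPReducedOf p L : Set G)) := by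
  set T' : Sylow p L := (hTp.comap_of_injective L.subtype L.subtype_injective).toSylow hidx
  have h := largest_eq_omegaZ (charP_iff.mp hL) T'
  set C : Subgroup L := (T' : Subgroup L) ⊓ centralizer (Cfsg.largestPReduced p L : Set L) with hC
  have hC' : C = (T ⊓ centralizer (Cfsg.largestPReducedOf p L : Set G)).subgroupOf L := by
    ext x
    rw [hC, mem_inf, mem_subgroupOf, mem_inf]
    refine and_congr Iff.rfl ?_
    have := mem_centralizer_subgroupOf (V := Cfsg.largestPReducedOf p L) (largestOf_le p L) (x := x)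
    rw [← this]
    show x ∈ centralizer _ ↔ x ∈ centralizer ((((Cfsg.largestPReduced p L).map L.subtype).comap L.subtype : Subgroup L) : Set L)
    rw [comap_map_eq_self_of_injective L.subtype_injective]
  refine le_antisymm ?_ ?_
  · rintro _ ⟨y, hy, rfl⟩
    rw [h, hC'] at hy
    exact (omegaZ_subgroupOf (inf_le_left.trans hTL)).mp hy
  · intro x hx
    have hxL : x ∈ L := hTL (omegaZ_le _ hx).1
    refine ⟨⟨x, hxL⟩, ?_, rfl⟩
    rw [h, hC']
    exact (omegaZ_subgroupOf (inf_le_left.trans hTL)).mpr hx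

end Cfsg.Agent.LocalStructure

namespace Cfsg.Agent.LocalStructure

open Subgroup

/-- If `L C(Y_M) = M C(Y_M)` then `Y_M ≤ Y_L`. -/
theorem largest_le_of_sup_eq {H : Type*} [Group H] [Finite H] {p : ℕ} [Fact p.Prime] (T : Sylow p H)
    {L M : Subgroup H} (hTL : (T : Subgroup H) ≤ L) (hTM : (T : Subgroup H) ≤ M)
    (heq : L ⊔ centralizer ((Cfsg.largestPReducedOf p M : Subgroup H) : Set H) =
      M ⊔ centralizer ((Cfsg.largestPReducedOf p M : Subgroup H) : Set H)) :
    Cfsg.largestPReducedOf p M ≤ Cfsg.largestPReducedOf p L := by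
  set Y : Subgroup H := Cfsg.largestPReducedOf p M with hY
  have hred := reducedIn_largest (p := p) M
  set C : Subgroup H := Subgroup.centralizer (Y : Set H) with hC
  have hLY : L ≤ Subgroup.normalizer (Y : Set H) :=
    (le_sup_left.trans heq.le).trans (sup_le hred.le_normalizer (Subgroup.centralizer_le_normalizer _))
  have hCL : L ≤ Subgroup.normalizer (C : Set H) := Coprime.le_normalizer_centralizer hLY
  have hYL : Y ≤ L := (reduced_le_pCoreOf hred).trans
    ((pCoreOf_le_sylow hTM T.isPGroup'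
      (sylow_not_dvd_relIndex T hTM)).trans hTL)
  refine le_largestOf ⟨hYL, hLY, hred.ea, fun K hKL hLK hg => ?_⟩
  -- transfer `K` to `M`
  set K' : Subgroup H := (K ⊔ C) ⊓ M with hK'
  have hX : M ≤ Subgroup.normalizer ((K ⊔ C : Subgroup H) : Set H) :=
    (le_sup_left.trans heq.ge).trans (sup_le (Coprime.le_normalizer_sup hLK hCL)
      (le_sup_right.trans Subgroup.le_normalizer))
  have hK'C : K' ≤ C := by
    refine hred.reduced K' inf_le_right (Coprime.le_normalizer_inf_of_le hX le_rfl) fun g hg' hgc => ?_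
    obtain ⟨c, hc, k, hk, rfl⟩ := (Coprime.mem_sup_of_le_normalizer (N := C) (A := K)
      (hKL.trans hCL)).mp (sup_comm K C ▸ hg'.1)
    obtain ⟨j, hj⟩ := exists_pow_mem_of_coprime_mem hg hk
    have h1 : ∀ m : ℕ, (c * k) ^ m * (k ^ m)⁻¹ ∈ C := by
      intro m
      induction m with
      | zero => simp
      | succ m ih =>
        have h2 : k ^ m * c * (k ^ m)⁻¹ ∈ C :=
          (Subgroup.mem_normalizer_iff.mp (Subgroup.pow_mem _ (hCL (hKL hk)) m) c).mp hc
        have e : (c * k) ^ (m + 1) * (k ^ (m + 1))⁻¹ =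
            ((c * k) ^ m * (k ^ m)⁻¹) * (k ^ m * c * (k ^ m)⁻¹) := by
          rw [pow_succ, pow_succ]; group
        rw [e]
        exact C.mul_mem ih h2
    have h3 : (c * k) ^ p ^ j ∈ C := by
      have := C.mul_mem (h1 (p ^ j)) hj
      simpa using this
    exact mem_of_pow_mem_of_coprime h3 hgc
  intro k hk
  obtain ⟨c, hc, m, hm, e⟩ := (Coprime.mem_sup_of_le_normalizer (N := C) (A := M)
    (Coprime.le_normalizer_centralizer hred.le_normalizer)).mp
      (sup_comm M C ▸ heq ▸ Subgroup.mem_sup_left (hKL hk))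
  have hmK : m ∈ K' := by
    refine ⟨?_, hm⟩
    rw [show m = c⁻¹ * k by rw [← e]; group]
    exact Subgroup.mul_mem _ (Subgroup.mem_sup_right (C.inv_mem hc)) (Subgroup.mem_sup_left hk)
  rw [← e]
  exact C.mul_mem hc (hK'C hmK)

end Cfsg.Agent.LocalStructure
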