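import Mathlib
import Cfsg.Agent.LocalStructure.Large
import Cfsg.Agent.LocalStructure.YL2

/-!
# The family `𝔐_H` in the presence of a large subgroup
-/

set_option autoImplicit false
set_option linter.all false

namespace Cfsg.Agent.LocalStructure

open Subgroup

variable {G : Type*} [Group G] [Finite G] {p : ℕ} [hp : Fact p.Prime]

/-- `M†`. -/
abbrev dagger (p : ℕ) (M : Subgroup G) : Subgroup G :=
  M ⊔ centralizer (Cfsg.largestPReducedOf p M : Set G)

theorem charPSubgroups_iff {L : Subgroup G} :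
    L ∈ Cfsg.charPSubgroups p G ↔ Cfsg.pCoreOf p L ≠ ⊥ ∧
      centralizer (Cfsg.pCoreOf p L : Set G) ≤ Cfsg.pCoreOf p L := by
  rw [pCoreOf_ne_bot_iff]
  rfl

/-- The normalizer of a nontrivial normal `p`-subgroup of `M` lies in `M†`. -/
theorem normalizer_le_dagger {Q : Subgroup G} (hQp : IsPGroup p Q) (hQ : Cfsg.IsLarge Q) (S : Sylow p G)
    {M : Subgroup G} (hSM : (S : Subgroup G) ≤ M) (hM : Cfsg.IsInFrakM p M) {I : Subgroup G}
    (hI : IsPGroup p I) (hI1 : I ≠ ⊥) (hMI : M ≤ normalizer (I : Set G)) :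
    normalizer (I : Set G) ≤ dagger p M := by
  classical
  have hpar : Cfsg.IsParabolic p (normalizer (I : Set G)) := ⟨S, hSM.trans hMI⟩
  have hne : Cfsg.pCoreOf p (normalizer (I : Set G)) ≠ ⊥ := fun e =>
    hI1 (le_bot_iff.mp (e ▸ le_pCoreOf_of_normal Subgroup.le_normalizer le_rfl hI))
  have hmem : normalizer (I : Set G) ∈ Cfsg.charPSubgroups p G :=
    charPSubgroups_iff.mpr ⟨hne, (large_parabolic hQp hQ hpar hne).1⟩
  obtain ⟨X, hX, hmax⟩ := (Set.toFinite {X : Subgroup G | X ∈ Cfsg.charPSubgroups p G}).exists_le_maximal hmem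
  have hXmax : X ∈ Cfsg.maxCharPSubgroups p G :=
    ⟨hmax.1, fun L hL hXL => le_antisymm (hmax.2 hL hXL) hXL⟩
  exact hX.trans (hM.2.2.1 X hXmax (hMI.trans hX)).le

end Cfsg.Agent.LocalStructure
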