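import Mathlib
import Cfsg.Agent.LocalStructure.FrakM
import Cfsg.Agent.LocalStructure.LocalChar
import Cfsg.Agent.LocalStructure.PIrreducible
import Cfsg.Agent.LocalStructure.YL2
import Cfsg.Agent.LocalStructure.QuotientNormalizer
import Cfsg.Agent.Core.Frattini
import Cfsg.Agent.S2822
import Cfsg.Agent.S2824

/-!
# Existence of members of `𝔐`
-/

set_option autoImplicit false
set_option linter.all false

namespace Cfsg.Agent.LocalStructure

open Subgroup

variable {G : Type*} [Group G] [Finite G] {p : ℕ} [hp : Fact p.Prime]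

/-- `Y_L ≤ Y_X` for parabolic subgroups `L ≤ X`. -/
theorem largestOf_mono {T : Sylow p G} {L X : Subgroup G} (hTL : (T : Subgroup G) ≤ L) (hLX : L ≤ X)
    (hX : CharP p X) : Cfsg.largestPReducedOf p L ≤ Cfsg.largestPReducedOf p X := by
  set Y : Subgroup G := Cfsg.largestPReducedOf p L with hY
  have hred := reducedIn_largest (p := p) L
  have hYX : Y ≤ X := hred.le.trans hLX
  have hred' : ReducedIn p (L.subgroupOf X) (Y.subgroupOf X) := by
    refine ⟨fun x hx => hred.le hx, ?_, ?_, fun K hKL hLK hg => ?_⟩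
    · intro x hx
      refine mem_normalizer_iff.mpr fun y => ?_
      exact mem_normalizer_iff.mp (hred.le_normalizer hx) (y : G)
    · exact (Thompson.ea_map_iff X.subtype_injective).mp (by rw [map_subgroupOf_eq_of_le hYX]; exact hred.ea)
    · have h1 : K.map X.subtype ≤ centralizer (Y : Set G) := by
        refine hred.reduced _ ?_ ?_ ?_
        · rintro _ ⟨k, hk, rfl⟩
          exact hKL hk
        · intro l hl
          have hl' : (⟨l, hLX hl⟩ : X) ∈ L.subgroupOf X := hl
          refine mem_normalizer_iff.mpr fun y => ⟨?_, ?_⟩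
          · rintro ⟨k, hk, rfl⟩
            exact ⟨⟨l, hLX hl⟩ * k * ⟨l, hLX hl⟩⁻¹, (mem_normalizer_iff.mp (hLK hl') k).mp hk, rfl⟩
          · rintro ⟨k, hk, hky⟩
            refine ⟨⟨l, hLX hl⟩⁻¹ * k * ⟨l, hLX hl⟩, ?_, ?_⟩
            · apply (mem_normalizer_iff.mp (hLK hl') _).mpr
              simpa [mul_assoc] using hk
            · simp only [map_mul, map_inv, hky]
              simp only [Subgroup.coe_subtype]
              group
        · rintro _ ⟨k, hk, rfl⟩ hc
          exact (mem_centralizer_subgroupOf hYX).mp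
            (hg k hk (by simpa [orderOf_injective X.subtype X.subtype_injective] using hc))
      exact fun k hk => (mem_centralizer_subgroupOf hYX).mpr (h1 ⟨k, hk, rfl⟩)
  have hTX : (T : Subgroup G) ≤ X := hTL.trans hLX
  have hR : ((T.subtype hTX : Sylow p X) : Subgroup X) ≤ L.subgroupOf X := by
    rw [Sylow.coe_subtype]; exact fun x hx => hTL hx
  have h2 := le_largest (pReduced_normalClosure (charP_iff.mp hX) (T.subtype hTX) hR hred')
  intro y hy
  exact ⟨⟨y, hYX hy⟩, h2 (subset_normalClosure (show (⟨y, hYX hy⟩ : X) ∈ Y.subgroupOf X from hy)), rfl⟩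

/-- In parabolic characteristic `p` the parabolic subgroups with `O_p ≠ 1` lie in `𝓛`. -/
theorem mem_charPSubgroups_of_parabolicChar (hG : Cfsg.IsOfParabolicCharacteristic p G) (T : Sylow p G)
    {X : Subgroup G} (hTX : (T : Subgroup G) ≤ X) (hne : Cfsg.pCoreOf p X ≠ ⊥) :
    X ∈ Cfsg.charPSubgroups p G := by
  set N : Subgroup G := normalizer ((Cfsg.pCoreOf p X : Subgroup G) : Set G) with hN
  have hXN : X ≤ N := le_normalizer_pCoreOf X
  have hNc : CharP p N := charP_iff.mpr (hG _ (pCoreOf_isPGroup X) hne ⟨T, hTX.trans hXN⟩)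
  have h1 : Cfsg.pCoreOf p X ≤ Cfsg.pCoreOf p N :=
    le_pCoreOf_of_normal Subgroup.le_normalizer le_rfl (pCoreOf_isPGroup X)
  have hTN := hTX.trans hXN
  have h2 : Cfsg.pCoreOf p N ≤ Cfsg.pCoreOf p X := le_pCoreOf_of_normal
    ((pCoreOf_le_sylow hTN T.isPGroup' (sylow_not_dvd_relIndex T hTN)).trans hTX)
    (hXN.trans (le_normalizer_pCoreOf N)) (pCoreOf_isPGroup N)
  refine charPSubgroups_iff.mpr ⟨hne, fun x hx => h2 (hNc ⟨centralizer_le_normalizer _ hx, ?_⟩)⟩
  exact centralizer_le (SetLike.coe_subset_coe.mpr h2) hx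

theorem le_of_not_dvd_relIndex {P Q K : Subgroup G} (hQ : IsPGroup p Q) (hQK : Q ≤ K) (hPQ : P ≤ Q)
    (h : ¬ p ∣ P.relIndex K) : Q ≤ P := by
  have h1 := relIndex_mul_relIndex _ _ _ hPQ hQK
  obtain ⟨n, hn⟩ := IsPGroup.iff_card.mp hQ
  obtain ⟨j, -, hj⟩ := (Nat.dvd_prime_pow hp.out).mp (hn ▸ relIndex_dvd_card P Q)
  rcases j with _ | j
  · exact relIndex_eq_one.mp (by simpa using hj)
  · exact absurd (h1 ▸ (hj ▸ dvd_pow_self p (Nat.succ_ne_zero j)).trans (dvd_mul_right _ _)) h

theorem charP_of_mem_charPSubgroups {X : Subgroup G} (hX : X ∈ Cfsg.charPSubgroups p G) : CharP p X :=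
  inf_le_right.trans (charPSubgroups_iff.mp hX).2

theorem omegaZ_le_largestOf (T : Sylow p G) {L : Subgroup G} (hTL : (T : Subgroup G) ≤ L) (hL : CharP p L) :
    omegaZ p (T : Subgroup G) ≤ Cfsg.largestPReducedOf p L := by
  refine le_trans ?_ (sylowCenterClosure_le_largest hL)
  exact omegaZ_le_sylowCenterClosure hTL T.isPGroup' (sylow_not_dvd_relIndex T hTL)

theorem exists_frakM (hG : Cfsg.IsOfParabolicCharacteristic p G) (T : Sylow p G) {L : Subgroup G}
    (hTL : (T : Subgroup G) ≤ L) (hL : L ∈ Cfsg.charPSubgroups p G) :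
    ∃ M Ls : Subgroup G, (T : Subgroup G) ≤ M ∧ Cfsg.IsInFrakM p M ∧ (T : Subgroup G) ≤ Ls ∧ Ls ≤ M ∧
      Ls ∈ Cfsg.charPSubgroups p G ∧ Cfsg.largestPReducedOf p L = Cfsg.largestPReducedOf p Ls ∧
      Cfsg.largestPReducedOf p L ≤ Cfsg.largestPReducedOf p M ∧
      L ⊔ centralizer ((Cfsg.largestPReducedOf p L : Subgroup G) : Set G) =
        Ls ⊔ centralizer ((Cfsg.largestPReducedOf p L : Subgroup G) : Set G) := by
  classical
  have hmem := @mem_charPSubgroups_of_parabolicChar G _ _ p _ hG T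
  have hcharL := charP_of_mem_charPSubgroups hL
  set Y : Subgroup G := Cfsg.largestPReducedOf p L with hY
  set D : Subgroup G := L ⊔ centralizer (Y : Set G) with hD
  -- `Y ≠ 1`
  have hT1 : (T : Subgroup G) ≠ ⊥ := fun e => (charPSubgroups_iff.mp hL).1
    (le_bot_iff.mp (e ▸ pCoreOf_le_sylow hTL T.isPGroup' (sylow_not_dvd_relIndex T hTL)))
  have hZ1 : omegaZ p (T : Subgroup G) ≠ ⊥ := by
    intro e
    have h1 := inf_centralizer_ne_bot T.2 T.2 Subgroup.le_normalizer hT1
    set W : Subgroup G := (T : Subgroup G) ⊓ centralizer ((T : Subgroup G) : Set G) with hW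
    haveI : Nontrivial W := (nontrivial_iff_ne_bot W).mpr h1
    obtain ⟨n, hn0, hn⟩ := (IsPGroup.nontrivial_iff_card (T.2.to_le inf_le_left : IsPGroup p W)).mp inferInstance
    obtain ⟨⟨z, hz⟩, hzo⟩ := exists_prime_orderOf_dvd_card' (G := W) p (hn ▸ dvd_pow_self p hn0.ne')
    rw [← Subgroup.orderOf_coe] at hzo
    have hzo' : orderOf z = p := hzo
    have : z ∈ omegaZ p (T : Subgroup G) :=
      mem_omegaZ_iff.mpr ⟨hz.1, hz.2, hzo' ▸ pow_orderOf_eq_one z⟩
    rw [e, mem_bot] at this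
    exact hp.out.ne_one (by rw [← hzo', this, orderOf_one])
  have hY1 : Y ≠ ⊥ := fun e => hZ1 (le_bot_iff.mp (e ▸ omegaZ_le_largestOf T hTL hcharL))
  have hne : ∀ X : Subgroup G, (T : Subgroup G) ≤ X → X ≤ normalizer (Y : Set G) → Cfsg.pCoreOf p X ≠ ⊥ :=
    fun X hTX hX e => hY1 (le_bot_iff.mp (e ▸ le_pCoreOf_of_normal
      ((reduced_le_pCoreOf (reducedIn_largest L)).trans
        ((pCoreOf_le_sylow hTL T.isPGroup' (sylow_not_dvd_relIndex T hTL)).trans hTX))
      hX (Thompson.ea_isPGroup (reducedIn_largest L).ea)))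
  have hDY : D ≤ normalizer (Y : Set G) :=
    sup_le (reducedIn_largest L).le_normalizer (centralizer_le_normalizer _)
  have hDmem : D ∈ Cfsg.charPSubgroups p G := hmem (hTL.trans le_sup_left) (hne D (hTL.trans le_sup_left) hDY)
  -- choose the maximal member
  obtain ⟨X₀, hX₀, hX₀max⟩ :=
    (Set.toFinite {X : Subgroup G | X ∈ Cfsg.charPSubgroups p G}).exists_le_maximal hDmem
  have hmaxmem : X₀ ∈ Cfsg.maxCharPSubgroups p G :=
    ⟨hX₀max.1, fun X hX hle => le_antisymm (hX₀max.2 hX hle) hle⟩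
  set 𝒳 : Set (Subgroup G) := {X | X ∈ Cfsg.maxCharPSubgroups p G ∧ (T : Subgroup G) ≤ X ∧
    (X ⊓ D) ⊔ centralizer (Y : Set G) = D} with h𝒳
  obtain ⟨X, ⟨hXmax, hTX, hXD⟩, hbest⟩ := Set.Finite.exists_maximalFor
    (fun X => Cfsg.largestPReducedOf p X) 𝒳 (Set.toFinite _)
    ⟨X₀, hmaxmem, hTL.trans (le_sup_left.trans hX₀), by rw [inf_eq_right.mpr hX₀]; exact sup_eq_left.mpr le_sup_right⟩
  have hXc := charP_of_mem_charPSubgroups hXmax.1
  -- `Y ≤ Y_X`
  have hfacY : ∀ A : Subgroup G, (T : Subgroup G) ≤ A → A ⊔ centralizer (Y : Set G) = D →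
      Y ≤ Cfsg.largestPReducedOf p A := by
    intro A hTA hA
    have hAN : A ≤ normalizer (Y : Set G) := (le_sup_left.trans hA.le).trans hDY
    exact Cfsg.Agent.S2822.result T A L hTA hTL
      (charP_iff.mp (charP_of_mem_charPSubgroups (hmem hTA (hne A hTA hAN)))) (charP_iff.mp hcharL) hA
  set YX : Subgroup G := Cfsg.largestPReducedOf p X with hYX
  have hYYX : Y ≤ YX := (hfacY _ (le_inf hTX (hTL.trans le_sup_left)) hXD).trans
    (largestOf_mono (le_inf hTX (hTL.trans le_sup_left)) inf_le_left hXc)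
  set C : Subgroup G := centralizer (YX : Set G) with hC
  have hCD : C ≤ D := (centralizer_le (SetLike.coe_subset_coe.mpr hYYX)).trans le_sup_right
  have hCX : C ≤ X := by
    have hN : X ⊔ C ≤ normalizer (YX : Set G) :=
      sup_le (reducedIn_largest X).le_normalizer (centralizer_le_normalizer _)
    have hne' : Cfsg.pCoreOf p (X ⊔ C) ≠ ⊥ := fun e => hY1 (le_bot_iff.mp (hYYX.trans (e ▸
      le_pCoreOf_of_normal ((reducedIn_largest X).le.trans le_sup_left) hN
        (Thompson.ea_isPGroup (reducedIn_largest X).ea))))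
    exact le_sup_right.trans (hXmax.2 _ (hmem (hTX.trans le_sup_left) hne') le_sup_left).le
  have hXC : X ≤ normalizer (C : Set G) := Coprime.le_normalizer_centralizer (reducedIn_largest X).le_normalizer
  -- minimal supplement
  obtain ⟨M, ⟨hTM, hMX⟩, hMmin⟩ := (Set.toFinite {M : Subgroup G | (T : Subgroup G) ≤ M ∧ M ⊔ C = X}).exists_minimal
    ⟨X, hTX, sup_eq_left.mpr hCX⟩
  have hMleX : M ≤ X := le_sup_left.trans hMX.le
  have hMY : M ≤ normalizer (YX : Set G) := hMleX.trans (reducedIn_largest X).le_normalizer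
  have hneM : Cfsg.pCoreOf p M ≠ ⊥ := fun e => hY1 (le_bot_iff.mp (hYYX.trans (e ▸
    le_pCoreOf_of_normal ((reduced_le_pCoreOf (reducedIn_largest X)).trans
      ((pCoreOf_le_sylow hTX T.isPGroup' (sylow_not_dvd_relIndex T hTX)).trans hTM)) hMY
      (Thompson.ea_isPGroup (reducedIn_largest X).ea))))
  have hMmem := hmem hTM hneM
  have hMc := charP_of_mem_charPSubgroups hMmem
  set T₀ : Subgroup G := (T : Subgroup G) ⊓ C with hT₀
  obtain ⟨e1, e2⟩ := Cfsg.Agent.S2824.result T X M hTX hTM (charP_iff.mp hXc) (charP_iff.mp hMc) T₀ rfl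
    (by rw [← hC, hMX]; exact (sup_eq_left.mpr hCX).symm) (M ⊓ normalizer (T₀ : Set G)) rfl
  have hTN : (T : Subgroup G) ≤ M ⊓ normalizer (T₀ : Set G) := le_inf hTM
    (Coprime.le_normalizer_inf Subgroup.le_normalizer (hTX.trans hXC))
  have hMeq : M ⊓ normalizer (T₀ : Set G) = M := le_antisymm inf_le_left
    (hMmin ⟨hTN, e2.symm.trans (sup_eq_left.mpr hCX)⟩ inf_le_left)
  rw [hMeq] at e1
  have hdag : M ⊔ centralizer (Cfsg.largestPReducedOf p M : Set G) = X := by rw [e1]; exact hMX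
  have hT₀M : T₀ ≤ M := inf_le_left.trans hTM
  have hT₀O : T₀ ≤ Cfsg.pCoreOf p M :=
    le_pCoreOf_of_normal hT₀M (hMeq.ge.trans inf_le_right) (T.2.to_le inf_le_left)
  -- `Ls`
  set A : Subgroup G := M ⊓ D with hA
  have hTA : (T : Subgroup G) ≤ A := le_inf hTM (hTL.trans le_sup_left)
  have hAfac : A ⊔ centralizer (Y : Set G) = D := by
    refine le_antisymm (sup_le inf_le_right le_sup_right) ?_
    conv_lhs => rw [← hXD]
    refine sup_le (fun x hx => ?_) le_sup_right
    obtain ⟨c, hc, m, hm, e⟩ := (Coprime.mem_sup_of_le_normalizer (hMleX.trans hXC)).mp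
      (show x ∈ C ⊔ M by rw [sup_comm, hMX]; exact hx.1)
    have hmD : m ∈ D := by
      have := D.mul_mem (D.inv_mem (hCD hc)) hx.2
      rwa [← e, inv_mul_cancel_left] at this
    rw [← e]
    exact mul_mem (mem_sup_right (centralizer_le (SetLike.coe_subset_coe.mpr hYYX) hc))
      (mem_sup_left ⟨hm, hmD⟩)
  have hAN : A ≤ normalizer (Y : Set G) := inf_le_right.trans hDY
  have hAc := charP_of_mem_charPSubgroups (hmem hTA (hne A hTA hAN))
  set T₁ : Subgroup G := (T : Subgroup G) ⊓ centralizer (Y : Set G) with hT₁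
  obtain ⟨f1, f2⟩ := Cfsg.Agent.S2824.result T L A hTL hTA (charP_iff.mp hcharL) (charP_iff.mp hAc) T₁ rfl
    hAfac (A ⊓ normalizer (T₁ : Set G)) rfl
  have hTLs : (T : Subgroup G) ≤ A ⊓ normalizer (T₁ : Set G) := le_inf hTA
    (Coprime.le_normalizer_inf Subgroup.le_normalizer
      (Coprime.le_normalizer_centralizer (hTA.trans hAN)))
  refine ⟨M, A ⊓ normalizer (T₁ : Set G), hTM, ⟨hMmem, by rw [hdag]; exact hXmax, ?_, by rw [hdag, e1], ?_, ?_⟩,
    hTLs, inf_le_left.trans inf_le_left, hmem hTLs (hne _ hTLs (inf_le_left.trans hAN)), f1.symm, hYYX.trans e1.ge,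
    f2⟩
  · intro X' hX' hMX'
    rw [hdag]
    have hTX' := hTM.trans hMX'
    have hX'D : (X' ⊓ D) ⊔ centralizer (Y : Set G) = D := le_antisymm (sup_le inf_le_right le_sup_right)
      (hAfac.ge.trans (sup_le_sup_right (inf_le_inf_right _ hMX') _))
    have hc' := charP_of_mem_charPSubgroups hX'.1
    have hle : YX ≤ Cfsg.largestPReducedOf p X' := e1.ge.trans (largestOf_mono hTM hMX' hc')
    have hge := hbest (show X' ∈ 𝒳 from ⟨hX', hTX', hX'D⟩) hle
    have heq : Cfsg.largestPReducedOf p X' = YX := le_antisymm hge hle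
    have hCX' : C ≤ X' := by
      have hN : X' ⊔ C ≤ normalizer (YX : Set G) :=
        sup_le (heq ▸ (reducedIn_largest X').le_normalizer) (centralizer_le_normalizer _)
      have hne' : Cfsg.pCoreOf p (X' ⊔ C) ≠ ⊥ := fun e => hY1 (le_bot_iff.mp (hYYX.trans (e ▸
        le_pCoreOf_of_normal ((heq ▸ (reducedIn_largest X').le : YX ≤ X').trans le_sup_left) hN
          (Thompson.ea_isPGroup (reducedIn_largest X).ea))))
      exact le_sup_right.trans (hX'.2 _ (hmem (hTX'.trans le_sup_left) hne') le_sup_left).le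
    exact hXmax.2 X' hX'.1 (hMX ▸ sup_le hMX' hCX')
  · -- `C_M(Y_M)` is `p`-closed
    rw [e1, ← hC, isPClosed_subgroup_iff]
    rintro x hx ⟨k, hk⟩
    have hn : M ⊓ C ≤ normalizer (T₀ : Set G) := inf_le_left.trans (hMeq.ge.trans inf_le_right)
    refine le_pCoreOf_of_normal (le_inf hT₀M inf_le_right) hn (T.2.to_le inf_le_left) ?_
    have hxT : zpowers x ⊔ T₀ = T₀ := by
      have hxN : zpowers x ≤ normalizer (T₀ : Set G) := zpowers_le.mpr (hn hx)
      have hp1 : IsPGroup p (zpowers x ⊔ T₀ : Subgroup G) :=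
        (isPGroup_zpowers_of_orderOf hk).to_sup_of_normal_right' (T.2.to_le inf_le_left) hxN
      obtain ⟨g, hg⟩ := exists_cmap_le_sylow hp1 T
      -- Sylow subgroup of `M ⊓ C`
      have hidx := not_dvd_relIndex_inf T (K := M ⊓ C)
        (Coprime.le_normalizer_inf (hTM.trans Subgroup.le_normalizer) (hTX.trans hXC))
      have heq : (T : Subgroup G) ⊓ (M ⊓ C) = T₀ := le_antisymm (inf_le_inf_left _ inf_le_right)
        (le_inf inf_le_left (le_inf hT₀M inf_le_right))
      rw [heq] at hidx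
      exact le_antisymm (le_of_not_dvd_relIndex hp1
        (sup_le (zpowers_le.mpr hx) (le_inf hT₀M inf_le_right)) le_sup_right hidx) le_sup_right
    exact hxT ▸ mem_sup_left (mem_zpowers x)
  · -- the image lies in the Frattini subgroup
    rw [e1, ← hC]
    set f := QuotientGroup.mk' (Cfsg.pCore p ↥M) with hf
    have hsurj : Function.Surjective f := QuotientGroup.mk'_surjective _
    set N : Subgroup ↥M := (M ⊓ C).subgroupOf M with hN
    have hNn : N.Normal := normal_subgroupOf_of_le_normalizer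
      (Coprime.le_normalizer_inf Subgroup.le_normalizer (hMleX.trans hXC))
    refine Core.le_frattini fun M₁ hM₁ => ?_
    by_contra hle
    set M₂ : Subgroup ↥M := M₁.comap f with hM₂
    have hOM₂ : Cfsg.pCore p ↥M ≤ M₂ := fun x hx => by
      rw [hM₂, mem_comap, hf, QuotientGroup.mk'_apply, (QuotientGroup.eq_one_iff x).mpr hx]
      exact one_mem _
    have htop : M₂ ⊔ N = ⊤ := by
      have h1 := hM₁.2 _ (left_lt_sup.mpr hle)
      rw [← map_comap_eq_self_of_surjective hsurj M₁, ← Subgroup.map_sup] at h1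
      have h2 := congrArg (Subgroup.comap f) h1
      rw [comap_top, comap_map_eq, hf, QuotientGroup.ker_mk', sup_eq_left.mpr (hOM₂.trans le_sup_left)] at h2
      exact h2
    let S : Sylow p ↥M := T.subtype hTM
    have hidx : ¬ p ∣ M₂.index := by
      rw [← relIndex_top_right, ← htop, relIndex_sup_normal]
      intro hd
      have h3 := not_dvd_relIndex_normal S N
      have h4 : (S : Subgroup ↥M) ⊓ N ≤ M₂ ⊓ N := le_inf (fun x hx => hOM₂ (by
        obtain ⟨y, hy, hyx⟩ := hT₀O (show (x : G) ∈ T₀ from ⟨hx.1, hx.2.2⟩)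
        exact (Subtype.ext hyx : y = x) ▸ hy)) inf_le_right
      rw [← inf_relIndex_right] at hd h3
      exact h3 (hd.trans (relIndex_dvd_of_le_left _ h4))
    obtain ⟨S'⟩ := (inferInstance : Nonempty (Sylow p ↥M₂))
    obtain ⟨Q, hQ⟩ := (S'.2.map M₂.subtype).exists_le_sylow
    have hQeq : (Q : Subgroup ↥M) ≤ M₂ := by
      have hnd' : ¬ p ∣ ((S' : Subgroup ↥M₂).map M₂.subtype).index := by
        rw [Subgroup.index_map_subtype]
        exact hp.out.not_dvd_mul S'.not_dvd_index hidx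
      rw [((S'.2.map M₂.subtype).toSylow hnd').3 Q.2 hQ]
      exact map_subtype_le _
    obtain ⟨g, rfl⟩ := MulAction.exists_smul_eq ↥M S Q
    set M₃ : Subgroup ↥M := M₂.comap (MulAut.conj g).toMonoidHom with hM₃
    have hSM₃ : (S : Subgroup ↥M) ≤ M₃ := fun y hy => hQeq (by
      rw [Sylow.coe_subgroup_smul]
      exact smul_mem_pointwise_smul _ _ _ hy)
    have htop₃ : M₃ ⊔ N = ⊤ := by
      rw [eq_top_iff]
      intro x _
      obtain ⟨r, hr, n, hn', hrn⟩ := mem_sup_of_normal_right.mp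
        (show g * x * g⁻¹ ∈ M₂ ⊔ N from htop ▸ mem_top _)
      have : x = (g⁻¹ * r * g) * (g⁻¹ * n * g) := by
        calc x = g⁻¹ * (g * x * g⁻¹) * g := by group
          _ = _ := by rw [← hrn]; group
      rw [this]
      refine mul_mem_sup ?_ ?_
      · show g * (g⁻¹ * r * g) * g⁻¹ ∈ M₂
        simpa [mul_assoc] using hr
      · simpa using hNn.conj_mem n hn' g⁻¹
    have hM₃top : M ≤ M₃.map M.subtype := by
      refine hMmin ⟨fun t ht => ⟨⟨t, hTM ht⟩, hSM₃ ht, rfl⟩, le_antisymm ?_ ?_⟩ (map_subtype_le _)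
      · exact hMX ▸ sup_le_sup_right (map_subtype_le _) _
      · conv_lhs => rw [← hMX]
        refine sup_le ?_ le_sup_right
        have h5 := congrArg (Subgroup.map M.subtype) htop₃
        rw [Subgroup.map_sup, ← MonoidHom.range_eq_map, range_subtype] at h5
        refine h5.ge.trans (sup_le_sup_left ?_ _)
        rw [hN, map_subgroupOf_eq_of_le inf_le_left]
        exact inf_le_right
    refine hle (map_le_iff_le_comap.mpr fun x hx => ?_)
    have hM₂top : M₂ = ⊤ := by
      rw [eq_top_iff]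
      intro y _
      obtain ⟨z, hz, hzy⟩ := hM₃top (show ((g⁻¹ * y * g : ↥M) : G) ∈ M from (g⁻¹ * y * g : ↥M).2)
      have : z = g⁻¹ * y * g := Subtype.ext hzy
      rw [this] at hz
      have hz' : g * (g⁻¹ * y * g) * g⁻¹ ∈ M₂ := hz
      simpa [mul_assoc] using hz'
    exact (hM₂top ▸ mem_top x : x ∈ M₂)

end Cfsg.Agent.LocalStructure
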