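import Mathlib
import Cfsg.Agent.LocalStructure.FrakM
import Cfsg.Agent.LocalStructure.FrakMExists
import Cfsg.Agent.LocalStructure.PIrreducible

/-!
# Members of `𝔐` with asymmetric `Y`
-/

set_option autoImplicit false
set_option linter.all false

namespace Cfsg.Agent.LocalStructure

open Subgroup
open scoped commutatorElement

variable {G : Type*} [Group G] [Finite G] {p : ℕ} [hp : Fact p.Prime]

theorem frakM_charP {M : Subgroup G} (hM : Cfsg.IsInFrakM p M) : CharP p M :=
  charP_of_mem_charPSubgroups hM.1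

theorem dagger_le_normalizer_largest (M : Subgroup G) :
    dagger p M ≤ normalizer ((Cfsg.largestPReducedOf p M : Subgroup G) : Set G) :=
  sup_le (reducedIn_largest M).le_normalizer (centralizer_le_normalizer _)

theorem dagger_le_normalizer_centralizer (M : Subgroup G) :
    dagger p M ≤ normalizer (centralizer (Cfsg.largestPReducedOf p M : Set G) : Set G) :=
  Coprime.le_normalizer_centralizer (dagger_le_normalizer_largest M)

theorem frakM_pCoreOf_le (S : Sylow p G) {M : Subgroup G} (hSM : (S : Subgroup G) ≤ M) :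
    Cfsg.pCoreOf p M ≤ (S : Subgroup G) :=
  pCoreOf_le_sylow hSM S.isPGroup' (sylow_not_dvd_relIndex S hSM)

theorem frakM_sylow_inf_centralizer (S : Sylow p G) {M : Subgroup G} (hSM : (S : Subgroup G) ≤ M)
    (hM : Cfsg.IsInFrakM p M) :
    (S : Subgroup G) ⊓ centralizer (Cfsg.largestPReducedOf p M : Set G) = Cfsg.pCoreOf p M := by
  set C := centralizer (Cfsg.largestPReducedOf p M : Set G) with hC
  refine le_antisymm ?_ (le_inf (frakM_pCoreOf_le S hSM) (pCoreOf_le_centralizer (reducedIn_largest M)))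
  intro x hx
  obtain ⟨k, hk⟩ := IsPGroup.iff_orderOf.mp S.2 ⟨x, hx.1⟩
  rw [Subgroup.orderOf_mk] at hk
  have h1 := isPClosed_subgroup_iff.mp hM.2.2.2.2.1 x ⟨hSM hx.1, hx.2⟩ ⟨k, hk⟩
  refine le_pCoreOf_of_normal ((pCoreOf_le _).trans inf_le_left) ?_ (pCoreOf_isPGroup _) h1
  exact le_normalizer_map_characteristic (Coprime.le_normalizer_inf Subgroup.le_normalizer
    (Coprime.le_normalizer_centralizer (reducedIn_largest M).le_normalizer)) _

theorem frakM_conj_pCoreOf (S : Sylow p G) {M : Subgroup G} (hSM : (S : Subgroup G) ≤ M)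
    (hM : Cfsg.IsInFrakM p M) {g : G} (hg : g ∈ dagger p M)
    (hle : cmap g (Cfsg.pCoreOf p M) ≤ (S : Subgroup G)) :
    cmap g (Cfsg.pCoreOf p M) = Cfsg.pCoreOf p M := by
  set O := Cfsg.pCoreOf p M with hO
  set C := centralizer (Cfsg.largestPReducedOf p M : Set G) with hC
  have hMC : M ≤ normalizer (C : Set G) := le_sup_left.trans (dagger_le_normalizer_centralizer M)
  obtain ⟨c, hc, m, hm, rfl⟩ := (Coprime.mem_sup_of_le_normalizer hMC).mp
    (show g ∈ C ⊔ M by rw [sup_comm]; exact hg)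
  have hmO : cmap m O = O := cmap_eq_iff.mpr (le_normalizer_pCoreOf M hm)
  rw [cmap_mul, hmO] at hle ⊢
  refine eq_of_le_of_card_ge ?_ (Layer.card_map_conj O c).ge
  rintro _ ⟨x, hx, rfl⟩
  show c * x * c⁻¹ ∈ O
  have hxS : x ∈ (S : Subgroup G) := frakM_pCoreOf_le S hSM hx
  have h1 : x⁻¹ * (c * x * c⁻¹) ∈ (S : Subgroup G) ⊓ C := by
    refine ⟨Subgroup.mul_mem _ (Subgroup.inv_mem _ hxS) (hle ⟨x, hx, rfl⟩), ?_⟩
    rw [← mul_assoc, ← mul_assoc]
    refine C.mul_mem ?_ (C.inv_mem hc)
    have := (mem_normalizer_iff.mp (hMC (M.inv_mem (pCoreOf_le M hx))) c).mp hc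
    simpa using this
  rw [frakM_sylow_inf_centralizer S hSM hM] at h1
  have := O.mul_mem hx h1
  simpa [mul_assoc] using this

theorem frakM_inf_centralizer (S : Sylow p G) {M : Subgroup G} (hSM : (S : Subgroup G) ≤ M)
    (hM : Cfsg.IsInFrakM p M) {L : Subgroup G} (hL : IsPGroup p L)
    (hOL : Cfsg.pCoreOf p M ≤ L) (hLM : L ≤ dagger p M) :
    L ⊓ centralizer (Cfsg.largestPReducedOf p M : Set G) = Cfsg.pCoreOf p M := by
  have hSd : (S : Subgroup G) ≤ dagger p M := hSM.trans le_sup_left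
  obtain ⟨d, hd⟩ := exists_cmap_le_sylow (hL.comap_of_injective (dagger p M).subtype
    (dagger p M).subtype_injective) (S.subtype hSd)
  have hd' : cmap (d : G) L ≤ (S : Subgroup G) := by
    rintro _ ⟨x, hx, rfl⟩
    exact hd (show d * ⟨x, hLM hx⟩ * d⁻¹ ∈ cmap d (L.subgroupOf (dagger p M)) from ⟨⟨x, hLM hx⟩, hx, rfl⟩)
  have hO := frakM_conj_pCoreOf S hSM hM d.2 ((cmap_mono hOL).trans hd')
  refine le_antisymm ?_ (le_inf hOL (pCoreOf_le_centralizer (reducedIn_largest M)))
  intro x hx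
  have h1 : (d : G) * x * (d : G)⁻¹ ∈ (S : Subgroup G) ⊓ centralizer (Cfsg.largestPReducedOf p M : Set G) :=
    ⟨hd' ⟨x, hx.1, rfl⟩, (mem_normalizer_iff.mp (dagger_le_normalizer_centralizer M d.2) x).mp hx.2⟩
  rw [frakM_sylow_inf_centralizer S hSM hM, ← hO] at h1
  obtain ⟨y, hy, hyx⟩ := h1
  have hyx' : (d : G) * y * (d : G)⁻¹ = (d : G) * x * (d : G)⁻¹ := hyx
  rwa [← mul_left_cancel (mul_right_cancel hyx')]

/-- Two conjugates of an asymmetric subgroup normalizing each other commute. -/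
theorem asym_le_centralizer {Y : Subgroup G} (hasym : ¬ Cfsg.IsSymmetricIn Y) {g : G}
    (h1 : cmap g Y ≤ normalizer (Y : Set G)) (h2 : Y ≤ normalizer ((cmap g Y : Subgroup G) : Set G)) :
    cmap g Y ≤ centralizer (Y : Set G) := by
  rw [← commutator_eq_bot_iff_le_centralizer, commutator_comm]
  by_contra hne
  exact hasym ⟨g, hne, le_inf (Subgroup.le_normalizer_iff_commutator_le_left.mp h1)
    (Subgroup.le_normalizer_iff_commutator_le_right.mp h2)⟩

theorem largestOf_ne_bot_of_frakM (S : Sylow p G) {M : Subgroup G} (hSM : (S : Subgroup G) ≤ M)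
    (hM : Cfsg.IsInFrakM p M) : Cfsg.largestPReducedOf p M ≠ ⊥ := by
  intro e
  have hc := frakM_charP hM
  have hZ := omegaZ_le_largestOf S hSM hc
  rw [e, le_bot_iff] at hZ
  have hT1 : (S : Subgroup G) ≠ ⊥ := fun e => (charPSubgroups_iff.mp hM.1).1
    (le_bot_iff.mp (e ▸ frakM_pCoreOf_le S hSM))
  have h1 := inf_centralizer_ne_bot S.2 S.2 Subgroup.le_normalizer hT1
  set W : Subgroup G := (S : Subgroup G) ⊓ centralizer ((S : Subgroup G) : Set G) with hW
  haveI : Nontrivial W := (nontrivial_iff_ne_bot W).mpr h1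
  obtain ⟨n, hn0, hn⟩ := (IsPGroup.nontrivial_iff_card (S.2.to_le inf_le_left : IsPGroup p W)).mp inferInstance
  obtain ⟨⟨z, hz⟩, hzo⟩ := exists_prime_orderOf_dvd_card' (G := W) p (hn ▸ dvd_pow_self p hn0.ne')
  rw [← Subgroup.orderOf_coe] at hzo
  have hzo' : orderOf z = p := hzo
  have : z ∈ omegaZ p (S : Subgroup G) :=
    mem_omegaZ_iff.mpr ⟨hz.1, hz.2, hzo' ▸ pow_orderOf_eq_one z⟩
  rw [hZ, mem_bot] at this
  exact hp.out.ne_one (by rw [← hzo', this, orderOf_one])

/-- For asymmetric `Y_M` and a `p`-group `L` between `O_p(M)` and `M†`, `N(L) ≤ N(O_p(M))`. -/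
theorem asym_normalizer_le {Q : Subgroup G} (hQp : IsPGroup p Q) (hQ : Cfsg.IsLarge Q) (S : Sylow p G)
    {M : Subgroup G} (hSM : (S : Subgroup G) ≤ M) (hM : Cfsg.IsInFrakM p M)
    (hasym : ¬ Cfsg.IsSymmetricIn (Cfsg.largestPReducedOf p M))
    {L : Subgroup G} (hL : IsPGroup p L) (hOL : Cfsg.pCoreOf p M ≤ L) (hLM : L ≤ dagger p M) :
    normalizer (L : Set G) ≤ normalizer ((Cfsg.pCoreOf p M : Subgroup G) : Set G) := by
  intro g hg
  set Y := Cfsg.largestPReducedOf p M with hY
  set O := Cfsg.pCoreOf p M with hO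
  have hLC : L ⊓ centralizer (Y : Set G) = O := frakM_inf_centralizer S hSM hM hL hOL hLM
  have hLN : L ≤ normalizer (Y : Set G) := hLM.trans (dagger_le_normalizer_largest M)
  have hYO : Y ≤ O := reduced_le_pCoreOf (reducedIn_largest M)
  let Gs : Set G := (M : Set G) ∪ {g, g⁻¹}
  -- all conjugates of `Y` under words lie in `O_p(M)`
  have hmain : ∀ n : ℕ, ∀ d : List G, d.length = n → (∀ s ∈ d, s ∈ Gs) → cmap d.prod Y ≤ O := by
    intro n
    induction n with
    | zero =>
      intro d hd _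
      rw [List.length_eq_zero_iff.mp hd, List.prod_nil, cmap_one]
      exact hYO
    | succ n ih =>
      have hL' : ∀ d : List G, d.length = n + 1 → (∀ s ∈ d, s ∈ Gs) → cmap d.prod Y ≤ L := by
        intro d hd hs
        obtain ⟨s, e, rfl⟩ := List.exists_cons_of_length_eq_add_one hd
        have he := ih e (by simpa using hd) fun t ht => hs t (List.mem_cons_of_mem _ ht)
        rw [List.prod_cons, cmap_mul]
        rcases hs s List.mem_cons_self with hsM | hsg
        · exact ((cmap_mono he).trans (cmap_eq_iff.mpr (le_normalizer_pCoreOf M hsM)).le).trans hOL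
        · refine ((cmap_mono he).trans (cmap_mono hOL)).trans ?_
          rcases hsg with rfl | rfl
          · exact (cmap_eq_iff.mpr hg).le
          · exact (cmap_eq_iff.mpr (inv_mem hg)).le
      intro d hd hs
      have h1 := hL' d hd hs
      have hrev := hL' ((d.map fun x => x⁻¹).reverse) (by simpa using hd) (by
        intro t ht
        simp only [List.mem_reverse, List.mem_map] at ht
        obtain ⟨s, hs', rfl⟩ := ht
        rcases hs s hs' with h | h
        · exact Or.inl (M.inv_mem h)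
        · rcases h with rfl | rfl
          · exact Or.inr (Or.inr rfl)
          · exact Or.inr (Or.inl (inv_inv g)))
      rw [← List.prod_inv_reverse] at hrev
      have h2 : Y ≤ normalizer ((cmap d.prod Y : Subgroup G) : Set G) := by
        rw [normalizer_cmap]
        conv_lhs => rw [← cmap_cmap_inv d.prod Y]
        exact cmap_mono (hrev.trans hLN)
      rw [← hLC]
      exact le_inf h1 (asym_le_centralizer hasym (h1.trans hLN) h2)
  set D : Subgroup G := closure Gs with hD
  set W : Subgroup G := ⨆ d : D, cmap (d : G) Y with hW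
  have hWO : W ≤ O := iSup_le fun d => by
    have hd : (d : G) ∈ Submonoid.closure Gs := by
      rw [← Subgroup.closure_toSubmonoid_of_finite]
      exact d.2
    obtain ⟨l, hl, hprod⟩ := Submonoid.exists_list_of_mem_closure hd
    rw [← hprod]
    exact hmain _ l rfl hl
  have hDW : D ≤ normalizer (W : Set G) := by
    intro d hd
    refine Layer.mem_normalizer_of_conj_mem fun x hx => ?_
    suffices h : cmap d W ≤ W from h ⟨x, hx, rfl⟩
    rw [hW, cmap, Subgroup.map_iSup]
    refine iSup_le fun e => le_iSup_of_le ⟨d * e, D.mul_mem hd e.2⟩ (le_of_eq ?_)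
    exact (cmap_mul d e Y).symm
  have hW1 : W ≠ ⊥ := fun e => largestOf_ne_bot_of_frakM S hSM hM (le_bot_iff.mp (by
    rw [← e]
    refine le_trans ?_ (le_iSup (fun d : D => cmap (d : G) Y) 1)
    rw [OneMemClass.coe_one, cmap_one]))
  have hgd : g ∈ dagger p M := normalizer_le_dagger hQp hQ S hSM hM ((pCoreOf_isPGroup M).to_le hWO) hW1
    (fun m hm => hDW (subset_closure (Or.inl hm))) (hDW (subset_closure (Or.inr (Or.inl rfl))))
  have hgY : cmap g Y = Y := cmap_eq_iff.mpr (dagger_le_normalizer_largest M hgd)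
  refine cmap_eq_iff.mp ?_
  rw [← hLC, cmap, Subgroup.map_inf _ _ _ (MulAut.conj g).injective]
  show cmap g L ⊓ cmap g (centralizer (Y : Set G)) = _
  rw [← centralizer_cmap, hgY, cmap_eq_iff.mpr hg]

/-- For asymmetric `Y_M` every `p`-group containing `O_p(M)` normalizes it. -/
theorem asym_le_normalizer {Q : Subgroup G} (hQp : IsPGroup p Q) (hQ : Cfsg.IsLarge Q) (S : Sylow p G)
    {M : Subgroup G} (hSM : (S : Subgroup G) ≤ M) (hM : Cfsg.IsInFrakM p M)
    (hasym : ¬ Cfsg.IsSymmetricIn (Cfsg.largestPReducedOf p M))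
    {L : Subgroup G} (hL : IsPGroup p L) (hOL : Cfsg.pCoreOf p M ≤ L) :
    L ≤ normalizer ((Cfsg.pCoreOf p M : Subgroup G) : Set G) := by
  set N := normalizer ((Cfsg.pCoreOf p M : Subgroup G) : Set G) with hN
  by_contra hne
  have hNd : N ≤ dagger p M := normalizer_le_dagger hQp hQ S hSM hM (pCoreOf_isPGroup M)
    (charPSubgroups_iff.mp hM.1).1 (le_normalizer_pCoreOf M)
  have hlt : L ⊓ N < L := lt_of_le_of_ne inf_le_left fun e => hne (e ▸ inf_le_right)
  obtain ⟨u, hu, huD⟩ := SetLike.exists_of_lt (Fusion.lt_inf_normalizer_of_isPGroup hL hlt)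
  exact huD ⟨hu.1, asym_normalizer_le hQp hQ S hSM hM hasym (hL.to_le inf_le_left)
    (le_inf hOL Subgroup.le_normalizer) (inf_le_right.trans hNd) hu.2⟩

end Cfsg.Agent.LocalStructure
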