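import Mathlib
import Cfsg.Prelude.Def_Amalgam
import Cfsg.Agent.Core.PCore
import Cfsg.Agent.LocalStructure.WeaklyClosed

/-!
# The coset graph of two subgroups
-/

set_option autoImplicit false
set_option linter.all false

namespace Cfsg.Agent.LocalStructure

open Subgroup

variable {X : Type*} [Group X] {M₁ M₂ : Subgroup X}

local notation "Γ" => Cfsg.cosetGraph M₁ M₂

theorem adj_iff {a b : Cfsg.CosetVertex M₁ M₂} :
    (Γ).Adj a b ↔ ∃ x : X, (a = Sum.inl (x : X ⧸ M₁) ∧ b = Sum.inr (x : X ⧸ M₂)) ∨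
      (b = Sum.inl (x : X ⧸ M₁) ∧ a = Sum.inr (x : X ⧸ M₂)) := by
  unfold Cfsg.cosetGraph
  rw [SimpleGraph.fromRel_adj]
  constructor
  · rintro ⟨-, ⟨x, hx⟩ | ⟨x, hx⟩⟩
    · exact ⟨x, Or.inl hx⟩
    · exact ⟨x, Or.inr hx⟩
  · rintro ⟨x, ⟨rfl, rfl⟩ | ⟨rfl, rfl⟩⟩
    · exact ⟨Sum.inl_ne_inr, Or.inl ⟨x, rfl, rfl⟩⟩
    · exact ⟨Sum.inr_ne_inl, Or.inr ⟨x, rfl, rfl⟩⟩

theorem adj_inl_inr (x : X) : (Γ).Adj (Sum.inl (x : X ⧸ M₁)) (Sum.inr (x : X ⧸ M₂)) :=
  adj_iff.mpr ⟨x, Or.inl ⟨rfl, rfl⟩⟩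

theorem smul_inl (g x : X) :
    g • (Sum.inl (x : X ⧸ M₁) : Cfsg.CosetVertex M₁ M₂) = Sum.inl ((g * x : X) : X ⧸ M₁) := rfl

theorem smul_inr (g x : X) :
    g • (Sum.inr (x : X ⧸ M₂) : Cfsg.CosetVertex M₁ M₂) = Sum.inr ((g * x : X) : X ⧸ M₂) := rfl

theorem adj_smul {a b : Cfsg.CosetVertex M₁ M₂} (g : X) (h : (Γ).Adj a b) : (Γ).Adj (g • a) (g • b) := by
  obtain ⟨x, ⟨rfl, rfl⟩ | ⟨rfl, rfl⟩⟩ := adj_iff.mp h
  · exact adj_inl_inr (g * x)
  · exact (adj_inl_inr (g * x)).symm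

theorem stabilizer_inl (x : X) :
    MulAction.stabilizer X (Sum.inl (x : X ⧸ M₁) : Cfsg.CosetVertex M₁ M₂) = cmap x M₁ := by
  ext g
  rw [MulAction.mem_stabilizer_iff, mem_cmap, smul_inl, Sum.inl.injEq, QuotientGroup.eq,
    show (g * x)⁻¹ * x = (x⁻¹ * g * x)⁻¹ by group, inv_mem_iff]

theorem stabilizer_inr (x : X) :
    MulAction.stabilizer X (Sum.inr (x : X ⧸ M₂) : Cfsg.CosetVertex M₁ M₂) = cmap x M₂ := by
  ext g
  rw [MulAction.mem_stabilizer_iff, mem_cmap, smul_inr, Sum.inr.injEq, QuotientGroup.eq,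
    show (g * x)⁻¹ * x = (x⁻¹ * g * x)⁻¹ by group, inv_mem_iff]

theorem edgeStabilizer_base (x : X) :
    Cfsg.edgeStabilizer (Sum.inl (x : X ⧸ M₁) : Cfsg.CosetVertex M₁ M₂) (Sum.inr (x : X ⧸ M₂)) =
      cmap x (M₁ ⊓ M₂) := by
  show _ ⊓ _ = _
  rw [stabilizer_inl, stabilizer_inr]
  exact (Subgroup.map_inf _ _ _ (MulAut.conj x).injective).symm

/-- The stabilizer of a vertex permutes its neighbours transitively. -/
theorem exists_stabilizer_smul_eq {δ μ μ' : Cfsg.CosetVertex M₁ M₂} (h : (Γ).Adj δ μ) (h' : (Γ).Adj δ μ') :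
    ∃ g ∈ MulAction.stabilizer X δ, g • μ = μ' := by
  obtain ⟨x, ⟨rfl, rfl⟩ | ⟨rfl, rfl⟩⟩ := adj_iff.mp h <;>
    obtain ⟨y, ⟨hy, rfl⟩ | ⟨rfl, hy⟩⟩ := adj_iff.mp h' <;> try cases hy
  · refine ⟨y * x⁻¹, ?_, ?_⟩
    · rw [MulAction.mem_stabilizer_iff, smul_inl, inv_mul_cancel_right]
      exact hy.symm
    · rw [smul_inr, inv_mul_cancel_right]
  · refine ⟨y * x⁻¹, ?_, ?_⟩
    · rw [MulAction.mem_stabilizer_iff, smul_inr, inv_mul_cancel_right]
      exact hy.symm
    · rw [smul_inl, inv_mul_cancel_right]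

theorem connected_of_sup_eq_top (hgen : M₁ ⊔ M₂ = ⊤) : (Γ).Connected := by
  let o : Cfsg.CosetVertex M₁ M₂ := Sum.inl ((1 : X) : X ⧸ M₁)
  have hmap : ∀ (g : X) {a b : Cfsg.CosetVertex M₁ M₂}, (Γ).Reachable a b → (Γ).Reachable (g • a) (g • b) :=
    fun g a b h => h.map (G' := Γ) ⟨fun v => g • v, fun h => adj_smul g h⟩
  have h1 : ∀ m : X, m ∈ M₁ ∨ m ∈ M₂ → (Γ).Reachable o (Sum.inl (m : X ⧸ M₁)) := by
    rintro m (hm | hm)
    · rw [show ((m : X) : X ⧸ M₁) = ((1 : X) : X ⧸ M₁) from QuotientGroup.eq.mpr (by simpa using M₁.inv_mem hm)]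
    · refine (adj_inl_inr (M₁ := M₁) (M₂ := M₂) 1).reachable.trans ?_
      rw [show ((1 : X) : X ⧸ M₂) = ((m : X) : X ⧸ M₂) from QuotientGroup.eq.mpr (by simpa using hm)]
      exact (adj_inl_inr m).symm.reachable
  have h2 : ∀ g : X, (Γ).Reachable o (Sum.inl (g : X ⧸ M₁)) := by
    intro g
    have hg : g ∈ closure ((M₁ : Set X) ∪ M₂) := by rw [Subgroup.closure_union, Subgroup.closure_eq, Subgroup.closure_eq, hgen]; trivial
    induction hg using Subgroup.closure_induction with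
    | mem m hm => exact h1 m hm
    | one => exact .refl _
    | mul a b _ _ ha hb =>
      refine ha.trans ?_
      have := hmap a hb
      rwa [show a • o = Sum.inl ((a : X) : X ⧸ M₁) by show Sum.inl _ = _; simp] at this
    | inv a _ ha =>
      have := (hmap a⁻¹ ha).symm
      rwa [smul_inl, inv_mul_cancel, show a⁻¹ • o = Sum.inl ((a⁻¹ : X) : X ⧸ M₁) by show Sum.inl _ = _; simp] at this
  have h3 : ∀ v : Cfsg.CosetVertex M₁ M₂, (Γ).Reachable o v := by
    rintro (v | v) <;> induction v using QuotientGroup.induction_on with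
    | H g =>
      first
      | exact h2 g
      | exact (h2 g).trans (adj_inl_inr g).reachable
  exact (SimpleGraph.connected_iff _).mpr ⟨fun a b => (h3 a).symm.trans (h3 b), ⟨o⟩⟩

theorem toPermHom_injective (h : ∀ N : Subgroup X, N ≤ M₁ ⊓ M₂ → N.Normal → N = ⊥) :
    Function.Injective (MulAction.toPermHom X (Cfsg.CosetVertex M₁ M₂)) := by
  rw [← MonoidHom.ker_eq_bot_iff]
  refine h _ (fun g hg => ?_) inferInstance
  have hg' : ∀ v : Cfsg.CosetVertex M₁ M₂, g • v = v := fun v => by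
    simpa using Equiv.ext_iff.mp hg v
  have h1 : g ∈ cmap (1 : X) M₁ := by
    rw [← stabilizer_inl (M₂ := M₂)]; exact hg' _
  have h2 : g ∈ cmap (1 : X) M₂ := by
    rw [← stabilizer_inr (M₁ := M₁)]; exact hg' _
  rw [cmap_one] at h1 h2
  exact ⟨h1, h2⟩

theorem eq_bot_of_fixes (h : ∀ N : Subgroup X, N ≤ M₁ ⊓ M₂ → N.Normal → N = ⊥) {T : Subgroup X}
    (hT : ∀ (v : Cfsg.CosetVertex M₁ M₂), T ≤ MulAction.stabilizer X v) : T = ⊥ := by
  refine eq_bot_iff.mpr fun t ht => Subgroup.mem_bot.mpr (toPermHom_injective h ?_)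
  rw [map_one]
  exact Equiv.ext fun v => by simpa using hT v ht

theorem edgeStabilizer_conj {δ μ : Cfsg.CosetVertex M₁ M₂} (h : (Γ).Adj δ μ) :
    ∃ x : X, Cfsg.edgeStabilizer δ μ = cmap x (M₁ ⊓ M₂) ∧
      (MulAction.stabilizer X δ = cmap x M₁ ∨ MulAction.stabilizer X δ = cmap x M₂) := by
  obtain ⟨x, ⟨rfl, rfl⟩ | ⟨rfl, rfl⟩⟩ := adj_iff.mp h
  · exact ⟨x, edgeStabilizer_base x, Or.inl (stabilizer_inl x)⟩
  · refine ⟨x, ?_, Or.inr (stabilizer_inr x)⟩
    rw [← edgeStabilizer_base x]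
    exact inf_comm _ _

theorem exists_adj (δ : Cfsg.CosetVertex M₁ M₂) : ∃ μ, (Γ).Adj δ μ := by
  rcases δ with v | v <;> induction v using QuotientGroup.induction_on with
  | H g =>
    first
    | exact ⟨_, adj_inl_inr g⟩
    | exact ⟨_, (adj_inl_inr g).symm⟩

theorem normalP_le_of_not_dvd_index {H : Type*} [Group H] [Finite H] {p : ℕ} [Fact p.Prime] {N K : Subgroup H}
    [hN : N.Normal] (hNp : IsPGroup p N) (hK : ¬ p ∣ K.index) : N ≤ K := by
  obtain ⟨P⟩ : Nonempty (Sylow p K) := inferInstance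
  have hi : ¬ p ∣ ((P : Subgroup K).map K.subtype).index := by
    rw [← relIndex_mul_index (map_subtype_le (P : Subgroup K)), relIndex, subgroupOf,
      comap_map_eq_self_of_injective K.subtype_injective]
    exact (Fact.out : p.Prime).not_dvd_mul P.not_dvd_index hK
  exact (hNp.le_sylow_of_normal ((P.isPGroup'.map K.subtype).toSylow hi)).trans (map_subtype_le _)

variable {p : ℕ} [hp : Fact p.Prime]

theorem finite_stabilizer (h : Cfsg.IsCharPAmalgamPair p M₁ M₂) (δ : Cfsg.CosetVertex M₁ M₂) :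
    Finite (MulAction.stabilizer X δ) := by
  obtain ⟨-, hf₁, hf₂, -⟩ := h
  have key : ∀ (x : X) (M : Subgroup X), Finite M → Finite (cmap x M) := fun x M hM =>
    Finite.of_equiv M (Subgroup.equivMapOfInjective M _ (MulAut.conj x).injective).toEquiv
  rcases δ with v | v <;> induction v using QuotientGroup.induction_on with
  | H g =>
    first
    | (rw [stabilizer_inl]; exact key g _ hf₁)
    | (rw [stabilizer_inr]; exact key g _ hf₂)

theorem not_dvd_relIndex_edgeStabilizer (h : Cfsg.IsCharPAmalgamPair p M₁ M₂) {δ μ : Cfsg.CosetVertex M₁ M₂}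
    (hμ : (Γ).Adj δ μ) : ¬ p ∣ (Cfsg.edgeStabilizer δ μ).relIndex (MulAction.stabilizer X δ) := by
  obtain ⟨-, hf₁, hf₂, -, -, hS, -, -⟩ := h
  have hf : Finite (M₁ ⊓ M₂ : Subgroup X) := Finite.of_injective _ (inclusion_injective (inf_le_left : M₁ ⊓ M₂ ≤ M₁))
  obtain ⟨S⟩ : Nonempty (Sylow p (M₁ ⊓ M₂ : Subgroup X)) := inferInstance
  obtain ⟨P₁⟩ : Nonempty (Sylow p M₁) := inferInstance
  obtain ⟨P₂⟩ : Nonempty (Sylow p M₂) := inferInstance
  have key : ∀ M : Subgroup X, Finite M → M₁ ⊓ M₂ ≤ M → (∀ P : Sylow p M, Nat.card S = Nat.card P) →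
      ¬ p ∣ (M₁ ⊓ M₂).relIndex M := by
    intro M hM hle hc hdvd
    obtain ⟨P⟩ : Nonempty (Sylow p M) := inferInstance
    have := hc P
    rw [S.card_eq_multiplicity, P.card_eq_multiplicity] at this
    have e : Nat.card (M₁ ⊓ M₂ : Subgroup X) * (M₁ ⊓ M₂).relIndex M = Nat.card M := by
      rw [relIndex, ← Nat.card_congr (subgroupOfEquivOfLe hle).toEquiv]
      exact Subgroup.card_mul_index _
    have hfac := congrArg (fun n => n.factorization p) e
    simp only [Nat.factorization_mul Nat.card_pos.ne' (left_ne_zero_of_mul (by rw [mul_comm, e]; exact Nat.card_pos.ne')),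
      Finsupp.coe_add, Pi.add_apply] at hfac
    have h0 : ((M₁ ⊓ M₂).relIndex M).factorization p = 0 := by
      have := Nat.pow_right_injective hp.out.two_le this
      omega
    have h1 := hp.out.factorization_pos_of_dvd
      (left_ne_zero_of_mul (by rw [mul_comm, e]; exact Nat.card_pos.ne')) hdvd
    omega
  obtain ⟨x, he, hs | hs⟩ := edgeStabilizer_conj hμ <;> rw [he, hs]
  · rw [relIndex_map_map_of_injective _ _ (MulAut.conj x).injective]
    exact key M₁ hf₁ inf_le_left fun P => (hS S P P₂).1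
  · rw [relIndex_map_map_of_injective _ _ (MulAut.conj x).injective]
    exact key M₂ hf₂ inf_le_right fun P => (hS S P₁ P).2

theorem vertexQ_le_neighbourKernel (h : Cfsg.IsCharPAmalgamPair p M₁ M₂) (δ : Cfsg.CosetVertex M₁ M₂) :
    Cfsg.vertexQ p δ ≤ Cfsg.neighbourKernel δ := by
  have := finite_stabilizer h δ
  refine le_inf (map_subtype_le _) (le_iInf₂ fun μ hμ => ?_)
  have hle : Cfsg.edgeStabilizer δ μ ≤ MulAction.stabilizer X δ := inf_le_left
  refine le_trans ?_ (inf_le_right : Cfsg.edgeStabilizer δ μ ≤ _)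
  show (Cfsg.pCore p (MulAction.stabilizer X δ)).map _ ≤ _
  rw [map_le_iff_le_comap]
  exact normalP_le_of_not_dvd_index Core.pCore_isPGroup (not_dvd_relIndex_edgeStabilizer h hμ)

/-- A Sylow subgroup of an edge stabilizer is one of both vertex stabilizers. -/
theorem exists_sylow_eq_of_edge (h : Cfsg.IsCharPAmalgamPair p M₁ M₂) {δ μ : Cfsg.CosetVertex M₁ M₂}
    (hμ : (Γ).Adj δ μ) (S : Sylow p (Cfsg.edgeStabilizer δ μ)) :
    ∃ P : Sylow p (MulAction.stabilizer X δ), (P : Subgroup (MulAction.stabilizer X δ)).map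
      (MulAction.stabilizer X δ).subtype = (S : Subgroup (Cfsg.edgeStabilizer δ μ)).map (Cfsg.edgeStabilizer δ μ).subtype := by
  have := finite_stabilizer h δ
  have hle : Cfsg.edgeStabilizer δ μ ≤ MulAction.stabilizer X δ := inf_le_left
  have : Finite (Cfsg.edgeStabilizer δ μ) := Finite.of_injective _ (inclusion_injective hle)
  suffices ∀ (E : Subgroup X) (S : Sylow p E), E ≤ MulAction.stabilizer X δ → ¬ p ∣ E.relIndex (MulAction.stabilizer X δ) →
      ∃ P : Sylow p (MulAction.stabilizer X δ), (P : Subgroup (MulAction.stabilizer X δ)).map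
        (MulAction.stabilizer X δ).subtype = (S : Subgroup E).map E.subtype from
    this _ S hle (not_dvd_relIndex_edgeStabilizer h hμ)
  intro E S hle hi'
  have : Finite E := Finite.of_injective _ (inclusion_injective hle)
  set S₀ := (S : Subgroup E).map E.subtype
  have hS₀ : S₀ ≤ E := map_subtype_le _
  have hi : ¬ p ∣ (S₀.subgroupOf (MulAction.stabilizer X δ)).index := by
    show ¬ p ∣ S₀.relIndex _
    rw [← relIndex_mul_relIndex _ _ _ hS₀ hle, relIndex, subgroupOf,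
      comap_map_eq_self_of_injective E.subtype_injective]
    exact hp.out.not_dvd_mul S.not_dvd_index hi'
  refine ⟨((S.isPGroup'.map E.subtype).comap_subtype).toSylow hi, ?_⟩
  show (S₀.subgroupOf _).map _ = _
  rw [subgroupOf_map_subtype, inf_eq_left.mpr (hS₀.trans hle)]

end Cfsg.Agent.LocalStructure
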