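import Mathlib
import Cfsg.Prelude.Def_CaseTheorems
import Cfsg.Agent.LocalStructure.SL23Iso
import Cfsg.Agent.LocalStructure.WeaklyClosed
import Cfsg.Agent.LocalStructure.PResidual
import Cfsg.Agent.Invol.QuatD
import Cfsg.Agent.Invol.ZStar
import Cfsg.Agent.Core.Fitting

/-!
# Solvable groups with a dihedral or semidihedral Sylow 2-subgroup of central type
-/

set_option autoImplicit false
set_option linter.all false

namespace Cfsg.Agent.LocalStructure

open Subgroup
open scoped commutatorElement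

variable {G : Type*} [Group G] [Finite G]

/-- A cyclic subgroup of index two outside which all fourth powers are trivial. -/
def CycTwo (S : Type*) [Group S] : Prop :=
  8 ≤ Nat.card S ∧ ∃ c : S, (zpowers c).index = 2 ∧ ∀ a, a ∉ zpowers c → a ^ 4 = 1

theorem cycTwo_of_equiv {S S' : Type*} [Group S] [Group S'] (e : S ≃* S') (h : CycTwo S') : CycTwo S := by
  obtain ⟨h8, c, hi, h4⟩ := h
  have hz : zpowers (e.symm c) = (zpowers c).map e.symm.toMonoidHom := (MonoidHom.map_zpowers e.symm.toMonoidHom c).symm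
  refine ⟨by rwa [Nat.card_congr e.toEquiv], e.symm c, ?_, fun a ha => ?_⟩
  · rw [hz]
    exact (index_map_equiv (zpowers c) e.symm).trans hi
  · refine e.injective ?_
    rw [map_pow, map_one]
    exact h4 _ fun hh => ha (hz ▸ ⟨e a, hh, e.symm_apply_apply a⟩)

theorem cycTwo_dihedral {n : ℕ} (hn : 4 ≤ n) : CycTwo (DihedralGroup n) := by
  haveI : NeZero n := ⟨by omega⟩
  refine ⟨?_, DihedralGroup.r 1, ?_, ?_⟩
  · rw [Nat.card_eq_fintype_card, DihedralGroup.card]; omega
  · have h := Subgroup.card_mul_index (zpowers (DihedralGroup.r 1 : DihedralGroup n))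
    rw [Nat.card_zpowers, DihedralGroup.orderOf_r_one, Nat.card_eq_fintype_card (α := DihedralGroup n),
      DihedralGroup.card, mul_comm 2 n] at h
    exact Nat.eq_of_mul_eq_mul_left (by omega) h
  · rintro (i | i) hi
    · exact absurd (mem_zpowers_iff.mpr ⟨(i.val : ℤ), by rw [zpow_natCast, DihedralGroup.r_one_pow, ZMod.natCast_zmod_val]⟩) hi
    · rw [show (4 : ℕ) = 2 * 2 by rfl, pow_mul, pow_two (DihedralGroup.sr i), DihedralGroup.sr_mul_self, one_pow]

theorem cycTwo_quasiDihedral {S : Type*} [Group S] [Finite S] (h : Cfsg.IsQuasiDihedral S) : CycTwo S := by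
  obtain ⟨n, hn, hcard, x, y, hx, hy, hxy⟩ := h
  have h8 : 2 ^ 4 ≤ 2 ^ (n + 1) := Nat.pow_le_pow_right (by norm_num) (by omega)
  refine ⟨by omega, x, ?_, ?_⟩
  · have h := Subgroup.card_mul_index (zpowers x)
    rw [Nat.card_zpowers, hx, hcard, pow_succ] at h
    exact Nat.eq_of_mul_eq_mul_left (Nat.pow_pos (by norm_num)) h
  have hidx : (zpowers x).index = 2 := by
    have h := Subgroup.card_mul_index (zpowers x)
    rw [Nat.card_zpowers, hx, hcard, pow_succ] at h
    exact Nat.eq_of_mul_eq_mul_left (Nat.pow_pos (by norm_num)) h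
  have h4' : 4 ≤ 2 ^ (n - 1) := by
    calc 4 = 2 ^ 2 := by norm_num
      _ ≤ _ := Nat.pow_le_pow_right (by norm_num) (by omega)
  have hdbl : 2 ^ (n - 1) * 2 = 2 ^ n := by rw [← pow_succ, Nat.sub_add_cancel (by omega)]
  have hyn : y ∉ zpowers x := by
    intro hm
    obtain ⟨i, rfl⟩ := mem_zpowers_iff.mp hm
    rw [((Commute.refl x).zpow_left i).eq, mul_inv_cancel_right] at hxy
    have h1 : x ^ (2 ^ (n - 1) - 2) = 1 := by
      have h2 : x ^ (2 ^ (n - 1) - 2) * x = x := by
        rw [← pow_succ, show 2 ^ (n - 1) - 2 + 1 = 2 ^ (n - 1) - 1 by omega]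
        exact hxy.symm
      exact mul_eq_right.mp h2
    have h3 := Nat.le_of_dvd (by omega) (orderOf_dvd_of_pow_eq_one h1)
    rw [hx] at h3
    omega
  intro a ha
  have hy2 : y * y = 1 := by rw [← pow_two, ← hy, pow_orderOf_eq_one]
  have hmem : y * a ∈ zpowers x := (mul_mem_iff_of_index_two hidx).mpr (iff_of_false hyn ha)
  obtain ⟨i, hi⟩ := mem_zpowers_iff.mp hmem
  have ha' : a = y * x ^ i := by rw [hi, ← mul_assoc, hy2, one_mul]
  have hsq : a * a = (x ^ (2 ^ (n - 1) : ℕ)) ^ i := by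
    have hyi : y⁻¹ = y := inv_eq_of_mul_eq_one_right hy2
    rw [ha', show y * x ^ i * (y * x ^ i) = (y * x ^ i * y⁻¹) * (x ^ i) by rw [hyi]; group, ← conj_zpow, hxy,
      ← ((Commute.refl x).pow_left _).mul_zpow, ← pow_succ, Nat.sub_add_cancel (by omega)]
  rw [show (4 : ℕ) = 2 * 2 by rfl, pow_mul, pow_two a, hsq, ← zpow_natCast, ← zpow_mul, mul_comm, zpow_mul,
    zpow_natCast, ← pow_mul, hdbl, ← hx, pow_orderOf_eq_one, one_zpow]

/-- An element of odd order centralizing a subgroup of index two in a 2-group centralizes the group. -/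
theorem centralizes_of_index_two {x : G} {P P₁ : Subgroup G} (hP : IsPGroup 2 P) (hx : (orderOf x).Coprime 2)
    (hxP : x ∈ normalizer (P : Set G)) (hxN : x ∈ normalizer (P₁ : Set G))
    (hx1 : x ∈ centralizer (P₁ : Set G)) (hP1 : P₁ ≤ P)
    (hidx : ∀ a ∈ P, ∀ b ∈ P, a ∉ P₁ → b ∉ P₁ → a * b ∈ P₁) : x ∈ centralizer (P : Set G) := by
  haveI := Fact.mk Nat.prime_two
  refine commute_of_double_commutator hP hxP hx fun v hv => ?_
  have h1 : x * v * x⁻¹ * v⁻¹ ∈ P₁ := by
    by_cases hv1 : v ∈ P₁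
    · exact mul_mem ((mem_normalizer_iff.mp hxN v).mp hv1) (inv_mem hv1)
    · exact hidx _ ((mem_normalizer_iff.mp hxP v).mp hv) _ (inv_mem hv)
        (fun h => hv1 ((mem_normalizer_iff.mp hxN v).mpr h)) (fun h => hv1 (inv_mem_iff.mp h))
  rw [← commutatorElement_def] at h1
  exact (mem_centralizer_iff.mp hx1 _ h1).symm

variable (T : Sylow 2 G)

/-- The Fitting subgroup is a quaternion group acted on by an element of order three. -/
theorem exists_quaternion_core (hsol : Group.IsSolvable G) (hO : Cfsg.oddCore G = ⊥)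
    (hT : CycTwo ↥(T : Subgroup G)) (hne : (T : Subgroup G) ≠ ⊤)
    (hZ : ((T : Subgroup G) ⊓ centralizer ((T : Subgroup G) : Set G)).Normal) :
    ∃ i j x : G, BTRel i j x ∧ orderOf i = 4 ∧ orderOf j = 4 ∧ orderOf x = 3 ∧ j ∉ zpowers i ∧
      i * j ∉ zpowers i ∧ i * j ∉ zpowers j ∧ orderOf (i * j) = 4 ∧
      (∀ v, v ∈ Cfsg.pCore 2 G ↔ v ∈ zpowers i ∨ v * j⁻¹ ∈ zpowers i) ∧
      centralizer (Cfsg.pCore 2 G : Set G) ≤ Cfsg.pCore 2 G := by
  classical
  haveI := Fact.mk Nat.prime_two
  set P := Cfsg.pCore 2 G with hP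
  have hPp : IsPGroup 2 P := Core.pCore_isPGroup
  have hcent : centralizer (P : Set G) ≤ P := by
    have h1 := Core.centralizer_fittingSubgroup_le (G := G)
    have h2 : Cfsg.fittingSubgroup G = P := by
      refine le_antisymm ?_ (Core.pCore_le_fittingSubgroup 2)
      rw [Core.fittingSubgroup_eq_iSup_pCore]
      refine iSup_le fun q => ?_
      have := Fact.mk q.2
      rcases eq_or_ne (q : ℕ) 2 with hq | hq
      · rw [hq]
      · obtain ⟨j, hj⟩ := IsPGroup.iff_card.1 (Core.pCore_isPGroup (p := (q : ℕ)) (G := G))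
        have hodd : Odd (Nat.card (Cfsg.pCore (q : ℕ) G)) := by
          rw [hj]; exact (q.2.odd_of_ne_two hq).pow
        rw [Invol.eq_bot_of_odd hO (Cfsg.pCore (q : ℕ) G) (Nat.two_dvd_ne_zero.2 (Nat.odd_iff.1 hodd))]
        exact bot_le
    rwa [h2] at h1
  -- the cyclic subgroup
  obtain ⟨h8, ⟨c, hcT⟩, hci, hc4⟩ := hT
  set C : Subgroup G := zpowers c with hC
  have hmemC : ∀ {a : G} (ha : a ∈ (T : Subgroup G)), (⟨a, ha⟩ : (T : Subgroup G)) ∈ zpowers (⟨c, hcT⟩ : (T : Subgroup G)) ↔ a ∈ C := by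
    intro a ha
    simp only [hC, mem_zpowers_iff, Subtype.ext_iff, SubgroupClass.coe_zpow]
  have hidxT : ∀ a ∈ (T : Subgroup G), ∀ b ∈ (T : Subgroup G), a ∉ C → b ∉ C → a * b ∈ C := by
    intro a ha b hb hac hbc
    exact (hmemC (mul_mem ha hb)).mp ((mul_mem_iff_of_index_two hci (a := ⟨a, ha⟩) (b := ⟨b, hb⟩)).mpr
      (iff_of_false (mt (hmemC ha).mp hac) (mt (hmemC hb).mp hbc)))
  have hout : ∀ a ∈ (T : Subgroup G), a ∉ C → a ^ 4 = 1 := fun a ha hac =>
    congrArg Subtype.val (hc4 ⟨a, ha⟩ (mt (hmemC ha).mp hac))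
  have hPT : P ≤ (T : Subgroup G) := Core.pCore_le_sylow T
  set P₀ := P ⊓ C with hP0
  have hidxP : ∀ a ∈ P, ∀ b ∈ P, a ∉ P₀ → b ∉ P₀ → a * b ∈ P₀ := fun a ha b hb hac hbc =>
    ⟨mul_mem ha hb, hidxT a (hPT ha) b (hPT hb) (fun h => hac ⟨ha, h⟩) (fun h => hbc ⟨hb, h⟩)⟩
  -- an element of odd prime order
  obtain ⟨r, hr, hr2, x, hx⟩ : ∃ r : ℕ, r.Prime ∧ r ≠ 2 ∧ ∃ x : G, orderOf x = r := by
    have hne' : ¬ IsPGroup 2 G := fun h => hne (T.3 (h.to_subgroup ⊤) le_top).symm
    by_contra hcon
    push Not at hcon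
    refine hne' (IsPGroup.of_card (n := (Nat.card G).primeFactorsList.length) ?_)
    refine Nat.eq_prime_pow_of_unique_prime_dvd Nat.card_pos.ne' fun {q} hq hqd => ?_
    by_contra hq2
    haveI := Fact.mk hq
    obtain ⟨x, hx⟩ := exists_prime_orderOf_dvd_card' (G := G) q hqd
    exact hcon q hq hq2 x hx
  have hodd : (orderOf x).Coprime 2 := by rw [hx]; exact (Nat.coprime_primes hr Nat.prime_two).mpr hr2
  have hx1 : x ≠ 1 := fun e => hr.ne_one (by rw [← hx, e, orderOf_one])
  have hPnormal : ∀ g : G, g ∈ normalizer (P : Set G) := fun g => by rw [normalizer_eq_top (H := P)]; exact mem_top g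
  have hxc : x ∉ centralizer (P : Set G) := by
    intro h
    obtain ⟨k, hk⟩ := IsPGroup.iff_orderOf.mp hPp ⟨x, hcent h⟩
    rw [Subgroup.orderOf_mk] at hk
    rw [hk] at hodd
    rcases k with _ | k
    · exact hx1 (orderOf_eq_one_iff.mp (hk.trans (pow_zero 2)))
    · exact absurd ((Nat.coprime_pow_left_iff (Nat.succ_pos k) 2 2).mp hodd) (by norm_num)
  have hcyc : ∀ Q : Subgroup G, IsPGroup 2 Q → IsCyclic Q → x ∈ normalizer (Q : Set G) → x ∈ centralizer (Q : Set G) := by
    intro Q hQ hQc hxQ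
    refine HSub.centralizes_cyclic (p := 2) (Invol.good_two ?_) hQ hQc hxQ
    rw [← Nat.prime_two.coprime_iff_not_dvd]
    exact hodd.symm
  haveI hP0c : IsCyclic P₀ :=
    isCyclic_of_injective (inclusion (inf_le_right : P₀ ≤ C)) (inclusion_injective _)
  have hxP0 : x ∉ normalizer (P₀ : Set G) := fun h =>
    hxc (centralizes_of_index_two hPp hodd (hPnormal x) h (hcyc P₀ (hPp.to_le inf_le_left) hP0c h) inf_le_left hidxP)
  -- the first conjugate
  obtain ⟨i, hi⟩ : ∃ i : G, zpowers i = P₀ := by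
    obtain ⟨g, hg⟩ := IsCyclic.exists_generator (α := P₀)
    refine ⟨g, le_antisymm (zpowers_le.mpr g.2) fun v hv => ?_⟩
    obtain ⟨k, hk⟩ := mem_zpowers_iff.mp (hg ⟨v, hv⟩)
    exact mem_zpowers_iff.mpr ⟨k, congrArg Subtype.val hk⟩
  have hiP0 : i ∈ P₀ := hi ▸ mem_zpowers i
  set j := x * i * x⁻¹ with hj
  have hjP : j ∈ P := (mem_normalizer_iff.mp (hPnormal x) i).mp hiP0.1
  have hji' : orderOf j = orderOf i := orderOf_conj x i
  have hjn : j ∉ P₀ := by
    intro h
    refine hxP0 ?_
    rw [← hi]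
    refine mem_normalizer_iff_map_conj_eq.mpr (eq_of_le_of_card_ge ?_ (card_map_of_injective (MulAut.conj x).injective).ge)
    rw [MonoidHom.map_zpowers, zpowers_le]
    show j ∈ zpowers i
    rwa [hi]
  have hj4 : j ^ 4 = 1 := hout j (hPT hjP) fun h => hjn ⟨hjP, h⟩
  have hsplit : ∀ v ∈ P, v ∈ zpowers i ∨ v * j⁻¹ ∈ zpowers i := by
    intro v hv
    rw [hi]
    by_cases h : v ∈ P₀
    · exact Or.inl h
    · exact Or.inr (hidxP v hv j⁻¹ (inv_mem hjP) h fun hh => hjn (inv_mem_iff.mp hh))
  have hord : orderOf i ∣ 4 := hji' ▸ orderOf_dvd_of_pow_eq_one hj4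
  have hi4 : orderOf i = 4 := by
    by_contra hne4
    have h2 : orderOf i ∣ 2 := by
      have : orderOf i ∈ Nat.divisors 4 := Nat.mem_divisors.mpr ⟨hord, by norm_num⟩
      rw [show Nat.divisors 4 = {1, 2, 4} by rfl] at this
      simp at this
      rcases this with h | h | h
      · rw [h]; norm_num
      · rw [h]
      · exact absurd h hne4
    -- `P` has order at most four
    have hP4 : (P : Set G).ncard ≤ 4 := by
      have hsub : (P : Set G) ⊆ (zpowers i : Set G) ∪ (fun v => v * j) '' (zpowers i : Set G) := by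
        intro v hv
        rcases hsplit v hv with h | h
        · exact Or.inl h
        · exact Or.inr ⟨v * j⁻¹, h, by simp⟩
      refine (Set.ncard_le_ncard hsub (Set.toFinite _)).trans ((Set.ncard_union_le _ _).trans ?_)
      have h3 : (zpowers i : Set G).ncard ≤ 2 := by
        rw [← Nat.card_coe_set_eq]
        exact (Nat.card_zpowers i).le.trans (Nat.le_of_dvd (by norm_num) h2)
      have := Set.ncard_image_le (f := fun v => v * j) (s := (zpowers i : Set G)) (Set.toFinite _)
      omega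
    set Z := (T : Subgroup G) ⊓ centralizer ((T : Subgroup G) : Set G) with hZdef
    have hZP : Z ≤ P := Core.le_pCore (hN := hZ) (T.isPGroup'.to_le inf_le_left)
    by_cases hZe : P ≤ Z
    · have hTP : (T : Subgroup G) ≤ P := (le_centralizer_iff.mp (hZe.trans inf_le_right)).trans hcent
      have : (((T : Subgroup G) : Set G)).ncard ≤ 4 := (Set.ncard_le_ncard hTP (Set.toFinite _)).trans hP4
      rw [← Nat.card_coe_set_eq] at this
      exact absurd (h8.trans this) (by norm_num)
    · -- `Z` is a central subgroup of index two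
      have hZ1 : Z ≠ ⊥ := by
        have : Nontrivial (T : Subgroup G) := Finite.one_lt_card_iff_nontrivial.mp (by omega)
        have hc := T.isPGroup'.center_nontrivial
        intro hb
        obtain ⟨⟨z, hz⟩, hz1⟩ := exists_ne (1 : center (T : Subgroup G))
        have : (z : G) ∈ Z := ⟨z.2, mem_centralizer_iff.mpr fun g hg => congrArg Subtype.val (mem_center_iff.mp hz ⟨g, hg⟩)⟩
        rw [hb, mem_bot] at this
        exact hz1 (Subtype.ext (Subtype.ext this))
      have hcardZ : Nat.card Z = 2 ∧ Nat.card P = 4 := by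
        obtain ⟨a, ha⟩ := IsPGroup.iff_card.mp (hPp.to_le hZP)
        obtain ⟨b, hb⟩ := IsPGroup.iff_card.mp hPp
        have h1 : 1 < Nat.card Z := (one_lt_card_iff_ne_bot _).mpr hZ1
        have h2' : Nat.card Z < Nat.card P := by
          refine lt_of_le_of_ne (card_le_of_le hZP) fun e => hZe ?_
          exact (eq_of_le_of_card_ge hZP e.ge).ge
        have h3 : Nat.card P ≤ 4 := by rw [← Nat.card_coe_set_eq] at hP4; exact hP4
        rw [ha, hb] at h2'
        rw [ha] at h1 ⊢
        rw [hb] at h3 ⊢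
        have hab : a < b := (Nat.pow_lt_pow_iff_right (by norm_num)).mp h2'
        have hb2 : b ≤ 2 := (Nat.pow_le_pow_iff_right (a := 2) (by norm_num)).mp h3
        rcases a with _ | _ | a
        · simp at h1
        · have : b = 2 := by omega
          subst this
          norm_num
        · omega
      haveI : IsCyclic Z := isCyclic_of_prime_card (p := 2) hcardZ.1
      have hxZ : x ∈ normalizer (Z : Set G) := by rw [normalizer_eq_top (H := Z)]; exact mem_top x
      refine hxc (centralizes_of_index_two hPp hodd (hPnormal x) hxZ (hcyc Z (hPp.to_le hZP) inferInstance hxZ) hZP ?_)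
      have hidx : (Z.subgroupOf P).index = 2 := by
        have h := Subgroup.card_mul_index (Z.subgroupOf P)
        rw [Nat.card_congr (subgroupOfEquivOfLe hZP).toEquiv, hcardZ.1, hcardZ.2] at h
        omega
      intro a ha b hb hna hnb
      exact (mul_mem_iff_of_index_two hidx (a := ⟨a, ha⟩) (b := ⟨b, hb⟩)).mpr (iff_of_false hna hnb)
  have hj4' : orderOf j = 4 := hji'.trans hi4
  have hipow : i ^ 4 = 1 := hi4 ▸ pow_orderOf_eq_one i
  -- elements of `zpowers i`
  have hzi : ∀ v ∈ zpowers i, v = 1 ∨ v = i ∨ v = i ^ 2 ∨ v = i ^ 3 := by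
    intro v hv
    rw [← SetLike.mem_coe, ← IsOfFinOrder.powers_eq_zpowers (isOfFinOrder_of_finite i)] at hv
    obtain ⟨k, rfl⟩ := hv
    show i ^ k = 1 ∨ i ^ k = i ∨ i ^ k = i ^ 2 ∨ i ^ k = i ^ 3
    rw [pow_eq_pow_mod k hipow]
    have : k % 4 < 4 := Nat.mod_lt _ (by norm_num)
    interval_cases k % 4 <;> simp
  have hnot1 : i ^ 2 ≠ 1 := fun h => by
    have := orderOf_dvd_of_pow_eq_one h
    rw [hi4] at this; norm_num at this
  have hjsq : j * j = i * i := by
    have h1 : j * j ∈ zpowers i := by rw [hi]; exact hidxP j hjP j hjP hjn hjn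
    have h2 : (j * j) ^ 2 = 1 := by rw [← pow_two, ← pow_mul]; exact hj4
    have h3 : j * j ≠ 1 := fun h => by
      have := orderOf_dvd_of_pow_eq_one ((pow_two j).trans h)
      rw [hj4'] at this; norm_num at this
    rcases hzi _ h1 with h | h | h | h
    · exact absurd h h3
    · rw [h] at h2; exact absurd h2 hnot1
    · rw [h, pow_two]
    · rw [h, ← pow_mul, pow_eq_pow_mod _ hipow] at h2
      exact absurd h2 hnot1
  have hjinP : ∀ v ∈ zpowers i, v * j ∈ P := fun v hv => mul_mem (hi.le hv).1 hjP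
  have hjnot : ∀ v ∈ zpowers i, v * j ∉ zpowers i := fun v hv h => hjn (hi ▸ (mul_mem_cancel_left hv).mp h)
  -- conjugation of `i` by `j`
  have hji : j * i = i ^ 3 * j := by
    have h1 : j * i * j⁻¹ ∈ zpowers i := by
      rw [hi]
      refine hidxP (j * i) (mul_mem hjP hiP0.1) j⁻¹ (inv_mem hjP) (fun h => hjn ?_) (fun h => hjn (inv_mem_iff.mp h))
      exact (mul_mem_cancel_right hiP0).mp h
    have h2 : orderOf (j * i * j⁻¹) = 4 := (orderOf_conj j i).trans hi4
    rcases hzi _ h1 with h | h | h | h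
    · rw [h, orderOf_one] at h2; norm_num at h2
    · exfalso
      -- abelian: `x j x⁻¹` would have order four
      have hc : Commute i j := (mul_inv_eq_iff_eq_mul.mp h).symm
      set k := x * j * x⁻¹ with hk
      have hk4 : orderOf k = 4 := (orderOf_conj x j).trans hj4'
      have hkP : k ∈ P := (mem_normalizer_iff.mp (hPnormal x) j).mp hjP
      have hk1 : k ∉ zpowers i := by
        intro hki
        -- then `x²` normalizes `zpowers i`, hence so does `x`
        have h5 : x ^ 2 ∈ normalizer ((zpowers i : Subgroup G) : Set G) := by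
          refine mem_normalizer_iff_map_conj_eq.mpr (eq_of_le_of_card_ge ?_ (card_map_of_injective (MulAut.conj (x ^ 2)).injective).ge)
          rw [MonoidHom.map_zpowers, zpowers_le]
          show x ^ 2 * i * (x ^ 2)⁻¹ ∈ zpowers i
          rw [show x ^ 2 * i * (x ^ 2)⁻¹ = k by rw [hk, hj, pow_two]; group]
          exact hki
        obtain ⟨m, hm⟩ := exists_pow_eq_self_of_coprime (x := x) hodd.symm
        refine hxP0 ?_
        rw [← hi, ← hm]
        exact pow_mem h5 m
      rcases hsplit k hkP with hh | hh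
      · exact hk1 hh
      · rcases hzi _ hh with e | e | e | e <;> rw [mul_inv_eq_iff_eq_mul] at e
        · rw [one_mul] at e
          -- `x` fixes `j`
          refine hjn ?_
          have e1 : Commute x j := mul_inv_eq_iff_eq_mul.mp e
          have e2 : j = i := by
            have := congrArg (fun u => x⁻¹ * u * x) e1.eq.symm
            calc j = x⁻¹ * (x * j) := by group
              _ = x⁻¹ * (j * x) := by rw [e1.eq]
              _ = i := by rw [hj]; group
          rw [e2]; exact hiP0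
        · have : k ^ 2 = 1 := by
            rw [e, hc.mul_pow, pow_two j, hjsq, ← pow_two, ← pow_add]; exact hipow
          have := orderOf_dvd_of_pow_eq_one this
          rw [hk4] at this; norm_num at this
        · -- `k = j⁻¹`
          refine hjn ?_
          have e1 : x * j * x⁻¹ = j⁻¹ := by
            rw [← hk, e, pow_two, ← hjsq, eq_inv_iff_mul_eq_one, mul_assoc, mul_assoc]
            calc j * (j * (j * j)) = j ^ 4 := by rw [show (4 : ℕ) = 2 + 2 by rfl, pow_add, pow_two]; group
              _ = 1 := hj4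
          have e2 : j = i⁻¹ := by
            calc j = x⁻¹ * (x * j * x⁻¹) * x := by group
              _ = x⁻¹ * j⁻¹ * x := by rw [e1]
              _ = i⁻¹ := by rw [hj]; group
          rw [e2]; exact inv_mem hiP0
        · have : k ^ 2 = 1 := by
            rw [e, (hc.pow_left 3).mul_pow, pow_two j, hjsq, ← pow_two, ← pow_mul, ← pow_add]
            rw [pow_eq_pow_mod _ hipow]; norm_num
          have := orderOf_dvd_of_pow_eq_one this
          rw [hk4] at this; norm_num at this
    · rw [h] at h2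
      have := orderOf_dvd_of_pow_eq_one (show (i ^ 2) ^ 2 = 1 by rw [← pow_mul]; exact hipow)
      rw [h2] at this; norm_num at this
    · exact mul_inv_eq_iff_eq_mul.mp h
  have hij : i * j = j * i ^ 3 := by
    have h1 : j * i ^ 3 * j⁻¹ = (j * i * j⁻¹) ^ 3 := (conj_pow ..).symm
    rw [hji, mul_inv_cancel_right, ← pow_mul, pow_eq_pow_mod _ hipow] at h1
    norm_num at h1
    have h9 : i ^ 9 = i := by rw [pow_eq_pow_mod 9 hipow]; norm_num
    have h := (mul_inv_eq_iff_eq_mul.mp h1).symm
    rwa [h9] at h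
  have hijn : i * j ∉ zpowers i := hjnot i (mem_zpowers i)
  have hij2 : i * j * (i * j) = i * i := by
    calc i * j * (i * j) = i * (j * i) * j := by group
      _ = i * (i ^ 3 * j) * j := by rw [hji]
      _ = i ^ 4 * (j * j) := by rw [pow_succ' i 3]; group
      _ = i * i := by rw [hipow, one_mul, hjsq]
  have hord4 : orderOf (i * j) = 4 := by
    refine orderOf_eq_prime_pow (p := 2) (n := 1) ?_ ?_
    · rw [pow_one, pow_two, hij2, ← pow_two]; exact hnot1
    · rw [show (2 : ℕ) ^ (1 + 1) = 2 * 2 by norm_num, pow_mul, pow_two (i * j), hij2, ← pow_two i, ← pow_mul]; exact hipow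
  have hzj : ∀ v ∈ zpowers j, v = 1 ∨ v = j ∨ v = j * j ∨ v = j * j * j := by
    intro v hv
    rw [← SetLike.mem_coe, ← IsOfFinOrder.powers_eq_zpowers (isOfFinOrder_of_finite j)] at hv
    obtain ⟨k, rfl⟩ := hv
    show j ^ k = 1 ∨ j ^ k = j ∨ j ^ k = j * j ∨ j ^ k = j * j * j
    rw [pow_eq_pow_mod k hj4]
    have : k % 4 < 4 := Nat.mod_lt _ (by norm_num)
    interval_cases k % 4 <;> simp [pow_succ]
  have hijj : i * j ∉ zpowers j := by
    intro h
    have h1 : i ∈ zpowers j := (mul_mem_cancel_right (mem_zpowers j)).mp h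
    rcases hzj _ h1 with e | e | e | e
    · rw [e] at hi4; simp at hi4
    · exact hjn (by rw [← e]; exact hiP0)
    · rw [hjsq] at e
      refine hnot1 ?_
      have h1 : i = 1 := mul_eq_left.mp e.symm
      rw [h1, one_pow]
    · refine hjn ?_
      rw [hjsq] at e
      have : j = i⁻¹ := by
        calc j = (i * i)⁻¹ * (i * i * j) := by group
          _ = (i * i)⁻¹ * i := by rw [← e]
          _ = i⁻¹ := by group
      rw [this]; exact inv_mem hiP0
  -- the image of `j` under `x`
  set k := x * j * x⁻¹ with hk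
  have hkP : k ∈ P := (mem_normalizer_iff.mp (hPnormal x) j).mp hjP
  have hk_i : k ∉ zpowers i := by
    intro hki
    have h5 : x ^ 2 ∈ normalizer ((zpowers i : Subgroup G) : Set G) := by
      refine mem_normalizer_iff_map_conj_eq.mpr (eq_of_le_of_card_ge ?_ (card_map_of_injective (MulAut.conj (x ^ 2)).injective).ge)
      rw [MonoidHom.map_zpowers, zpowers_le]
      show x ^ 2 * i * (x ^ 2)⁻¹ ∈ zpowers i
      rw [show x ^ 2 * i * (x ^ 2)⁻¹ = k by rw [hk, hj, pow_two]; group]
      exact hki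
    obtain ⟨m, hm⟩ := exists_pow_eq_self_of_coprime (x := x) hodd.symm
    refine hxP0 ?_
    rw [← hi, ← hm]
    exact pow_mem h5 m
  have hk_j : k ∉ zpowers j := by
    intro hkj
    rcases hzj _ hkj with e | e | e | e
    · have : orderOf k = 4 := (orderOf_conj x j).trans hj4'
      rw [e] at this; simp at this
    · refine hjn ?_
      have e2 : j = i := by
        calc j = x⁻¹ * (x * j * x⁻¹) * x := by group
          _ = x⁻¹ * j * x := by rw [← hk, e]
          _ = i := by rw [hj]; group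
      rw [e2]; exact hiP0
    · have : orderOf k = 4 := (orderOf_conj x j).trans hj4'
      rw [e, hjsq, ← pow_two] at this
      have h2 := orderOf_dvd_of_pow_eq_one (show (i ^ 2) ^ 2 = 1 by rw [← pow_mul]; exact hipow)
      rw [this] at h2; norm_num at h2
    · refine hjn ?_
      have e1 : x * j * x⁻¹ = j⁻¹ := by
        rw [← hk, e, eq_inv_iff_mul_eq_one]
        calc j * j * j * j = j ^ 4 := by simp [pow_succ]
          _ = 1 := hj4
      have e2 : j = i⁻¹ := by
        calc j = x⁻¹ * (x * j * x⁻¹) * x := by group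
          _ = x⁻¹ * j⁻¹ * x := by rw [e1]
          _ = i⁻¹ := by rw [hj]; group
      rw [e2]; exact inv_mem hiP0
  have hcase : k = i * j ∨ k = i ^ 3 * j := by
    rcases hsplit k hkP with h | h
    · exact absurd h hk_i
    rcases hzi _ h with e | e | e | e <;> rw [mul_inv_eq_iff_eq_mul] at e
    · exact absurd (e ▸ (one_mul j).symm ▸ mem_zpowers j) hk_j
    · exact Or.inl e
    · refine absurd ?_ hk_j
      rw [e, pow_two, ← hjsq]
      exact mul_mem (mul_mem (mem_zpowers j) (mem_zpowers j)) (mem_zpowers j)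
    · exact Or.inr e
  -- so `x³` centralizes `P`
  have hx3 : x ^ 3 = 1 := by
    have hxi : x * k * x⁻¹ = i := by
      rcases hcase with e | e
      · calc x * k * x⁻¹ = (x * i * x⁻¹) * (x * j * x⁻¹) := by rw [e]; group
          _ = j * k := by rw [hk, hj]
          _ = j * i * j := by rw [e]; group
          _ = i ^ 3 * (j * j) := by rw [hji]; group
          _ = i := by rw [hjsq, ← pow_two, ← pow_add, pow_eq_pow_mod _ hipow]; norm_num
      · rw [← hji] at e
        calc x * k * x⁻¹ = (x * j * x⁻¹) * (x * i * x⁻¹) := by rw [e]; group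
          _ = k * j := by rw [hk, hj]
          _ = i ^ 3 * (j * j) := by rw [e, hji]; group
          _ = i := by rw [hjsq, ← pow_two, ← pow_add, pow_eq_pow_mod _ hipow]; norm_num
    have h3i : x ^ 3 * i * (x ^ 3)⁻¹ = i := by
      rw [show x ^ 3 * i * (x ^ 3)⁻¹ = x * k * x⁻¹ by rw [hk, hj, pow_succ', pow_two]; group, hxi]
    have h3j : x ^ 3 * j * (x ^ 3)⁻¹ = j := by
      rw [show x ^ 3 * j * (x ^ 3)⁻¹ = x * (x * k * x⁻¹) * x⁻¹ by rw [hk, pow_succ', pow_two]; group, hxi]
    have hc3 : x ^ 3 ∈ P := by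
      refine hcent (mem_centralizer_iff.mpr fun v hv => ?_)
      have hci : Commute i (x ^ 3) := (mul_inv_eq_iff_eq_mul.mp h3i).symm
      have hcj : Commute j (x ^ 3) := (mul_inv_eq_iff_eq_mul.mp h3j).symm
      rcases hsplit v hv with h | h
      · obtain ⟨m, rfl⟩ := mem_zpowers_iff.mp h
        exact hci.zpow_left m
      · obtain ⟨m, hm⟩ := mem_zpowers_iff.mp h
        rw [eq_mul_inv_iff_mul_eq] at hm
        rw [← hm]
        exact (hci.zpow_left m).mul_left hcj
    obtain ⟨m, hm⟩ := IsPGroup.iff_orderOf.mp hPp ⟨_, hc3⟩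
    rw [Subgroup.orderOf_mk] at hm
    have hd : orderOf (x ^ 3) ∣ orderOf x := orderOf_pow_dvd 3
    rw [← orderOf_eq_one_iff]
    exact Nat.eq_one_of_dvd_coprimes (hodd.pow_right m) hd (dvd_of_eq hm)
  have hx3' : orderOf x = 3 := by
    rw [hx]
    exact (Nat.prime_dvd_prime_iff_eq hr Nat.prime_three).mp (hx ▸ orderOf_dvd_of_pow_eq_one hx3)
  have hjn' : j ∉ zpowers i := fun h => hjn (hi ▸ h)
  have hPchar : ∀ v, v ∈ P ↔ v ∈ zpowers i ∨ v * j⁻¹ ∈ zpowers i := by
    refine fun v => ⟨hsplit v, ?_⟩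
    rintro (h | h)
    · exact (hi.le h).1
    · exact (mul_mem_cancel_right (inv_mem hjP)).mp (hi.le h).1
  rcases hcase with e | e
  · refine ⟨i, j, x, ⟨hipow, hjsq, hji, hx3, ?_, ?_⟩, hi4, hj4', hx3', hjn', hijn, hijj, hord4, hPchar, hcent⟩
    · rw [hj, inv_mul_cancel_right]
    · rw [← e, hk, inv_mul_cancel_right]
  · -- replace `x` by its inverse
    set j' := i ^ 3 * j with hj'
    have hy : x⁻¹ = x * x := by
      rw [inv_eq_iff_mul_eq_one, ← hx3, pow_succ, pow_two, mul_assoc]
    have hxk : x * k * x⁻¹ = i := by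
      rw [← hji] at e
      calc x * k * x⁻¹ = (x * j * x⁻¹) * (x * i * x⁻¹) := by rw [e]; group
        _ = k * j := by rw [hk, hj]
        _ = i ^ 3 * (j * j) := by rw [e, hji, hj']; group
        _ = i := by rw [hjsq, ← pow_two, ← pow_add, pow_eq_pow_mod _ hipow]; norm_num
    have hj'sq : j' * j' = i * i := by
      calc j' * j' = i ^ 3 * (j * i ^ 3) * j := by rw [hj']; group
        _ = i ^ 3 * (i * j) * j := by rw [hij]
        _ = i ^ 4 * (j * j) := by rw [pow_succ i 3]; group
        _ = i * i := by rw [hipow, one_mul, hjsq]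
    have hj'i : j' * i = i ^ 3 * j' := by
      calc j' * i = i ^ 3 * (j * i) := by rw [hj']; group
        _ = i ^ 3 * j' := by rw [hji, hj']
    have hij' : i * j' = j := by rw [hj', ← mul_assoc, ← pow_succ', hipow, one_mul]
    have hj'o : orderOf j' = 4 := by
      rw [← e, hk, orderOf_conj]; exact hj4'
    have hj'n : j' ∉ zpowers i := hjnot _ (pow_mem (mem_zpowers i) 3)
    refine ⟨i, j', x⁻¹, ⟨hipow, hj'sq, hj'i, ?_, ?_, ?_⟩, hi4, hj'o, ?_, hj'n, ?_, ?_, ?_, ?_, hcent⟩
    · rw [inv_pow, hx3, inv_one]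
    · rw [← e]
      calc x⁻¹ * i = x⁻¹ * (x * k * x⁻¹) := by rw [hxk]
        _ = k * x⁻¹ := by group
    · rw [hij', ← e, hk]
      group
    · rw [orderOf_inv, hx3']
    · rw [hij']; exact hjn'
    · rw [hij']
      intro h
      obtain ⟨m, hm⟩ := mem_zpowers_iff.mp h
      have h2 : i ∈ zpowers j' := by
        have : i = j * j'⁻¹ := by rw [eq_mul_inv_iff_mul_eq, hij']
        rw [this]; exact mul_mem (mem_zpowers_iff.mpr ⟨m, hm⟩) (inv_mem (mem_zpowers j'))
      have heq : zpowers i = zpowers j' := eq_of_le_of_card_ge (zpowers_le.mpr h2)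
        (by rw [Nat.card_zpowers, Nat.card_zpowers, hi4, hj'o])
      exact hj'n (heq ▸ mem_zpowers j')
    · rw [hij']; exact hj4'
    · intro v
      rw [hPchar v]
      refine or_congr Iff.rfl ?_
      rw [show v * j'⁻¹ = (v * j⁻¹) * (i ^ 3)⁻¹ by rw [hj']; group]
      exact (mul_mem_cancel_right (inv_mem (pow_mem (mem_zpowers i) 3))).symm

end Cfsg.Agent.LocalStructure

namespace Cfsg.Agent.LocalStructure

open Subgroup

variable {G : Type*} [Group G] [Finite G]

/-- The normal `SL(2,3)`. -/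
theorem exists_normal_sl23 (T : Sylow 2 G) (hsol : Group.IsSolvable G) (hO : Cfsg.oddCore G = ⊥)
    (hT : CycTwo ↥(T : Subgroup G)) (hne : (T : Subgroup G) ≠ ⊤)
    (hZ : ((T : Subgroup G) ⊓ centralizer ((T : Subgroup G) : Set G)).Normal) :
    ∃ U : Subgroup G, U.Normal ∧ Nonempty (U ≃* SL23) := by
  classical
  haveI := Fact.mk Nat.prime_two
  obtain ⟨i, j, x, hrel, hi4, hj4, hx3, hjn, hijn, hijj, hk4, hP, hcent⟩ :=
    exists_quaternion_core T hsol hO hT hne hZ
  set P := Cfsg.pCore 2 G with hPdef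
  have hiP : i ∈ P := (hP i).mpr (Or.inl (mem_zpowers i))
  have hjP : j ∈ P := (hP j).mpr (Or.inr (by rw [mul_inv_cancel]; exact one_mem _))
  set A := zpowers i with hA
  set B := zpowers j with hB
  set D := zpowers (i * j) with hD
  have hcA : Nat.card A = 4 := (Nat.card_zpowers i).trans hi4
  have hcB : Nat.card B = 4 := (Nat.card_zpowers j).trans hj4
  have hcD : Nat.card D = 4 := (Nat.card_zpowers (i * j)).trans hk4
  have hAB : A ≠ B := fun h => hjn (h ▸ mem_zpowers j)
  have hAD : A ≠ D := fun h => hijn (h ▸ mem_zpowers (i * j))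
  have hBD : B ≠ D := fun h => hijj (h ▸ mem_zpowers (i * j))
  have hpw : ∀ (u : G), orderOf u = 4 → ∀ v ∈ zpowers u, v = 1 ∨ v = u ∨ v = u ^ 2 ∨ v = u ^ 3 := by
    intro u hu v hv
    rw [← SetLike.mem_coe, ← IsOfFinOrder.powers_eq_zpowers (isOfFinOrder_of_finite u)] at hv
    obtain ⟨n, rfl⟩ := hv
    show u ^ n = 1 ∨ u ^ n = u ∨ u ^ n = u ^ 2 ∨ u ^ n = u ^ 3
    rw [← pow_mod_orderOf, hu]
    have : n % 4 < 4 := Nat.mod_lt _ (by norm_num)
    interval_cases n % 4 <;> simp
  have hcover : ∀ v ∈ P, v ∈ A ∨ v ∈ B ∨ v ∈ D := by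
    intro v hv
    rcases (hP v).mp hv with h | h
    · exact Or.inl h
    rcases hpw i hi4 _ h with e | e | e | e <;> rw [mul_inv_eq_iff_eq_mul] at e
    · rw [e, one_mul]; exact Or.inr (Or.inl (mem_zpowers j))
    · rw [e]; exact Or.inr (Or.inr (mem_zpowers _))
    · refine Or.inr (Or.inl ?_)
      rw [e, pow_two, ← hrel.j2]
      exact mul_mem (mul_mem (mem_zpowers j) (mem_zpowers j)) (mem_zpowers j)
    · refine Or.inr (Or.inr ?_)
      have h3 : i * j * (i * j) * (i * j) = i ^ 3 * j := by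
        calc i * j * (i * j) * (i * j) = i * (j * i) * j * (i * j) := by group
          _ = i * (i ^ 3 * j) * j * (i * j) := by rw [hrel.ji]
          _ = i ^ 4 * (j * j) * (i * j) := by rw [pow_succ' i 3]; group
          _ = i ^ 3 * j := by rw [hrel.i4, one_mul, hrel.j2, pow_succ i 2, pow_two]; group
      rw [e, ← h3]
      exact mul_mem (mul_mem (mem_zpowers _) (mem_zpowers _)) (mem_zpowers _)
  have hperm : ∀ g u : G, u ∈ P → orderOf u = 4 →
      cmap g (zpowers u) = A ∨ cmap g (zpowers u) = B ∨ cmap g (zpowers u) = D := by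
    intro g u hu hu4
    have hv : g * u * g⁻¹ ∈ P := (inferInstance : P.Normal).conj_mem u hu g
    have key : ∀ E : Subgroup G, Nat.card E = 4 → g * u * g⁻¹ ∈ E → cmap g (zpowers u) = E := by
      intro E hE hmem
      refine eq_of_le_of_card_ge ?_ ?_
      · rw [cmap, MonoidHom.map_zpowers, zpowers_le]; exact hmem
      · rw [cmap, card_map_of_injective (MulAut.conj g).injective, Nat.card_zpowers, hu4, hE]
    rcases hcover _ hv with h | h | h
    · exact Or.inl (key A hcA h)
    · exact Or.inr (Or.inl (key B hcB h))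
    · exact Or.inr (Or.inr (key D hcD h))
  -- the kernel of the action
  have hker : ∀ g : G, cmap g A = A → cmap g B = B → g ∈ P := by
    intro g hgA hgB
    have hsign : ∀ (u : G), orderOf u = 4 → cmap g (zpowers u) = zpowers u → g * u * g⁻¹ = u ∨ g * u * g⁻¹ = u ^ 3 := by
      intro u hu he
      have hm : g * u * g⁻¹ ∈ zpowers u := he.le ⟨u, mem_zpowers u, rfl⟩
      have ho : orderOf (g * u * g⁻¹) = 4 := (orderOf_conj g u).trans hu
      rcases hpw u hu _ hm with h | h | h | h
      · rw [h, orderOf_one] at ho; norm_num at ho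
      · exact Or.inl h
      · rw [h] at ho
        have := orderOf_dvd_of_pow_eq_one (show (u ^ 2) ^ 2 = 1 by rw [← pow_mul]; exact orderOf_dvd_iff_pow_eq_one.mp hu.dvd)
        rw [ho] at this; norm_num at this
      · exact Or.inr h
    have hjconj : j * i * j⁻¹ = i ^ 3 := by rw [hrel.ji, mul_inv_cancel_right]
    have hiconj : i * j * i⁻¹ = j ^ 3 := by
      have e1 : j * i ^ 3 = i * j := by
        have h1 : j * i ^ 3 * j⁻¹ = (j * i * j⁻¹) ^ 3 := (conj_pow ..).symm
        rw [hjconj, ← pow_mul, pow_eq_pow_mod _ hrel.i4] at h1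
        norm_num at h1
        have h9 : i ^ 9 = i := by rw [pow_eq_pow_mod 9 hrel.i4]; norm_num
        rw [mul_inv_eq_iff_eq_mul] at h1
        rwa [h9] at h1
      calc i * j * i⁻¹ = i * (j * i⁻¹) := by group
        _ = i * (j * i ^ 3) := by
          rw [show i⁻¹ = i ^ 3 from inv_eq_of_mul_eq_one_right (by rw [← pow_succ', hrel.i4])]
        _ = i * i * j := by rw [e1]; group
        _ = j ^ 3 := by rw [← hrel.j2, pow_succ, pow_two]
    have hfix : ∀ w, w * i * w⁻¹ = i → w * j * w⁻¹ = j → w ∈ P := by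
      intro w hwi hwj
      refine hcent (mem_centralizer_iff.mpr fun v hv => ?_)
      have hci : Commute i w := (mul_inv_eq_iff_eq_mul.mp hwi).symm
      have hcj : Commute j w := (mul_inv_eq_iff_eq_mul.mp hwj).symm
      rcases (hP v).mp hv with h | h
      · obtain ⟨m, rfl⟩ := mem_zpowers_iff.mp h
        exact hci.zpow_left m
      · obtain ⟨m, hm⟩ := mem_zpowers_iff.mp h
        rw [eq_mul_inv_iff_mul_eq] at hm
        rw [← hm]
        exact (hci.zpow_left m).mul_left hcj
    have hi3 : (i ^ 3) ^ 3 = i := by rw [← pow_mul, pow_eq_pow_mod _ hrel.i4]; norm_num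
    have hj34 : j ^ 4 = 1 := hj4 ▸ pow_orderOf_eq_one j
    have hj3 : (j ^ 3) ^ 3 = j := by rw [← pow_mul, pow_eq_pow_mod _ hj34]; norm_num
    have adjust : ∀ q ∈ P, ∀ h : G, q * h ∈ P → h ∈ P := fun q hq h hh => (mul_mem_cancel_left hq).mp hh
    have hjg : ∀ q u : G, q * g * u * (q * g)⁻¹ = q * (g * u * g⁻¹) * q⁻¹ := fun q u => by group
    rcases hsign i hi4 hgA with e1 | e1 <;> rcases hsign j hj4 hgB with e2 | e2
    · exact hfix g e1 e2
    · refine adjust i hiP g (hfix _ ?_ ?_)
      · rw [hjg, e1, mul_inv_cancel_right]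
      · rw [hjg, e2, ← conj_pow, hiconj, hj3]
    · refine adjust j hjP g (hfix _ ?_ ?_)
      · rw [hjg, e1, ← conj_pow, hjconj, hi3]
      · rw [hjg, e2, mul_inv_cancel_right]
    · refine adjust (i * j) (mul_mem hiP hjP) g (hfix _ ?_ ?_)
      · rw [hjg, e1, ← conj_pow,
          show i * j * i * (i * j)⁻¹ = i * (j * i * j⁻¹) * i⁻¹ by group, hjconj,
          show i * i ^ 3 * i⁻¹ = i ^ 3 by group, hi3]
      · rw [hjg, e2, ← conj_pow, show i * j * j * (i * j)⁻¹ = i * j * i⁻¹ by group, hiconj, hj3]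
  -- `x` permutes the three subgroups cyclically
  have hxA : cmap x A = B := by
    rw [hA, cmap, MonoidHom.map_zpowers]
    show zpowers (x * i * x⁻¹) = B
    rw [hrel.xi, mul_inv_cancel_right]
  have hxB : cmap x B = D := by
    rw [hB, cmap, MonoidHom.map_zpowers]
    show zpowers (x * j * x⁻¹) = D
    rw [hrel.xj, mul_inv_cancel_right]
  have hinj : ∀ g : G, Function.Injective (cmap g) := fun g => map_injective (MulAut.conj g).injective
  set U := P ⊔ zpowers x with hU
  have hthree : ∀ y : G, y ^ 3 = 1 → y ∈ U := by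
    intro y hy
    have hcyc : ∀ E : Subgroup G, cmap y (cmap y (cmap y E)) = E := by
      intro E
      rw [← cmap_mul, ← cmap_mul, show y * y * y = y ^ 3 by rw [pow_succ, pow_two], hy, cmap_one]
    have hvia : ∀ w ∈ U, cmap (w⁻¹ * y) A = A → cmap (w⁻¹ * y) B = B → y ∈ U := by
      intro w hw h1 h2
      have := mul_mem hw (mem_sup_left (T := zpowers x) (hker _ h1 h2))
      rwa [mul_inv_cancel_left] at this
    rcases hperm y i hiP hi4 with a | a | a <;> rcases hperm y j hjP hj4 with b | b | b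
    · exact absurd (hinj y (a.trans b.symm)) hAB
    · exact mem_sup_left (hker y a b)
    · -- `(A, D)`
      exfalso
      have hy2 : cmap y D = B := by
        rcases hperm y (i * j) (mul_mem hiP hjP) hk4 with c | c | c
        · exact absurd (hinj y (a.trans c.symm)) hAD
        · exact c
        · exact absurd (hinj y (b.trans c.symm)) hBD
      have := hcyc B
      rw [b, hy2, b] at this
      exact hBD this.symm
    · -- `(B, A)`
      exfalso
      have := hcyc A
      rw [a, b, a] at this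
      exact hAB this.symm
    · exact absurd (hinj y (a.trans b.symm)) hAB
    · refine hvia x (mem_sup_right (mem_zpowers x)) ?_ ?_
      · rw [cmap_mul, a, ← hxA, cmap_inv_cmap]
      · rw [cmap_mul, b, ← hxB, cmap_inv_cmap]
    · refine hvia (x * x) (mul_mem (mem_sup_right (mem_zpowers x)) (mem_sup_right (mem_zpowers x))) ?_ ?_
      · rw [cmap_mul, a, ← hxB, ← hxA, ← cmap_mul x x A, cmap_inv_cmap]
      · have hxD : cmap x D = A := by
          rw [← hxB, ← hxA, ← cmap_mul, ← cmap_mul, show x * x * x = x ^ 3 by rw [pow_succ, pow_two], hrel.x3, cmap_one]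
        rw [cmap_mul, b, ← hxD, ← hxB, ← cmap_mul x x B, cmap_inv_cmap]
    · -- `(D, B)`
      exfalso
      have hy2 : cmap y D = A := by
        rcases hperm y (i * j) (mul_mem hiP hjP) hk4 with c | c | c
        · exact c
        · exact absurd (hinj y (b.trans c.symm)) hBD
        · exact absurd (hinj y (a.trans c.symm)) hAD
      have := hcyc A
      rw [a, hy2, a] at this
      exact hAD this.symm
    · exact absurd (hinj y (a.trans b.symm)) hAB
  have hUn : U.Normal := by
    refine ⟨fun u hu g => ?_⟩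
    have hle : U ≤ U.comap (MulAut.conj g).toMonoidHom := by
      refine sup_le (fun v hv => mem_sup_left ((inferInstance : P.Normal).conj_mem v hv g)) ((zpowers_le).mpr ?_)
      refine hthree _ ?_
      rw [← map_pow, hrel.x3, map_one]
    exact hle hu
  refine ⟨U, hUn, ?_⟩
  have hiU : i ∈ U := mem_sup_left hiP
  have hjU : j ∈ U := mem_sup_left hjP
  have hxU : x ∈ U := mem_sup_right (mem_zpowers x)
  refine sl23_iso (i := (⟨i, hiU⟩ : U)) (j := ⟨j, hjU⟩) (x := ⟨x, hxU⟩) ⟨?_, ?_, ?_, ?_, ?_, ?_⟩ ?_ ?_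
  · exact Subtype.ext hrel.i4
  · exact Subtype.ext hrel.j2
  · exact Subtype.ext hrel.ji
  · exact Subtype.ext hrel.x3
  · exact Subtype.ext hrel.xi
  · exact Subtype.ext hrel.xj
  · rw [← map_injective (U.subtype_injective) |>.eq_iff, MonoidHom.map_closure, ← MonoidHom.range_eq_map, range_subtype]
    refine le_antisymm ((closure_le U).mpr ?_) (sup_le ?_ ((zpowers_le).mpr (subset_closure ⟨⟨x, hxU⟩, by simp, rfl⟩)))
    · rintro _ ⟨v, -, rfl⟩; exact v.2
    · intro v hv
      have hi' : i ∈ closure (U.subtype '' {⟨i, hiU⟩, ⟨j, hjU⟩, ⟨x, hxU⟩}) := subset_closure ⟨⟨i, hiU⟩, by simp, rfl⟩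
      have hj' : j ∈ closure (U.subtype '' {⟨i, hiU⟩, ⟨j, hjU⟩, ⟨x, hxU⟩}) := subset_closure ⟨⟨j, hjU⟩, by simp, rfl⟩
      rcases (hP v).mp hv with h | h
      · exact (zpowers_le.mpr hi') h
      · exact (mul_mem_cancel_right (inv_mem hj')).mp ((zpowers_le.mpr hi') h)
  · have h3 : 3 ∣ Nat.card U := hx3 ▸ orderOf_dvd_natCard U hxU
    have hP8 : 8 ∣ Nat.card P := by
      obtain ⟨b, hb⟩ := IsPGroup.iff_card.mp (Core.pCore_isPGroup (p := 2) (G := G))
      rw [← hPdef] at hb
      have hlt : Nat.card A < Nat.card P := by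
        refine lt_of_le_of_ne (card_le_of_le (zpowers_le.mpr hiP)) fun e => hjn ?_
        exact (eq_of_le_of_card_ge (zpowers_le.mpr hiP) e.ge).ge hjP
      rw [hcA, hb, show (4 : ℕ) = 2 ^ 2 by norm_num] at hlt
      rw [hb]
      exact pow_dvd_pow 2 ((Nat.pow_lt_pow_iff_right (by norm_num)).mp hlt : 2 < b)
    have h8 : 8 ∣ Nat.card U := hP8.trans (card_dvd_of_le le_sup_left)
    exact Nat.le_of_dvd Nat.card_pos (Nat.Coprime.mul_dvd_of_dvd_of_dvd (by norm_num) h8 h3)

end Cfsg.Agent.LocalStructure
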