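import Mathlib
import Cfsg.Agent.LocalStructure.FStarAction
import Cfsg.Agent.Coprime.Tools

/-!
# `p`-groups acting on `F*` of a group with trivial `p`-core
-/

set_option autoImplicit false
set_option linter.all false
set_option maxHeartbeats 400000

namespace Cfsg.Agent.LocalStructure

open Subgroup
open scoped commutatorElement Pointwise

variable {H : Type*} [Group H] [Finite H] {p : ℕ} [Fact p.Prime] {Y : Subgroup H}

theorem actsOnProduct_of_subnormal_top (hO : Cfsg.pCore p H = ⊥) (hY : IsPGroup p Y) {L : Subgroup H}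
    (hLF : L ≤ Cfsg.generalizedFittingSubgroup H) (hsn : L.IsSubnormal) (hYL : Y ≤ normalizer (L : Set H)) :
    ActsOnProduct p L Y := by
  refine ⟨hYL, hY, Layer.sup_eq_top_of_le_generalizedFitting hLF hsn, ?_⟩
  have h1 := pCoreOf_subnormal_eq (p := p) hsn
  rwa [hO, inf_bot_eq, map_eq_bot_iff_of_injective _ L.subtype_injective] at h1

instance genFitting_normal : (Cfsg.generalizedFittingSubgroup H).Normal := by
  haveI : (Cfsg.layer H).Characteristic :=
    characteristic_iff_map_eq.mpr fun e => Layer.map_layer_equiv e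
  rw [Cfsg.generalizedFittingSubgroup]
  infer_instance

theorem le_genFitting_normalizer (Y : Subgroup H) :
    Y ≤ normalizer ((Cfsg.generalizedFittingSubgroup H : Subgroup H) : Set H) := by
  rw [normalizer_eq_top (H := Cfsg.generalizedFittingSubgroup H)]; exact le_top

theorem fstar_props (hO : Cfsg.pCore p H = ⊥) (hY : IsPGroup p Y) :
    ⁅Cfsg.generalizedFittingSubgroup H, Y⁆ ⊔
        (Cfsg.generalizedFittingSubgroup H ⊓ centralizer (Y : Set H)) = Cfsg.generalizedFittingSubgroup H ∧
      ⁅Cfsg.generalizedFittingSubgroup H, Y⁆ = ⁅⁅Cfsg.generalizedFittingSubgroup H, Y⁆, Y⁆ :=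
  (actsOnProduct_of_subnormal_top hO hY le_rfl (Normal.isSubnormal inferInstance)
    (le_genFitting_normalizer Y)).main

/-- A `p`-subgroup centralizing `F*` is trivial. -/
theorem eq_bot_of_fstar_centralized (hO : Cfsg.pCore p H = ⊥) (hY : IsPGroup p Y)
    (h : ⁅Cfsg.generalizedFittingSubgroup H, Y⁆ = ⊥) : Y = ⊥ := by
  set Fs := Cfsg.generalizedFittingSubgroup H with hFs
  have hYc : Y ≤ centralizer (Fs : Set H) := le_centralizer_iff.mp (commutator_eq_bot_iff_le_centralizer.mp h)
  set Z := centralizer (Fs : Set H) with hZ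
  haveI : Z.Normal := inferInstance
  haveI : IsMulCommutative Z := le_centralizer_iff_isMulCommutative.mp
    (centralizer_le (Layer.centralizer_generalizedFitting_le : Z ≤ Fs))
  have hYF : Y ≤ Cfsg.fittingSubgroup H := hYc.trans Core.le_fittingSubgroup_of_isMulCommutative
  obtain ⟨n, hn⟩ := IsPGroup.iff_card.mp hY
  have h1 : p ^ n ∣ Nat.card (Cfsg.fittingSubgroup H) := hn ▸ card_dvd_of_le hYF
  rw [← card_eq_one, hn]
  exact Nat.eq_one_of_dvd_coprimes (Nat.Coprime.pow_left n (coprime_card_fitting hO).symm) dvd_rfl h1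

theorem eq_bot_of_double_commutator (hO : Cfsg.pCore p H = ⊥) (hY : IsPGroup p Y) {Y₀ : Subgroup H}
    (hY₀ : Y₀ ≤ Y) (h : ⁅⁅Cfsg.generalizedFittingSubgroup H, Y⁆, Y₀⁆ = ⊥) : Y₀ = ⊥ := by
  have hp : IsPGroup p Y₀ := hY.to_le hY₀
  refine eq_bot_of_fstar_centralized hO hp ?_
  rw [(fstar_props hO hp).2, eq_bot_iff, ← h]
  exact commutator_mono (commutator_mono le_rfl hY₀) le_rfl

theorem mem_normalizer_commutator_of {A B : Subgroup H} {g : H} (ha : g ∈ normalizer (A : Set H))
    (hb : g ∈ normalizer (B : Set H)) : g ∈ normalizer ((⁅A, B⁆ : Subgroup H) : Set H) := by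
  refine Coprime.mem_normalizer_of_conj_smul_eq ?_
  rw [Coprime.conj_smul_eq_map, map_commutator, ← Coprime.conj_smul_eq_map, ← Coprime.conj_smul_eq_map,
    Coprime.conj_smul_eq_self_of_mem_normalizer ha, Coprime.conj_smul_eq_self_of_mem_normalizer hb]

/-- Iterated commutators fall into a subnormal subgroup. -/
theorem le_of_subnormal_of_commutator_eq {N K : Subgroup H} (hK : K.IsSubnormal) (hYK : Y ≤ K)
    (hN : ⁅N, Y⁆ = N) : N ≤ K := by
  induction hK with
  | top => exact le_top
  | step A B hAB hB hn ih =>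
    have hNB := ih (hYK.trans hAB)
    rw [← hN, commutator_le]
    intro n hn' y hy
    haveI := hn
    rw [commutatorElement_def]
    exact mul_mem ((mem_normalizer_iff.mp (le_normalizer_of_normal_subgroupOf hAB (hNB hn')) y).mp (hYK hy))
      (inv_mem (hYK hy))

theorem le_map_genFitting {N K : Subgroup H} (hN : N ≤ Cfsg.generalizedFittingSubgroup H)
    (hNsn : N.IsSubnormal) (hK : K.IsSubnormal) (hNK : N ≤ K) :
    N ≤ (Cfsg.generalizedFittingSubgroup K).map K.subtype := by
  rw [Layer.eq_components_sup_fitting hN hNsn]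
  refine sup_le ?_ ?_
  · refine le_trans ?_ (map_mono Layer.layer_le_generalizedFitting)
    rw [Layer.map_layer_subnormal hK]
    exact sSup_le_sSup fun L hL => ⟨hL.1, hL.2.trans hNK⟩
  · refine le_trans ?_ (map_mono Layer.fitting_le_generalizedFitting)
    rw [Layer.map_fitting_subnormal hK]
    exact inf_le_inf_left _ hNK

/-- The `F*`-commutator is computed in any subnormal subgroup containing `Y`. -/
theorem fstar_commutator_subnormal (hO : Cfsg.pCore p H = ⊥) (hY : IsPGroup p Y) {K : Subgroup H}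
    (hK : K.IsSubnormal) (hYK : Y ≤ K) :
    ⁅Cfsg.generalizedFittingSubgroup H, Y⁆ = ⁅(Cfsg.generalizedFittingSubgroup K).map K.subtype, Y⁆ ∧
      ⁅(Cfsg.generalizedFittingSubgroup K).map K.subtype, Y⁆ =
        ⁅⁅(Cfsg.generalizedFittingSubgroup K).map K.subtype, Y⁆, Y⁆ := by
  set Fs := Cfsg.generalizedFittingSubgroup H with hFs
  set N := ⁅Fs, Y⁆ with hN
  have hNF : N ≤ Fs := Coprime.commutator_le_of_le_normalizer (le_genFitting_normalizer Y)
  have hNn : Fs ≤ normalizer (N : Set H) := le_sup_left.trans Coprime.le_normalizer_commutator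
  have hNsn : N.IsSubnormal := by
    haveI : (N.subgroupOf Fs).Normal := normal_subgroupOf_of_le_normalizer hNn
    exact Subgroup.IsSubnormal.trans hNF (Normal.isSubnormal inferInstance) (Normal.isSubnormal inferInstance)
  have hNN : ⁅N, Y⁆ = N := (fstar_props hO hY).2.symm
  have hle := le_map_genFitting hNF hNsn hK (le_of_subnormal_of_commutator_eq hK hYK hNN)
  have heq : N = ⁅(Cfsg.generalizedFittingSubgroup K).map K.subtype, Y⁆ :=
    le_antisymm (hNN.ge.trans (commutator_mono hle le_rfl))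
      (commutator_mono (Layer.map_generalizedFitting_subnormal_le hK) le_rfl)
  exact ⟨heq, by rw [← heq, hNN]⟩

/-- An element of `L = [L, Q]` fixed by `Q` lies in the derived subgroup when `L` is a `p'`-group modulo it. -/
theorem mem_commutator_of_fixed {L Q F0 : Subgroup H} (hQL : Q ≤ normalizer (L : Set H)) (hQ : IsPGroup p Q)
    (hLL : ⁅L, Q⁆ = L) (hF0L : F0 ≤ L) (hcop : (Nat.card F0).Coprime p) (hgen : L ≤ ⁅L, L⁆ ⊔ F0)
    {z : H} (hzL : z ∈ L) (hz : z ∈ centralizer (Q : Set H)) : z ∈ ⁅L, L⁆ := by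
  obtain ⟨N, hLN, hQN, hn⟩ : ∃ N : Subgroup H, L ≤ N ∧ Q ≤ N ∧ ((⁅L, L⁆).subgroupOf N).Normal :=
    ⟨normalizer (((⁅L, L⁆ : Subgroup H)) : Set H), le_sup_left.trans Coprime.le_normalizer_commutator,
      fun q hq => mem_normalizer_commutator_of (hQL hq) (hQL hq), normal_subgroupOf_of_le_normalizer le_rfl⟩
  obtain ⟨K, _, _, π, hπs, hπ⟩ : ∃ (K : Type _) (_ : Group K) (_ : Finite K) (π : N →* K),
      Function.Surjective π ∧ π.ker = (⁅L, L⁆).subgroupOf N :=
    ⟨_, inferInstance, inferInstance, QuotientGroup.mk' _, QuotientGroup.mk'_surjective _, QuotientGroup.ker_mk' _⟩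
  haveI : IsMulCommutative ((L.subgroupOf N).map π) := by
    rw [← le_centralizer_iff_isMulCommutative, ← commutator_eq_bot_iff_le_centralizer, ← map_commutator,
      Subgroup.map_eq_bot_iff, hπ, commutator_le]
    exact fun a ha b hb => mem_subgroupOf.mpr (commutator_mem_commutator ha hb)
  have hAV : (Q.subgroupOf N).map π ≤ normalizer (((L.subgroupOf N).map π : Subgroup K) : Set K) := by
    rintro _ ⟨q, hq, rfl⟩
    refine le_normalizer_map π ⟨q, mem_normalizer_iff.mpr fun x => ?_, rfl⟩
    exact mem_normalizer_iff.mp (hQL hq) x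
  have hVF : (L.subgroupOf N).map π ≤ (F0.subgroupOf N).map π := by
    rintro v ⟨l, hl, rfl⟩
    have hF0N : F0 ≤ normalizer (((⁅L, L⁆ : Subgroup H)) : Set H) :=
      hF0L.trans (le_sup_left.trans Coprime.le_normalizer_commutator)
    have hmem : (l : H) ∈ ⁅L, L⁆ ⊔ F0 := hgen hl
    rw [← SetLike.mem_coe, coe_mul_of_right_le_normalizer_left _ _ hF0N] at hmem
    obtain ⟨d, hd, f, hf, hdf⟩ := hmem
    refine ⟨⟨f, hLN (hF0L hf)⟩, hf, ?_⟩
    rw [← mul_inv_eq_one, ← map_inv, ← map_mul, ← MonoidHom.mem_ker, hπ, mem_subgroupOf]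
    show f * (l : H)⁻¹ ∈ ⁅L, L⁆
    rw [← hdf]
    simpa [mul_assoc] using inv_mem hd
  have hc : (Nat.card ((Q.subgroupOf N).map π)).Coprime (Nat.card ((L.subgroupOf N).map π)) := by
    obtain ⟨n, hn'⟩ := IsPGroup.iff_card.mp hQ
    have e1 : Nat.card (Q.subgroupOf N) = Nat.card Q := Nat.card_congr (subgroupOfEquivOfLe hQN).toEquiv
    have e2 : Nat.card (F0.subgroupOf N) = Nat.card F0 :=
      Nat.card_congr (subgroupOfEquivOfLe (hF0L.trans hLN)).toEquiv
    have h1 : Nat.card ((Q.subgroupOf N).map π) ∣ p ^ n := by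
      rw [← hn', ← e1]
      exact card_map_dvd (Q.subgroupOf N) π
    have h2 : Nat.card ((L.subgroupOf N).map π) ∣ Nat.card F0 := by
      rw [← e2]
      exact (card_dvd_of_le hVF).trans (card_map_dvd (F0.subgroupOf N) π)
    exact ((hcop.pow_right n).symm.coprime_dvd_left h1).coprime_dvd_right h2
  have hcomm : ⁅(L.subgroupOf N).map π, (Q.subgroupOf N).map π⁆ = (L.subgroupOf N).map π := by
    rw [← map_commutator]
    congr 1
    apply map_injective N.subtype_injective
    rw [map_commutator, subgroupOf_map_subtype, subgroupOf_map_subtype, inf_eq_left.mpr hLN, inf_eq_left.mpr hQN, hLL]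
  have key := Coprime.centralizer_inf_commutator_eq_bot hAV hc
  rw [hcomm] at key
  have hmem : π ⟨z, hLN hzL⟩ ∈ ((L.subgroupOf N).map π ⊓ centralizer (((Q.subgroupOf N).map π : Subgroup K) : Set K)) ⊓
      (L.subgroupOf N).map π := by
    refine ⟨⟨mem_map_of_mem _ hzL, mem_centralizer_iff.mpr ?_⟩, mem_map_of_mem _ hzL⟩
    rintro _ ⟨q, hq, rfl⟩
    rw [← map_mul, ← map_mul]
    exact congrArg π (Subtype.ext (mem_centralizer_iff.mp hz (q : H) hq))
  rw [key, mem_bot, ← MonoidHom.mem_ker, hπ, mem_subgroupOf] at hmem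
  exact hmem

/-- The data attached to a `p`-subgroup. -/
theorem fstar_centralizer_props (hO : Cfsg.pCore p H = ⊥) {Q : Subgroup H} (hQ : IsPGroup p Q)
    {L F : Subgroup H} (hL : L = ⁅Cfsg.generalizedFittingSubgroup H, Q⁆)
    (hF : F ≤ Cfsg.generalizedFittingSubgroup H ∧
      Cfsg.generalizedFittingSubgroup H ≤ normalizer (F : Set H) ∧ Q ≤ centralizer (F : Set H) ∧
      ∀ N : Subgroup H, N ≤ Cfsg.generalizedFittingSubgroup H →
        Cfsg.generalizedFittingSubgroup H ≤ normalizer (N : Set H) → Q ≤ centralizer (N : Set H) → N ≤ F) :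
    F = Cfsg.generalizedFittingSubgroup H ⊓ centralizer ((L ⊔ Q : Subgroup H) : Set H) ∧ ⁅L, Q⁆ = L ∧
      L ⊓ F ≤ ⁅L, L⁆ ∧
      (∀ B : Subgroup H, IsPGroup p B → B ≤ normalizer (Q : Set H) → ⁅L, B⁆ ≤ F → ⁅L, B⁆ = ⊥) ∧
      (Nat.card (centralizer ((F ⊔ L : Subgroup H) : Set H))).Coprime p := by
  obtain ⟨hFle, hFn, hQF, hFmax⟩ := hF
  set Fs := Cfsg.generalizedFittingSubgroup H with hFs
  have hLFs : L ≤ Fs := hL ▸ Coprime.commutator_le_of_le_normalizer (le_genFitting_normalizer Q)
  have hLn : Fs ≤ normalizer (L : Set H) := hL ▸ le_sup_left.trans Coprime.le_normalizer_commutator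
  have hQL : Q ≤ normalizer (L : Set H) := hL ▸ le_sup_right.trans Coprime.le_normalizer_commutator
  have hLL : ⁅L, Q⁆ = L := by rw [hL]; exact (fstar_props hO hQ).2.symm
  have hsup : L ⊔ (Fs ⊓ centralizer (Q : Set H)) = Fs := by rw [hL]; exact (fstar_props hO hQ).1
  have hFQ : ⁅F, Q⁆ = ⊥ := commutator_eq_bot_iff_le_centralizer.mpr (le_centralizer_iff.mp hQF)
  have hFL : ⁅L, F⁆ = ⊥ := by
    rw [hL]
    refine commutator_commutator_eq_bot_of_rotate ?_ ?_
    · rw [Subgroup.commutator_comm Q F, hFQ, commutator_bot_left]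
    · refine eq_bot_iff.mpr (le_trans (commutator_mono ?_ le_rfl) hFQ.le)
      rw [Subgroup.commutator_le]
      intro f hf x hx
      rw [commutatorElement_def, mul_assoc f x, mul_assoc]
      exact mul_mem hf ((mem_normalizer_iff.mp (hFn hx) _).mp (inv_mem hf))
  set C := Fs ⊓ centralizer ((L ⊔ Q : Subgroup H) : Set H) with hC
  have hCdef : ∀ x, x ∈ C ↔ x ∈ Fs ∧ x ∈ centralizer (L : Set H) ∧ x ∈ centralizer (Q : Set H) := by
    intro x
    rw [hC, mem_inf]
    refine and_congr Iff.rfl ⟨fun h => ⟨centralizer_le (SetLike.coe_subset_coe.mpr (le_sup_left : L ≤ L ⊔ Q)) h,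
      centralizer_le (SetLike.coe_subset_coe.mpr (le_sup_right : Q ≤ L ⊔ Q)) h⟩, fun h => ?_⟩
    rw [mem_centralizer_iff]
    intro z hz
    have : L ⊔ Q ≤ centralizer {x} := sup_le
      (fun u hu => mem_centralizer_singleton_iff.mpr (mem_centralizer_iff.mp h.1 u hu))
      (fun u hu => mem_centralizer_singleton_iff.mpr (mem_centralizer_iff.mp h.2 u hu))
    exact mem_centralizer_singleton_iff.mp (this hz)
  have hFC : F = C := by
    refine le_antisymm (fun f hf => (hCdef f).mpr ⟨hFle hf, le_centralizer_iff.mp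
      (commutator_eq_bot_iff_le_centralizer.mp hFL) hf, le_centralizer_iff.mp hQF hf⟩) ?_
    refine hFmax C inf_le_left ?_ (le_centralizer_iff.mp fun x hx => ((hCdef x).mp hx).2.2)
    have h1 : L ≤ normalizer (C : Set H) :=
      le_trans (fun l hl => mem_centralizer_iff.mpr fun x hx =>
        (mem_centralizer_iff.mp ((hCdef x).mp hx).2.1 l hl).symm) (centralizer_le_normalizer _)
    have h2 : Fs ⊓ centralizer (Q : Set H) ≤ normalizer (C : Set H) := by
      refine Coprime.le_normalizer_inf (inf_le_left.trans le_normalizer) ?_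
      refine Coprime.le_normalizer_centralizer (Coprime.le_normalizer_sup (inf_le_left.trans hLn) ?_)
      exact inf_le_right.trans (centralizer_le_normalizer _)
    calc Fs = L ⊔ (Fs ⊓ centralizer (Q : Set H)) := hsup.symm
      _ ≤ _ := sup_le h1 h2
  have hLsn : L.IsSubnormal := by
    haveI : (L.subgroupOf Fs).Normal := normal_subgroupOf_of_le_normalizer hLn
    exact Subgroup.IsSubnormal.trans hLFs (Normal.isSubnormal inferInstance) (Normal.isSubnormal inferInstance)
  have hact := actsOnProduct_of_subnormal_top hO hQ hLFs hLsn hQL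
  have hLFD : L ⊓ F ≤ ⁅L, L⁆ := by
    intro z hz
    refine mem_commutator_of_fixed (p := p) (F0 := (Cfsg.fittingSubgroup L).map L.subtype) hQL hQ hLL
      (map_subtype_le _) ?_ ?_ (mem_inf.mp hz).1 (le_centralizer_iff.mp hQF (mem_inf.mp hz).2)
    · rw [card_map_of_injective L.subtype_injective]
      exact coprime_card_fitting hact.core
    · conv_lhs => rw [hact.eq_sup]
      refine sup_le le_sup_right (sSup_le fun K hK => le_sup_of_le_left ?_)
      rw [← compsOf_perfect hK]
      exact commutator_mono (compsOf_le hK) (compsOf_le hK)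
  refine ⟨hFC, hLL, hLFD, fun B hB hBQ hle => ?_, ?_⟩
  · have hBL : B ≤ normalizer (L : Set H) := by
      rw [hL]
      intro b hb
      exact mem_normalizer_commutator_of (by rw [normalizer_eq_top (H := Cfsg.generalizedFittingSubgroup H)]; exact mem_top b) (hBQ hb)
    have hB2 := (actsOnProduct_of_subnormal_top hO hB hLFs hLsn hBL).main.2
    set M := ⁅L, B⁆ with hM
    have hML : M ≤ L := Coprime.commutator_le_of_le_normalizer hBL
    have hMcen : ⁅M, L⁆ = ⊥ := by
      rw [Subgroup.commutator_comm, eq_bot_iff, ← hFL]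
      exact commutator_mono le_rfl hle
    have hMB : ⁅M, B⁆ = ⊥ := by
      have hBD : ⁅⁅L, L⁆, B⁆ = ⊥ := by
        refine commutator_commutator_eq_bot_of_rotate hMcen ?_
        rwa [Subgroup.commutator_comm B L]
      rw [eq_bot_iff, ← hBD]
      exact commutator_mono ((le_inf hML hle).trans hLFD) le_rfl
    rw [hB2, hMB]
  · refine ((Fact.out : p.Prime).coprime_iff_not_dvd.mpr fun hd => ?_).symm
    obtain ⟨⟨x, hx⟩, hxo⟩ := exists_prime_orderOf_dvd_card' p hd
    have hX : IsPGroup p (zpowers x) := IsPGroup.of_card (n := 1) (by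
      rw [Nat.card_zpowers, pow_one, ← hxo, Subgroup.orderOf_mk])
    refine (Fact.out : p.Prime).ne_one ?_
    rw [← hxo, Subgroup.orderOf_mk, orderOf_eq_one_iff, ← zpowers_eq_bot]
    refine eq_bot_of_fstar_centralized hO hX ?_
    set X := zpowers x with hXd
    have hXc : X ≤ centralizer ((F ⊔ L : Subgroup H) : Set H) := zpowers_le.mpr hx
    have hXL : ⁅L, X⁆ = ⊥ := commutator_eq_bot_iff_le_centralizer.mpr
      (le_centralizer_iff.mp (hXc.trans (centralizer_le (le_sup_right : L ≤ F ⊔ L))))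
    have hXF : ⁅F, X⁆ = ⊥ := commutator_eq_bot_iff_le_centralizer.mpr
      (le_centralizer_iff.mp (hXc.trans (centralizer_le (le_sup_left : F ≤ F ⊔ L))))
    set C0 := Fs ⊓ centralizer (L : Set H) with hC0
    have hC0n : Fs ≤ normalizer (C0 : Set H) :=
      Coprime.le_normalizer_inf le_normalizer (Coprime.le_normalizer_centralizer hLn)
    have hC0sn : C0.IsSubnormal := by
      haveI : (C0.subgroupOf Fs).Normal := normal_subgroupOf_of_le_normalizer hC0n
      exact Subgroup.IsSubnormal.trans inf_le_left (Normal.isSubnormal inferInstance) (Normal.isSubnormal inferInstance)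
    have hC0Q : Q ≤ normalizer (C0 : Set H) :=
      Coprime.le_normalizer_inf (le_genFitting_normalizer Q) (Coprime.le_normalizer_centralizer hQL)
    have hC0split : ⁅C0, Q⁆ ⊔ (C0 ⊓ centralizer (Q : Set H)) = C0 :=
      (actsOnProduct_of_subnormal_top hO hQ inf_le_left hC0sn hC0Q).main.1
    have hXC0 : ⁅C0, X⁆ = ⊥ := by
      refine commutator_eq_bot_iff_le_centralizer.mpr ?_
      conv_lhs => rw [← hC0split]
      refine sup_le ?_ ?_
      · refine le_trans ?_ (commutator_eq_bot_iff_le_centralizer.mp hXL)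
        exact hL ▸ commutator_mono inf_le_left le_rfl
      · refine le_trans ?_ (commutator_eq_bot_iff_le_centralizer.mp hXF)
        rw [hFC]
        exact fun y hy => (hCdef y).mpr ⟨hy.1.1, hy.1.2, hy.2⟩
    have hFX : ⁅Fs, X⁆ ≤ C0 := by
      refine le_inf (Coprime.commutator_le_of_le_normalizer (le_genFitting_normalizer X))
        (commutator_eq_bot_iff_le_centralizer.mp ?_)
      refine commutator_commutator_eq_bot_of_rotate ?_ ?_
      · rw [Subgroup.commutator_comm X L, hXL, commutator_bot_left]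
      · refine eq_bot_iff.mpr (le_trans (commutator_mono ?_ le_rfl) hXL.le)
        rw [Subgroup.commutator_le]
        intro l hl f hf
        rw [commutatorElement_def, mul_assoc l f, mul_assoc]
        exact mul_mem hl ((mem_normalizer_iff.mp (hLn hf) _).mp (inv_mem hl))
    rw [(fstar_props hO hX).2, eq_bot_iff, ← hXC0]
    exact commutator_mono hFX le_rfl

end Cfsg.Agent.LocalStructure
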