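import Mathlib
import Cfsg.Agent.LocalStructure.Asymmetric
import Cfsg.Agent.LocalStructure.ThreeSubgroup
import Cfsg.Agent.LocalStructure.OmegaAction
import Cfsg.Agent.S3937

/-!
# The members of `ℌ(O_p(M))`
-/

set_option autoImplicit false
set_option linter.all false

namespace Cfsg.Agent.LocalStructure

open Subgroup
open scoped commutatorElement

variable {G : Type*} [Group G] [Finite G] {p : ℕ} [hp : Fact p.Prime]

/-- The normal closure of `A` in `H`, in the ambient group. -/
abbrev nclIn (A H : Subgroup G) : Subgroup G :=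
  (normalClosure ((A.subgroupOf H : Subgroup H) : Set H)).map H.subtype

theorem nclIn_le (A H : Subgroup G) : nclIn A H ≤ H := map_subtype_le _

theorem le_nclIn {A H : Subgroup G} (h : A ≤ H) : A ≤ nclIn A H := fun a ha =>
  ⟨⟨a, h ha⟩, subset_normalClosure (show (⟨a, h ha⟩ : H) ∈ A.subgroupOf H from ha), rfl⟩

theorem nclIn_normalizer (A H : Subgroup G) : H ≤ normalizer ((nclIn A H : Subgroup G) : Set G) :=
  le_normalizer_map_of_normal H _

theorem nclIn_le_of_normalized {A H X : Subgroup G} (hA : A ≤ X) (hX : H ≤ normalizer (X : Set G)) :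
    nclIn A H ≤ X := by
  rw [map_le_iff_le_comap]
  haveI : (X.subgroupOf H).Normal := normal_subgroupOf_of_le_normalizer hX
  exact normalClosure_le_normal (N := X.subgroupOf H) fun a ha => hA ha

theorem conj_mem_nclIn {A H : Subgroup G} (hA : A ≤ H) {h a : G} (hh : h ∈ H) (ha : a ∈ A) :
    h * a * h⁻¹ ∈ nclIn A H :=
  (mem_normalizer_iff.mp (nclIn_normalizer A H hh) a).mp (le_nclIn hA ha)

theorem nclIn_pCore_eq {M H : Subgroup G} (hH : Cfsg.IsInFrakH p M H) :
    nclIn (Cfsg.pCoreOf p M) H = H := by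
  obtain ⟨-, hOH, hY, hmin⟩ := hH
  set N := nclIn (Cfsg.pCoreOf p M) H with hN
  by_contra hne
  have hlt : N < H := lt_of_le_of_ne (nclIn_le _ _) hne
  refine hY ((hmin N (le_nclIn hOH) hlt).trans ?_)
  exact le_pCoreOf_of_normal ((pCoreOf_le N).trans (nclIn_le _ _))
    (le_normalizer_map_characteristic (nclIn_normalizer _ _) _) (pCoreOf_isPGroup N)

theorem frakH_sup_residual {M H : Subgroup G} (hH : Cfsg.IsInFrakH p M H) :
    resOf p H ⊔ Cfsg.pCoreOf p M = H := by
  set O := Cfsg.pCoreOf p M with hO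
  have hOH : O ≤ H := hH.2.1
  set X : Subgroup H := Cfsg.pResidual p H ⊔ O.subgroupOf H with hX
  have hnil : Group.IsNilpotent (H ⧸ Cfsg.pResidual p H) :=
    (Fusion.isPGroup_quotient_pResidual (G := H) (p := p)).isNilpotent
  have hsn : X.IsSubnormal := by
    have h := (Cfsg.Agent.S3937.isSubnormal_of_nilpotent ((O.subgroupOf H).map (QuotientGroup.mk' (Cfsg.pResidual p H)))).comap
      (QuotientGroup.mk' (Cfsg.pResidual p H))
    rw [Subgroup.comap_map_eq, QuotientGroup.ker_mk'] at h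
    rwa [hX, sup_comm]
  have htop : X = ⊤ := by
    by_contra hne
    obtain ⟨N, hNn, hle, hlt⟩ := hsn.lt_normal.resolve_left hne
    haveI := hNn
    have h1 : nclIn O H ≤ N.map H.subtype :=
      nclIn_le_of_normalized (fun a ha => ⟨⟨a, hOH ha⟩, hle (mem_sup_right (show (⟨a, hOH ha⟩ : H) ∈ O.subgroupOf H from ha)), rfl⟩)
        (le_normalizer_map_of_normal H N)
    rw [nclIn_pCore_eq hH] at h1
    refine hlt.ne (eq_top_iff.mpr ?_)
    rintro ⟨x, hx⟩ -
    obtain ⟨y, hy, hyx⟩ := h1 hx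
    exact (Subtype.ext hyx : y = ⟨x, hx⟩) ▸ hy
  have h2 := congrArg (Subgroup.map H.subtype) htop
  rw [hX, Subgroup.map_sup, ← MonoidHom.range_eq_map, range_subtype, map_subgroupOf_eq_of_le hOH] at h2
  exact h2

theorem frakH_commutator {M H : Subgroup G} (hH : Cfsg.IsInFrakH p M H) :
    ⁅resOf p H, Cfsg.largestPReducedOf p M⁆ = resOf p H ∧
      resOf p H ⊔ Cfsg.largestPReducedOf p M = nclIn (Cfsg.largestPReducedOf p M) H := by
  set O := Cfsg.pCoreOf p M with hO
  set Y := Cfsg.largestPReducedOf p M with hY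
  set R := resOf p H with hR
  have hOH : O ≤ H := hH.2.1
  have hYO : Y ≤ O := reduced_le_pCoreOf (reducedIn_largest M)
  have hYH : Y ≤ H := hYO.trans hOH
  have hsup := frakH_sup_residual hH
  have hHR : H ≤ normalizer (R : Set G) := le_normalizer_resOf p Subgroup.le_normalizer
  have hOY : O ≤ normalizer (Y : Set G) := (pCoreOf_le M).trans (reducedIn_largest M).le_normalizer
  set K : Subgroup G := ⁅R, Y⁆ with hK
  have hKR : K ≤ R := Subgroup.le_normalizer_iff_commutator_le_left.mp (hYH.trans hHR)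
  have hKH : H ≤ normalizer (K : Set G) := by
    conv_lhs => rw [← hsup]
    exact sup_le (le_sup_left.trans Coprime.le_normalizer_commutator)
      (le_normalizer_commutator_of_le (hOH.trans hHR) hOY)
  have hKYH : H ≤ normalizer ((K ⊔ Y : Subgroup G) : Set G) := by
    conv_lhs => rw [← hsup]
    refine sup_le (fun r hr => Layer.mem_normalizer_of_conj_mem fun x hx => ?_)
      (Coprime.le_normalizer_sup (hOH.trans hKH) hOY)
    suffices K ⊔ Y ≤ (K ⊔ Y).comap (MulAut.conj r).toMonoidHom from this hx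
    refine sup_le (fun z hz => mem_comap.mpr (mem_sup_left
      ((mem_normalizer_iff.mp (hKH (resOf_le p H hr)) z).mp hz))) fun y hy => ?_
    show r * y * r⁻¹ ∈ K ⊔ Y
    rw [show r * y * r⁻¹ = ⁅r, y⁆ * y by simp only [commutatorElement_def]; group]
    exact mul_mem (mem_sup_left (commutator_mem_commutator hr hy)) (mem_sup_right hy)
  have hN : nclIn Y H ≤ K ⊔ Y := nclIn_le_of_normalized le_sup_right hKYH
  have hP : K ⊔ O = H := by
    by_contra hne
    have hlt : K ⊔ O < H := lt_of_le_of_ne (sup_le (hKR.trans (resOf_le p H)) hOH) hne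
    have hYP := hH.2.2.2 _ le_sup_right hlt
    set P := K ⊔ O with hPdef
    set N := nclIn Y H with hNdef
    have hNP : N ≤ P := hN.trans (sup_le le_sup_left (hYO.trans le_sup_right))
    refine hH.2.2.1 (le_trans (le_inf hYP (le_nclIn hYH)) ?_)
    have h1 : Cfsg.pCoreOf p P ⊓ N ≤ Cfsg.pCoreOf p N :=
      le_pCoreOf_of_normal inf_le_right
        (Coprime.le_normalizer_inf (hNP.trans (le_normalizer_pCoreOf P)) Subgroup.le_normalizer)
        ((pCoreOf_isPGroup P).to_le inf_le_left)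
    exact h1.trans (le_pCoreOf_of_normal ((pCoreOf_le N).trans (nclIn_le Y H))
      (le_normalizer_map_characteristic (nclIn_normalizer Y H) _) (pCoreOf_isPGroup N))
  have hRK : R ≤ K := by
    refine resOf_le_iff.mpr fun g hg hgc => ?_
    haveI : (K.subgroupOf H).Normal := normal_subgroupOf_of_le_normalizer hKH
    have h1 : (⟨g, hg⟩ : H) ∈ K.subgroupOf H ⊔ O.subgroupOf H := by
      have h2 : (K.subgroupOf H ⊔ O.subgroupOf H).map H.subtype = H := by
        rw [Subgroup.map_sup, map_subgroupOf_eq_of_le (hKR.trans (resOf_le p H)), map_subgroupOf_eq_of_le hOH, hP]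
      obtain ⟨y, hy, hyx⟩ := h2.ge hg
      exact (Subtype.ext hyx : y = ⟨g, hg⟩) ▸ hy
    exact mem_of_coprime_of_mem_sup (N := K.subgroupOf H) ((pCoreOf_isPGroup M).comap_subtype) h1
      (by rwa [Subgroup.orderOf_mk])
  have hKeq : K = R := le_antisymm hKR hRK
  refine ⟨hKeq, le_antisymm (sup_le ?_ (le_nclIn hYH)) (hKeq ▸ hN)⟩
  rw [← hKeq, hK, commutator_le]
  intro r hr y hy
  rw [commutatorElement_def]
  exact mul_mem (conj_mem_nclIn hYH (resOf_le p H hr) hy) (inv_mem (le_nclIn hYH hy))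

/-- A normal subgroup of `H ∈ ℌ` not containing `O^p(H)` is `p`-closed. -/
theorem frakH_pClosed {M H : Subgroup G} (hH : Cfsg.IsInFrakH p M H) {D : Subgroup G} (hDH : D ≤ H)
    (hHD : H ≤ normalizer (D : Set G)) (hR : ¬ resOf p H ≤ D) :
    ∀ x ∈ D, (∃ k, orderOf x = p ^ k) → x ∈ Cfsg.pCoreOf p H := by
  set O := Cfsg.pCoreOf p M with hO
  set Y := Cfsg.largestPReducedOf p M with hY
  set R := resOf p H with hRdef
  set U := Cfsg.pCoreOf p H with hU
  have hOH : O ≤ H := hH.2.1
  have hYO : Y ≤ O := reduced_le_pCoreOf (reducedIn_largest M)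
  have hlt : D ⊔ O < H := by
    refine lt_of_le_of_ne (sup_le hDH hOH) fun e => hR (resOf_le_iff.mpr fun g hg hgc => ?_)
    haveI : (D.subgroupOf H).Normal := normal_subgroupOf_of_le_normalizer hHD
    have h1 : (⟨g, hg⟩ : H) ∈ D.subgroupOf H ⊔ O.subgroupOf H := by
      have h2 : (D.subgroupOf H ⊔ O.subgroupOf H).map H.subtype = H := by
        rw [Subgroup.map_sup, map_subgroupOf_eq_of_le hDH, map_subgroupOf_eq_of_le hOH, e]
      obtain ⟨y, hy, hyx⟩ := h2.ge hg
      exact (Subtype.ext hyx : y = ⟨g, hg⟩) ▸ hy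
    exact mem_of_coprime_of_mem_sup (N := D.subgroupOf H) ((pCoreOf_isPGroup M).comap_subtype) h1
      (by rwa [Subgroup.orderOf_mk])
  set P := D ⊔ O with hP
  have hYP : Y ≤ Cfsg.pCoreOf p P := hH.2.2.2 _ le_sup_right hlt
  have hDY : ⁅D, Y⁆ ≤ U := by
    have h1 : ⁅D, Y⁆ ≤ D ⊓ Cfsg.pCoreOf p P := le_inf
      (Subgroup.le_normalizer_iff_commutator_le_left.mp ((hYO.trans hOH).trans hHD))
      ((commutator_mono le_rfl hYP).trans (Subgroup.le_normalizer_iff_commutator_le_right.mp
        ((le_sup_left : D ≤ P).trans (le_normalizer_pCoreOf P))))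
    refine h1.trans ((?_ : D ⊓ Cfsg.pCoreOf p P ≤ Cfsg.pCoreOf p D).trans (le_pCoreOf_of_normal
      ((pCoreOf_le D).trans hDH) (le_normalizer_map_characteristic hHD _) (pCoreOf_isPGroup D)))
    exact le_pCoreOf_of_normal inf_le_left
      (Coprime.le_normalizer_inf Subgroup.le_normalizer ((le_sup_left : D ≤ P).trans (le_normalizer_pCoreOf P)))
      ((pCoreOf_isPGroup P).to_le inf_le_right)
  have hHU : H ≤ normalizer (U : Set G) := le_normalizer_pCoreOf H
  -- elements of `H` commuting with `D` modulo `O_p(H)`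
  let E : Subgroup H :=
    { carrier := {h | ∀ d ∈ D, ⁅(h : G), d⁆ ∈ U}
      mul_mem' := by
        intro a b ha hb d hd
        show ⁅(a : G) * b, d⁆ ∈ U
        rw [show ⁅(a : G) * b, d⁆ = (a : G) * ⁅(b : G), d⁆ * (a : G)⁻¹ * ⁅(a : G), d⁆ by
          simp only [commutatorElement_def]; group]
        exact U.mul_mem ((mem_normalizer_iff.mp (hHU a.2) _).mp (hb d hd)) (ha d hd)
      one_mem' := fun d _ => by
        rw [OneMemClass.coe_one, commutatorElement_one_left]; exact U.one_mem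
      inv_mem' := by
        intro a ha d hd
        show ⁅(a : G)⁻¹, d⁆ ∈ U
        rw [show ⁅(a : G)⁻¹, d⁆ = (a : G)⁻¹ * (⁅(a : G), d⁆⁻¹) * (a : G)⁻¹⁻¹ by
          simp only [commutatorElement_def]; group]
        exact (mem_normalizer_iff.mp (hHU (H.inv_mem a.2)) _).mp (inv_mem (ha d hd)) }
  have hEn : E.Normal := by
    refine ⟨fun e he h d hd => ?_⟩
    have hd' : (h : G)⁻¹ * d * h ∈ D := by
      simpa using (mem_normalizer_iff.mp (hHD (H.inv_mem h.2)) d).mp hd
    show ⁅(h : G) * e * (h : G)⁻¹, d⁆ ∈ U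
    rw [show ⁅(h : G) * e * (h : G)⁻¹, d⁆ = (h : G) * ⁅(e : G), (h : G)⁻¹ * d * h⁆ * (h : G)⁻¹ by
      simp only [commutatorElement_def]; group]
    exact (mem_normalizer_iff.mp (hHU h.2) _).mp (he _ hd')
  have hYE : nclIn Y H ≤ E.map H.subtype := by
    refine map_mono (normalClosure_le_normal (N := E) fun y hy d hd => ?_)
    rw [← commutatorElement_inv d (y : G)]
    exact inv_mem (hDY (commutator_mem_commutator hd hy))
  have hRE : R ≤ E.map H.subtype := (le_sup_left.trans (frakH_commutator hH).2.le).trans hYE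
  rintro x hx ⟨k, hk⟩
  have hxH : x ∈ H := hDH hx
  set X : Subgroup H := zpowers (⟨x, hxH⟩ : H) ⊔ Cfsg.pCore p H with hX
  have hXp : IsPGroup p X := (isPGroup_zpowers_of_orderOf (k := k)
    (by rwa [Subgroup.orderOf_mk])).to_sup_of_normal_right Core.pCore_isPGroup
  set R' : Subgroup H := Cfsg.pResidual p H with hR'
  have hRX : R' ≤ normalizer (X : Set H) := by
    intro r hr
    refine Layer.mem_normalizer_of_conj_mem fun y hy => ?_
    suffices X ≤ X.comap (MulAut.conj r).toMonoidHom from this hy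
    refine sup_le (zpowers_le.mpr ?_) fun z hz =>
      mem_comap.mpr (mem_sup_right (Normal.conj_mem (H := Cfsg.pCore p H) inferInstance z hz r))
    show r * ⟨x, hxH⟩ * r⁻¹ ∈ X
    obtain ⟨e, he, her⟩ := hRE ⟨r, hr, rfl⟩
    have he' : r ∈ E := (Subtype.ext her : e = r) ▸ he
    obtain ⟨u, hu, hux⟩ := he' x hx
    have hux' : u = ⁅r, (⟨x, hxH⟩ : H)⁆ := Subtype.ext hux
    rw [show r * ⟨x, hxH⟩ * r⁻¹ = ⁅r, (⟨x, hxH⟩ : H)⁆ * ⟨x, hxH⟩ by simp only [commutatorElement_def]; group,
      ← hux']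
    exact mul_mem (mem_sup_right hu) (mem_sup_left (mem_zpowers _))
  have hnil : Group.IsNilpotent (H ⧸ R') := (Fusion.isPGroup_quotient_pResidual (G := H) (p := p)).isNilpotent
  have hsn : (X ⊔ R').IsSubnormal := by
    have h := (Cfsg.Agent.S3937.isSubnormal_of_nilpotent (X.map (QuotientGroup.mk' R'))).comap
      (QuotientGroup.mk' R')
    rwa [Subgroup.comap_map_eq, QuotientGroup.ker_mk'] at h
  have hXsn : X.IsSubnormal := IsSubnormal.trans le_sup_left
    (Subgroup.Normal.isSubnormal (normal_subgroupOf_of_le_normalizer (sup_le Subgroup.le_normalizer hRX))) hsn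
  exact ⟨⟨x, hxH⟩, Layer.subnormal_le_pCore hXsn hXp (mem_sup_left (mem_zpowers _)), rfl⟩

end Cfsg.Agent.LocalStructure
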