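import Mathlib
import Cfsg.Agent.Core.PCore
import Cfsg.Prelude.Def_Solvable

/-!
# The internal structure of the members of `𝔏`: elements of other orders act fixed point freely
-/

set_option autoImplicit false
set_option linter.all false

namespace Cfsg.Agent.LocalStructure

open Subgroup
open scoped commutatorElement Pointwise

variable {H : Type*} [Group H] {p : ℕ}

local notation "Ā" => QuotientGroup.mk' (Cfsg.pCore p H)

/-- The abstract setting. -/
structure LSetup (p : ℕ) (Y : Subgroup H) : Prop where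
  comm : ∀ a ∈ Y, ∀ b ∈ Y, Commute a b
  exp : ∀ y ∈ Y, y ^ p = 1
  ncl : Cfsg.pCore p H ≤ normalClosure ((Y ⊓ Cfsg.pCore p H : Subgroup H) : Set H)
  core_le : Cfsg.pCore p H ≤ normalizer (Y : Set H)
  gen : normalClosure (Y : Set H) = ⊤
  proper : normalizer (Y : Set H) ≠ ⊤
  max : ∀ X : Subgroup H, Y ≤ X → X ≠ ⊤ → X ≤ normalizer (Y : Set H)
  small : ∀ R : Subgroup (H ⧸ Cfsg.pCore p H), IsPGroup p R →
    {x | x ∈ R ∧ x ^ p = 1}.ncard ≤ Nat.card (Y.map (QuotientGroup.mk' (Cfsg.pCore p H)))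

/-- A conjugate of a subgroup. -/
abbrev cj (g : H) (Y : Subgroup H) : Subgroup H := Y.map (MulAut.conj g).toMonoidHom

theorem mem_cj {g x : H} {Y : Subgroup H} : x ∈ cj g Y ↔ g⁻¹ * x * g ∈ Y := by
  constructor
  · rintro ⟨y, hy, rfl⟩
    simpa [mul_assoc] using hy
  · intro h
    exact ⟨_, h, by simp [mul_assoc]⟩

theorem cj_cj (g k : H) (Y : Subgroup H) : cj g (cj k Y) = cj (g * k) Y := by
  ext x; simp only [mem_cj]; group

theorem cj_one (Y : Subgroup H) : cj 1 Y = Y := by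
  ext x; simp [mem_cj]

theorem mem_normalizer_cj {g x : H} {Y : Subgroup H} :
    x ∈ normalizer ((cj g Y : Subgroup H) : Set H) ↔ g⁻¹ * x * g ∈ normalizer (Y : Set H) := by
  rw [mem_normalizer_iff, mem_normalizer_iff]
  constructor
  · intro h y
    have := h (g * y * g⁻¹)
    simp only [mem_cj] at this
    convert this using 2 <;> group
  · intro h y
    have := h (g⁻¹ * y * g)
    simp only [mem_cj]
    convert this using 2
    group

theorem cj_eq_of_mem_normalizer {g : H} {Y : Subgroup H} (h : g ∈ normalizer (Y : Set H)) : cj g Y = Y := by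
  ext x
  rw [mem_cj]
  have := (mem_normalizer_iff.mp (inv_mem h) x)
  rw [inv_inv] at this
  exact this.symm

variable {Y : Subgroup H}

theorem LSetup.conj (hY : LSetup p Y) (g : H) : LSetup p (cj g Y) where
  comm := by
    rintro _ ⟨a, ha, rfl⟩ _ ⟨b, hb, rfl⟩
    exact (hY.comm a ha b hb).map _
  exp := by
    rintro _ ⟨a, ha, rfl⟩
    rw [← map_pow, hY.exp a ha, map_one]
  ncl := by
    refine hY.ncl.trans (normalClosure_le_normal fun x hx => ?_)
    have h : g * x * g⁻¹ ∈ normalClosure ((cj g Y ⊓ Cfsg.pCore p H : Subgroup H) : Set H) :=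
      subset_normalClosure ⟨mem_cj.mpr (by simpa [mul_assoc] using hx.1),
        (Core.pCore_normal (p := p) (G := H)).conj_mem x hx.2 g⟩
    have := normalClosure_normal.conj_mem _ h g⁻¹
    simpa [mul_assoc] using this
  core_le := fun x hx => mem_normalizer_cj.mpr (hY.core_le (by
    have := (Core.pCore_normal (p := p) (G := H)).conj_mem x hx g⁻¹
    simpa using this))
  gen := by
    rw [eq_top_iff, ← hY.gen]
    refine normalClosure_le_normal fun x hx => ?_
    have := normalClosure_normal.conj_mem _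
      (subset_normalClosure (show g * x * g⁻¹ ∈ ((cj g Y : Subgroup H) : Set H) from mem_cj.mpr (by simpa [mul_assoc] using hx))) g⁻¹
    simpa [mul_assoc] using this
  proper := fun h => hY.proper (eq_top_iff.mpr fun x _ => by
    have := mem_normalizer_cj.mp (h.ge (mem_top (g * x * g⁻¹)))
    simpa [mul_assoc] using this)
  max := fun X hX hne => by
    intro x hx
    refine mem_normalizer_cj.mpr (hY.max (cj g⁻¹ X) ?_ ?_ (mem_cj.mpr (by simpa [mul_assoc] using hx)))
    · intro y hy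
      exact mem_cj.mpr (by simpa using hX (mem_cj.mpr (show g⁻¹ * (g * y * g⁻¹) * g ∈ Y by simpa [mul_assoc] using hy)))
    · intro h
      apply hne
      rw [eq_top_iff]
      intro z _
      have := mem_cj.mp (h.ge (mem_top (g⁻¹ * z * g)))
      simpa [mul_assoc] using this
  small := fun R hR => by
    refine (hY.small R hR).trans (le_of_eq ?_)
    have e : (cj g Y).map Ā = (Y.map Ā).map (MulAut.conj (Ā g)).toMonoidHom := by
      rw [Subgroup.map_map, Subgroup.map_map]
      congr 1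
    rw [e]
    exact Nat.card_congr ((equivMapOfInjective _ _ (MulAut.conj _).injective).toEquiv)

/-- The central part. -/
abbrev centralPart (Y : Subgroup H) : Subgroup H := Y ⊓ center H

instance centralPart_normal (Y : Subgroup H) : (centralPart Y).Normal :=
  ⟨fun x hx g => by rw [mem_center_iff.mp hx.2 g, mul_inv_cancel_right]; exact hx⟩

theorem centralPart_cj (g : H) (Y : Subgroup H) : centralPart (cj g Y) = centralPart Y := by
  ext x
  constructor
  · rintro ⟨h1, h2⟩
    refine ⟨?_, h2⟩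
    have := mem_cj.mp h1
    rwa [mem_center_iff.mp h2, inv_mul_cancel_right] at this
  · rintro ⟨h1, h2⟩
    exact ⟨mem_cj.mpr (by rwa [mem_center_iff.mp h2, inv_mul_cancel_right]), h2⟩

theorem commute_mk_iff {D : Subgroup H} [D.Normal] {x y : H} :
    Commute (QuotientGroup.mk' D x) (QuotientGroup.mk' D y) ↔ ⁅x, y⁆ ∈ D := by
  rw [← commutatorElement_eq_one_iff_commute, ← map_commutatorElement, QuotientGroup.mk'_apply, QuotientGroup.eq_one_iff]

theorem LSetup.centralPart_le (hY : LSetup p Y) : centralPart Y ≤ Cfsg.pCore p H :=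
  Core.le_pCore (fun x => ⟨1, by rw [pow_one]; exact Subtype.ext (hY.exp _ x.2.1)⟩)

theorem LSetup.sup_cj (hY : LSetup p Y) {g : H} (hg : g ∉ normalizer (Y : Set H)) [Finite H] :
    Y ⊔ cj g Y = ⊤ := by
  by_contra hne
  set N := normalizer (Y : Set H) with hN
  have h1 : cj g Y ≤ N := le_sup_right.trans (hY.max _ le_sup_left hne)
  have h2 : Y ≤ cj g⁻¹ N := fun y hy => mem_cj.mpr (by
    have := h1 (mem_cj.mpr (show g⁻¹ * (g * y * g⁻¹) * g ∈ Y by simpa [mul_assoc] using hy))
    simpa using this)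
  have h3 : cj g⁻¹ N ≠ ⊤ := fun h => hY.proper (eq_top_iff.mpr fun x _ => by
    have := mem_cj.mp (h.ge (mem_top (g⁻¹ * x * g)))
    simpa [mul_assoc] using this)
  have h4 : cj g⁻¹ N = N := eq_of_le_of_card_ge (hY.max _ h2 h3)
    (le_of_eq (Nat.card_congr (equivMapOfInjective _ _ (MulAut.conj g⁻¹).injective).toEquiv))
  have h5 : normalizer (N : Set H) ≠ ⊤ := fun h => by
    haveI : N.Normal := normalizer_eq_top_iff.mp h
    exact hY.proper (eq_top_iff.mpr (hY.gen.ge.trans (normalClosure_le_normal le_normalizer)))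
  refine hg (hY.max _ (le_normalizer.trans le_normalizer) h5 ?_)
  rw [mem_normalizer_iff]
  intro x
  constructor
  · intro hx
    have := mem_cj.mp (h4.ge hx)
    simpa using this
  · intro hx
    exact h4.le (mem_cj.mpr (by simpa using hx))

theorem LSetup.inf_cj_le (hY : LSetup p Y) {g : H} (hg : g ∉ normalizer (Y : Set H)) [Finite H] :
    Y ⊓ cj g Y ≤ centralPart Y := by
  rintro x ⟨h1, h2⟩
  refine ⟨h1, mem_center_iff.mpr fun z => ?_⟩
  have hle : Y ⊔ cj g Y ≤ centralizer {x} := sup_le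
    (fun y hy => mem_centralizer_singleton_iff.mpr (hY.comm x h1 y hy).symm.eq)
    (fun y hy => mem_centralizer_singleton_iff.mpr ((hY.conj g).comm x h2 y hy).symm.eq)
  rw [hY.sup_cj hg] at hle
  exact mem_centralizer_singleton_iff.mp (hle (mem_top z))

theorem LSetup.inf_le (hY : LSetup p Y) {g k : H} (hne : cj g Y ≠ cj k Y) [Finite H] :
    cj g Y ⊓ cj k Y ≤ centralPart Y := by
  have e : cj k Y = cj (k * g⁻¹) (cj g Y) := by rw [cj_cj, inv_mul_cancel_right]
  rw [e, ← centralPart_cj g Y]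
  refine (hY.conj g).inf_cj_le fun h => hne ?_
  rw [e, cj_eq_of_mem_normalizer h]

theorem LSetup.exists_not_mem (hY : LSetup p Y) : ∃ g, g ∉ normalizer (Y : Set H) := by
  by_contra h
  push Not at h
  exact hY.proper (eq_top_iff.mpr fun x _ => h x)

theorem LSetup.commutator_mem (hY : LSetup p Y) {y a : H} (hy : y ∈ Y) (ha : a ∈ Cfsg.pCore p H) :
    ⁅y, a⁆ ∈ Y ⊓ Cfsg.pCore p H := by
  refine ⟨?_, ?_⟩
  · rw [commutatorElement_def, mul_assoc y a, mul_assoc]
    exact mul_mem hy ((mem_normalizer_iff.mp (hY.core_le ha) _).mp (inv_mem hy))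
  · rw [commutatorElement_def]
    exact mul_mem ((Core.pCore_normal (p := p) (G := H)).conj_mem a ha y) ((Cfsg.pCore p H).inv_mem ha)

/-- `O_p` is the product of two of the intersections. -/
theorem LSetup.core_le_sup (hY : LSetup p Y) {g : H} (hg : g ∉ normalizer (Y : Set H)) [Finite H] :
    Cfsg.pCore p H ≤ (Y ⊓ Cfsg.pCore p H) ⊔ (cj g Y ⊓ Cfsg.pCore p H) := by
  set P := (Y ⊓ Cfsg.pCore p H) ⊔ (cj g Y ⊓ Cfsg.pCore p H) with hP
  have key : ∀ g₁ : H, (g₁ = 1 ∨ g₁ = g) → ∀ y ∈ cj g₁ Y, ∀ x ∈ P, y * x * y⁻¹ ∈ P := by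
    intro g₁ hg₁ y hy
    have hsub : cj g₁ Y ⊓ Cfsg.pCore p H ≤ P := by
      rcases hg₁ with rfl | rfl
      · rw [cj_one]; exact le_sup_left
      · exact le_sup_right
    have hgen : ∀ x ∈ Cfsg.pCore p H, x ∈ P → y * x * y⁻¹ ∈ P := fun x hx hxP => by
      rw [show y * x * y⁻¹ = ⁅y, x⁆ * x by rw [commutatorElement_def]; group]
      exact mul_mem (hsub ((hY.conj g₁).commutator_mem hy hx)) hxP
    have : P ≤ P.comap (MulAut.conj y).toMonoidHom := sup_le
      (fun x hx => hgen x hx.2 (mem_sup_left hx)) (fun x hx => hgen x hx.2 (mem_sup_right hx))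
    exact fun x hx => this hx
  have hnorm : ∀ g₁ : H, (g₁ = 1 ∨ g₁ = g) → cj g₁ Y ≤ normalizer (P : Set H) := by
    intro g₁ hg₁ y hy
    rw [mem_normalizer_iff]
    refine fun x => ⟨key g₁ hg₁ y hy x, fun hx => ?_⟩
    have := key g₁ hg₁ y⁻¹ (inv_mem hy) _ hx
    simpa [mul_assoc] using this
  have htop : normalizer (P : Set H) = ⊤ := by
    rw [eq_top_iff, ← hY.sup_cj hg]
    exact sup_le (by simpa [cj_one] using hnorm 1 (Or.inl rfl)) (hnorm g (Or.inr rfl))
  haveI : P.Normal := normalizer_eq_top_iff.mp htop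
  exact hY.ncl.trans (normalClosure_le_normal fun x hx => mem_sup_left hx)

theorem LSetup.core_comm (hY : LSetup p Y) [Finite H] {a b : H}
    (ha : a ∈ Cfsg.pCore p H) (hb : b ∈ Cfsg.pCore p H) :
    Commute (QuotientGroup.mk' (centralPart Y) a) (QuotientGroup.mk' (centralPart Y) b) := by
  obtain ⟨g, hg⟩ := hY.exists_not_mem
  set π := QuotientGroup.mk' (centralPart Y)
  have hself : ∀ (Z : Subgroup H), LSetup p Z → ∀ u ∈ Z, ∀ v ∈ Z, Commute (π u) (π v) :=
    fun Z hZ u hu v hv => (hZ.comm u hu v hv).map π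
  have hcross : ∀ u ∈ Y ⊓ Cfsg.pCore p H, ∀ v ∈ cj g Y ⊓ Cfsg.pCore p H, Commute (π u) (π v) := by
    rintro u ⟨hu, huA⟩ v ⟨hv, hvA⟩
    rw [commute_mk_iff]
    refine hY.inf_cj_le hg ⟨?_, ?_⟩
    · rw [commutatorElement_def, mul_assoc u v, mul_assoc]
      exact mul_mem hu ((mem_normalizer_iff.mp (hY.core_le hvA) _).mp (inv_mem hu))
    · rw [commutatorElement_def]
      exact mul_mem ((mem_normalizer_iff.mp ((hY.conj g).core_le huA) _).mp hv) ((cj g Y).inv_mem hv)
  have hle := hY.core_le_sup hg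
  have hX : ∀ v, (∀ u ∈ Y ⊓ Cfsg.pCore p H, Commute (π u) (π v)) →
      (∀ u ∈ cj g Y ⊓ Cfsg.pCore p H, Commute (π u) (π v)) → ∀ u ∈ Cfsg.pCore p H, Commute (π u) (π v) := by
    intro v h1 h2 u hu
    have : (Y ⊓ Cfsg.pCore p H) ⊔ (cj g Y ⊓ Cfsg.pCore p H) ≤ (centralizer {π v}).comap π :=
      sup_le (fun z hz => mem_centralizer_singleton_iff.mpr (h1 z hz).eq)
        (fun z hz => mem_centralizer_singleton_iff.mpr (h2 z hz).eq)
    exact mem_centralizer_singleton_iff.mp (this (hle hu))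
  refine hX b (fun u hu => (hX u (fun v hv => (hself Y hY v hv.1 u hu.1)) (fun v hv => (hcross u hu v hv).symm) b hb).symm)
    (fun u hu => (hX u (fun v hv => hcross v hv u hu) (fun v hv => hself _ (hY.conj g) v hv.1 u hu.1) b hb).symm) a ha

theorem pPower_of_central_one {x : H ⧸ Cfsg.pCore p H} [Finite H] [Fact p.Prime]
    (hc : ∀ z, z * x = x * z) (hx : x ^ p = 1) : x = 1 := by
  haveI : (zpowers x).Normal := by
    refine ⟨fun u hu g => ?_⟩
    obtain ⟨k, rfl⟩ := mem_zpowers_iff.mp hu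
    rw [((show Commute g x from hc g).zpow_right k).eq, mul_inv_cancel_right]
    exact zpow_mem (mem_zpowers x) k
  have hp : IsPGroup p (zpowers x) := fun u => ⟨1, by
    obtain ⟨k, hk⟩ := mem_zpowers_iff.mp u.2
    apply Subtype.ext
    rw [pow_one, SubmonoidClass.coe_pow, ← hk, OneMemClass.coe_one, ← zpow_natCast, ← zpow_mul, mul_comm, zpow_mul, zpow_natCast, hx, one_zpow]⟩
  have := Core.le_pCore hp
  rw [Core.pCore_quotient_eq_bot, le_bot_iff, zpowers_eq_bot] at this
  exact this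

theorem LSetup.isPGroup_map (hY : LSetup p Y) : IsPGroup p (Y.map Ā) := fun u => ⟨1, by
  obtain ⟨y, hy, hu⟩ := u.2
  apply Subtype.ext
  rw [pow_one, SubmonoidClass.coe_pow, ← hu, ← map_pow, hY.exp y hy, map_one, OneMemClass.coe_one]⟩

theorem LSetup.not_normalize (hY : LSetup p Y) [Finite H] [Fact p.Prime] {g y : H}
    (hg : g ∉ normalizer (Y : Set H)) (hy : y ∈ Y) (hn : y ∈ normalizer ((cj g Y : Subgroup H) : Set H)) :
    y ∈ Cfsg.pCore p H := by
  set Q := (cj g Y).map Ā with hQ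
  have hyQ : Ā y ∈ Q := by
    by_contra hne
    have hp : IsPGroup p (zpowers (Ā y)) := hY.isPGroup_map.to_le (zpowers_le.mpr (mem_map_of_mem _ hy))
    have hnorm : zpowers (Ā y) ≤ normalizer (Q : Set _) := zpowers_le.mpr
      ((le_normalizer_map Ā) (mem_map_of_mem _ hn))
    have hR := hp.to_sup_of_normal_right' (hY.conj g).isPGroup_map hnorm
    have h1 := (hY.conj g).small _ hR
    have h2 : (insert (Ā y) (Q : Set (H ⧸ Cfsg.pCore p H))).ncard ≤ Nat.card Q := by
      refine le_trans (Set.ncard_le_ncard ?_ (Set.toFinite _)) h1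
      rintro x (rfl | hx)
      · exact ⟨mem_sup_left (mem_zpowers _), by rw [← map_pow, hY.exp y hy, map_one]⟩
      · refine ⟨mem_sup_right hx, ?_⟩
        obtain ⟨z, hz, rfl⟩ := hx
        rw [← map_pow, (hY.conj g).exp z hz, map_one]
    rw [Set.ncard_insert_of_notMem hne (Set.toFinite _), ← Nat.card_coe_set_eq] at h2
    exact absurd h2 (Nat.not_succ_le_self _)
  obtain ⟨z, hz, hzy⟩ := hyQ
  have hc : Y ⊔ cj g Y ≤ (centralizer {Ā y}).comap Ā := sup_le
    (fun w hw => mem_centralizer_singleton_iff.mpr ((hY.comm w hw y hy).map Ā).eq)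
    (fun w hw => mem_centralizer_singleton_iff.mpr (by rw [← hzy]; exact (((hY.conj g).comm w hw z hz).map Ā).eq))
  rw [hY.sup_cj hg] at hc
  have h1 : Ā y = 1 := pPower_of_central_one (fun w => by
    obtain ⟨w, rfl⟩ := QuotientGroup.mk'_surjective (Cfsg.pCore p H) w
    exact mem_centralizer_singleton_iff.mp (hc (mem_top w))) (by rw [← map_pow, hY.exp y hy, map_one])
  exact (QuotientGroup.eq_one_iff y).mp h1

/-- An element of `Y` outside `O_p` centralizes modulo the central part only the elements of `Y`. -/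
theorem LSetup.mem_of_commute (hY : LSetup p Y) [Finite H] [Fact p.Prime] {y a : H} (hy : y ∈ Y)
    (hyA : y ∉ Cfsg.pCore p H) (ha : a ∈ Cfsg.pCore p H)
    (hc : Commute (QuotientGroup.mk' (centralPart Y) y) (QuotientGroup.mk' (centralPart Y) a)) : a ∈ Y := by
  obtain ⟨g, hg⟩ := hY.exists_not_mem
  set π := QuotientGroup.mk' (centralPart Y) with hπ
  have hn : (cj g Y ⊓ Cfsg.pCore p H) ≤ normalizer ((Y ⊓ Cfsg.pCore p H : Subgroup H) : Set H) := by
    intro x hx
    rw [mem_normalizer_iff]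
    intro u
    rw [mem_inf, mem_inf, ← mem_normalizer_iff.mp (hY.core_le hx.2) u]
    refine and_congr Iff.rfl ⟨fun hu => mul_mem (mul_mem (mem_inf.mp hx).2 hu) (inv_mem (mem_inf.mp hx).2), fun hu => ?_⟩
    have := mul_mem (mul_mem (inv_mem (mem_inf.mp hx).2) hu) (mem_inf.mp hx).2
    simpa [mul_assoc] using this
  have hmem := hY.core_le_sup hg ha
  rw [← SetLike.mem_coe, coe_mul_of_right_le_normalizer_left _ _ hn] at hmem
  obtain ⟨w, hw, w', hw', rfl⟩ := hmem
  refine mul_mem (mem_inf.mp hw).1 ?_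
  have hc' : Commute (π y) (π w') := by
    have h1 : Commute (π y) (π w) := (hY.comm y hy w hw.1).map π
    have h2 := h1.inv_right.mul_right hc
    rwa [← map_inv, ← map_mul, inv_mul_cancel_left] at h2
  set X := (centralizer {π w'}).comap π with hX
  have hXtop : X = ⊤ := by
    by_contra hne
    have hle : cj g Y ≤ X := fun u hu => mem_centralizer_singleton_iff.mpr (((hY.conj g).comm u hu w' hw'.1).map π).eq
    exact hyA (hY.not_normalize hg hy ((hY.conj g).max X hle hne (mem_centralizer_singleton_iff.mpr hc'.eq)))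
  have hcen : ∀ z : H, Commute (π z) (π w') := fun z =>
    mem_centralizer_singleton_iff.mp (hXtop.ge (mem_top z))
  have hd : ⁅g⁻¹, w'⁆ ∈ centralPart Y := commute_mk_iff.mp (hcen g⁻¹)
  have hu : g⁻¹ * w' * g ∈ Y := mem_cj.mp hw'.1
  have := mul_mem (inv_mem (mem_inf.mp hd).1) hu
  rwa [commutatorElement_def, inv_inv, show (g⁻¹ * w' * g * w'⁻¹)⁻¹ * (g⁻¹ * w' * g) = w' by group] at this

theorem LSetup.mem_cj_of_commute (hY : LSetup p Y) [Finite H] [Fact p.Prime] {g y a : H} (hy : y ∈ cj g Y)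
    (hyA : y ∉ Cfsg.pCore p H) (ha : a ∈ Cfsg.pCore p H)
    (hc : Commute (QuotientGroup.mk' (centralPart Y) y) (QuotientGroup.mk' (centralPart Y) a)) : a ∈ cj g Y := by
  refine (hY.conj g).mem_of_commute hy hyA ha ?_
  rw [commute_mk_iff] at hc ⊢
  rwa [centralPart_cj]

theorem LSetup.exists_cj_mem (hY : LSetup p Y) [Finite H] [Fact p.Prime] {x : H ⧸ Cfsg.pCore p H}
    (hx : x ^ p = 1) : ∃ g, ∃ X ∈ cj g Y, Ā X = x := by
  obtain ⟨P0, hP0⟩ := hY.isPGroup_map.exists_le_sylow
  have hxp : IsPGroup p (zpowers x) := fun u => ⟨1, by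
    obtain ⟨k, hk⟩ := mem_zpowers_iff.mp u.2
    apply Subtype.ext
    rw [pow_one, SubmonoidClass.coe_pow, ← hk, OneMemClass.coe_one, ← zpow_natCast, ← zpow_mul, mul_comm, zpow_mul, zpow_natCast, hx, one_zpow]⟩
  obtain ⟨P, hP⟩ := hxp.exists_le_sylow
  obtain ⟨cb, hcb⟩ := MulAction.exists_smul_eq (H ⧸ Cfsg.pCore p H) P0 P
  obtain ⟨c, rfl⟩ := QuotientGroup.mk'_surjective (Cfsg.pCore p H) cb
  refine ⟨c, ?_⟩
  set Q := (cj c Y).map Ā with hQ
  suffices x ∈ Q by
    obtain ⟨X, hX, hXx⟩ := this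
    exact ⟨X, hX, hXx⟩
  have hQP : Q ≤ (P : Subgroup _) := by
    rintro _ ⟨_, ⟨y, hy, rfl⟩, rfl⟩
    rw [← hcb, Sylow.coe_subgroup_smul]
    have := smul_mem_pointwise_smul (Ā y) (MulAut.conj (Ā c)) _ (hP0 (mem_map_of_mem _ hy))
    simpa using this
  by_contra hne
  have h1 := (hY.conj c).small _ P.isPGroup'
  have h2 : (insert x (Q : Set (H ⧸ Cfsg.pCore p H))).ncard ≤ Nat.card Q := by
    refine le_trans (Set.ncard_le_ncard ?_ (Set.toFinite _)) h1
    rintro z (rfl | hz)
    · exact ⟨hP (mem_zpowers _), hx⟩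
    · refine ⟨hQP hz, ?_⟩
      obtain ⟨w, hw, rfl⟩ := hz
      rw [← map_pow, (hY.conj c).exp w hw, map_one]
  rw [Set.ncard_insert_of_notMem hne (Set.toFinite _), ← Nat.card_coe_set_eq] at h2
  exact absurd h2 (Nat.not_succ_le_self _)

/-- Two elements of conjugates of `Y` whose product fixes `a` modulo the central part. -/
theorem LSetup.fix_prod (hY : LSetup p Y) [Finite H] [Fact p.Prime] {g k X Z a : H} (hX : X ∈ cj g Y)
    (hZ : Z ∈ cj k Y) (hXA : X ∉ Cfsg.pCore p H) (hZA : Z ∉ Cfsg.pCore p H) (hne : cj g Y ≠ cj k Y)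
    (ha : a ∈ Cfsg.pCore p H)
    (hc : Commute (QuotientGroup.mk' (centralPart Y) (X * Z)) (QuotientGroup.mk' (centralPart Y) a)) :
    a ∈ centralPart Y := by
  set π := QuotientGroup.mk' (centralPart Y) with hπ
  have e : π ⁅Z, a⁆ = π ⁅X⁻¹, a⁆ := by
    have h : π X * π Z * π a = π a * (π X * π Z) := by rw [← map_mul]; exact hc.eq
    rw [map_commutatorElement, map_commutatorElement, map_inv, commutatorElement_def, commutatorElement_def, inv_inv]
    have h' : π Z * π a * (π Z)⁻¹ = (π X)⁻¹ * π a * π X := by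
      calc π Z * π a * (π Z)⁻¹ = (π X)⁻¹ * (π X * π Z * π a) * (π Z)⁻¹ := by group
        _ = _ := by rw [h]; group
    rw [h']
  have hu : ⁅Z, a⁆ ∈ cj k Y := ((hY.conj k).commutator_mem hZ ha).1
  have hv : ⁅X⁻¹, a⁆ ∈ cj g Y := ((hY.conj g).commutator_mem (inv_mem hX) ha).1
  have hd : ⁅X⁻¹, a⁆⁻¹ * ⁅Z, a⁆ ∈ centralPart Y := by
    rw [← QuotientGroup.eq_one_iff]
    show π _ = 1
    rw [map_mul, map_inv, e, inv_mul_cancel]
  have hD : ∀ t : H, centralPart Y ≤ cj t Y := fun t => by rw [← centralPart_cj t Y]; exact inf_le_left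
  have hu' : ⁅Z, a⁆ ∈ centralPart Y := hY.inf_le hne ⟨by
    have := mul_mem hv (hD g hd)
    rwa [mul_inv_cancel_left] at this, hu⟩
  have h1 : Commute (π Z) (π a) := commute_mk_iff.mpr hu'
  have h2 : Commute (π X⁻¹) (π a) := by
    refine commute_mk_iff.mpr ?_
    have := mul_mem hu' (inv_mem hd)
    rwa [mul_inv_rev, inv_inv, mul_inv_cancel_left] at this
  rw [map_inv, Commute.inv_left_iff] at h2
  exact hY.inf_le hne ⟨hY.mem_cj_of_commute hX hXA ha h2, hY.mem_cj_of_commute hZ hZA ha h1⟩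

/-- The main statement. -/
theorem LSetup.mem_centralPart (hY : LSetup p Y) [Finite H] [Fact p.Prime]
    (hfac : ∀ hb : H ⧸ Cfsg.pCore p H, (orderOf hb).Prime → orderOf hb ≠ p →
      (∃ x y : H ⧸ Cfsg.pCore p H, x ^ p = 1 ∧ y ^ p = 1 ∧ hb = x * y) ∨
      ((∀ z, z * hb = hb * z) ∧ ∃ x y : H ⧸ Cfsg.pCore p H, x ^ p = 1 ∧ y ^ p = 1 ∧ hb = x * y * (x * y)))
    {h a : H} (hnp : ¬ ∃ k : ℕ, orderOf h = p ^ k) (ha : a ∈ Cfsg.pCore p H)
    (hc : ⁅h, a⁆ ∈ centralPart Y) : a ∈ centralPart Y := by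
  have hp := (Fact.out : p.Prime)
  set n := orderOf h with hn
  obtain ⟨r, hr, hrn, hrp⟩ : ∃ r, r.Prime ∧ r ∣ n ∧ r ≠ p := by
    by_contra hcon
    push Not at hcon
    exact hnp ⟨_, Nat.eq_prime_pow_of_unique_prime_dvd (orderOf_pos h).ne' fun {d} hd hdn => hcon d hd hdn⟩
  set π := QuotientGroup.mk' (centralPart Y) with hπ
  set h' := h ^ (n / r) with hh'
  have hcomm : Commute (π h') (π a) := by
    rw [hh', map_pow]
    exact (commute_mk_iff.mpr hc).pow_left _
  have ho : orderOf h' = r := orderOf_pow_orderOf_div (orderOf_pos h).ne' hrn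
  have hh'A : h' ∉ Cfsg.pCore p H := by
    intro hm
    obtain ⟨k, hk⟩ := Core.pCore_isPGroup (p := p) (G := H) ⟨h', hm⟩
    have h1 : orderOf h' ∣ p ^ k := orderOf_dvd_of_pow_eq_one (congrArg Subtype.val hk)
    rw [ho] at h1
    exact hrp ((Nat.prime_dvd_prime_iff_eq hr hp).mp (hr.dvd_of_dvd_pow h1))
  haveI := Fact.mk hr
  have hob : orderOf (Ā h') = r := orderOf_eq_prime
    (by rw [← map_pow, ← ho, pow_orderOf_eq_one, map_one])
    (fun e => hh'A ((QuotientGroup.eq_one_iff _).mp e))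
  have hnotp : Ā h' ^ p ≠ 1 := fun e => by
    have := orderOf_dvd_of_pow_eq_one e
    rw [hob] at this
    exact hrp ((Nat.prime_dvd_prime_iff_eq hr hp).mp this)
  have hA : ∀ {b c : H}, b ∈ Cfsg.pCore p H → c ∈ Cfsg.pCore p H → Commute (π c) (π b) :=
    fun hb hc => hY.core_comm hc hb
  have lift : ∀ {x y : H ⧸ Cfsg.pCore p H}, x ^ p = 1 → y ^ p = 1 → ((x * y) ^ p ≠ 1) →
      ∃ g k X Z, X ∈ cj g Y ∧ Z ∈ cj k Y ∧ Ā X = x ∧ Ā Z = y ∧
        X ∉ Cfsg.pCore p H ∧ Z ∉ Cfsg.pCore p H ∧ cj g Y ≠ cj k Y := by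
    intro x y hx hy hxy
    obtain ⟨g, X, hX, hXx⟩ := hY.exists_cj_mem hx
    obtain ⟨k, Z, hZ, hZy⟩ := hY.exists_cj_mem hy
    refine ⟨g, k, X, Z, hX, hZ, hXx, hZy, fun hm => hxy ?_, fun hm => hxy ?_, fun e => hxy ?_⟩
    · rw [← hXx, show Ā X = 1 from (QuotientGroup.eq_one_iff X).mpr hm, one_mul, hy]
    · rw [← hZy, show Ā Z = 1 from (QuotientGroup.eq_one_iff Z).mpr hm, mul_one, hx]
    · rw [← e] at hZ
      have hco : Commute x y := by rw [← hXx, ← hZy]; exact ((hY.conj g).comm X hX Z hZ).map _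
      rw [hco.mul_pow, hx, hy, one_mul]
  rcases hfac (Ā h') (by rw [hob]; exact hr) (by rw [hob]; exact hrp) with ⟨x, y, hx, hy, hxy⟩ | ⟨hcen, x, y, hx, hy, hxy⟩
  · obtain ⟨g, k, X, Z, hX, hZ, hXx, hZy, hXA, hZA, hne⟩ := lift hx hy (by rw [← hxy]; exact hnotp)
    refine hY.fix_prod hX hZ hXA hZA hne ha ?_
    have hcA : (X * Z)⁻¹ * h' ∈ Cfsg.pCore p H := by
      rw [← QuotientGroup.eq_one_iff]
      show Ā _ = 1
      rw [map_mul, map_inv, map_mul, hXx, hZy, ← hxy, inv_mul_cancel]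
    have := hcomm.mul_left ((hA ha hcA).inv_left)
    rwa [← map_inv, ← map_mul, mul_inv_rev, inv_inv, mul_inv_cancel_left] at this
  · obtain ⟨g, k, X, Z, hX, hZ, hXx, hZy, hXA, hZA, hne⟩ := lift hx hy (fun e => hnotp (by
      rw [hxy, (Commute.refl (x * y)).mul_pow, e, one_mul]))
    set W := X * Z with hW
    have hWW : (W * W)⁻¹ * h' ∈ Cfsg.pCore p H := by
      rw [← QuotientGroup.eq_one_iff]
      show Ā _ = 1
      rw [hW, map_mul, map_inv, map_mul, map_mul, hXx, hZy, ← hxy, inv_mul_cancel]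
    -- the fixed points are invariant under conjugation
    have hinv : ∀ z b : H, b ∈ Cfsg.pCore p H → Commute (π h') (π b) → Commute (π h') (π (z * b * z⁻¹)) := by
      intro z b hb hcb
      have hcA : h'⁻¹ * (z⁻¹ * h' * z) ∈ Cfsg.pCore p H := by
        rw [← QuotientGroup.eq_one_iff]
        show Ā _ = 1
        rw [map_mul, map_mul, map_mul, map_inv, map_inv, mul_assoc (Ā z)⁻¹, ← hcen (Ā z), inv_mul_cancel_left, inv_mul_cancel]
      have h1 : Commute (π (z⁻¹ * h' * z)) (π b) := by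
        have := hcb.mul_left (hA hb hcA)
        rwa [← map_mul, mul_inv_cancel_left] at this
      have := h1.map (MulAut.conj (π z)).toMonoidHom
      simpa [mul_assoc] using this
    have neg : ∀ b ∈ Cfsg.pCore p H, Commute (π h') (π b) → π W * π b * (π W)⁻¹ = (π b)⁻¹ := by
      intro b hb hcb
      have hb' : W * b * W⁻¹ ∈ Cfsg.pCore p H := (Core.pCore_normal (p := p) (G := H)).conj_mem b hb W
      have hW2 : Commute (π W * π W) (π b) := by
        have := hcb.mul_left ((hA hb hWW).inv_left)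
        rwa [← map_inv, ← map_mul, mul_inv_rev, inv_inv, mul_inv_cancel_left, map_mul] at this
      set c := b * (W * b * W⁻¹) with hc'
      have hfix : Commute (π W) (π c) := by
        have hab : Commute (π b) (π W * π b * (π W)⁻¹) := by
          have := hY.core_comm hb hb'
          rwa [map_mul, map_mul, map_inv] at this
        have e : π W * (π W * π b * (π W)⁻¹) * (π W)⁻¹ = π b := by
          rw [show π W * (π W * π b * (π W)⁻¹) * (π W)⁻¹ = (π W * π W) * π b * (π W * π W)⁻¹ by group,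
            hW2.eq, mul_inv_cancel_right]
        show π W * π c = π c * π W
        rw [show π c = π b * (π W * π b * (π W)⁻¹) by rw [hc', map_mul π b, map_mul π (W * b), map_mul π W b, map_inv]]
        calc π W * (π b * (π W * π b * (π W)⁻¹))
            = (π W * π b * (π W)⁻¹) * (π W * (π W * π b * (π W)⁻¹) * (π W)⁻¹) * π W := by group
          _ = (π W * π b * (π W)⁻¹) * π b * π W := by rw [e]
          _ = _ := by rw [← hab.eq]
      have hcD := hY.fix_prod hX hZ hXA hZA hne (mul_mem hb hb') hfix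
      have h0 : π c = 1 := (QuotientGroup.eq_one_iff c).mpr hcD
      rw [hc', map_mul π b, map_mul π (W * b), map_mul π W b, map_inv] at h0
      exact eq_inv_of_mul_eq_one_right h0
    have inY : ∀ b ∈ Cfsg.pCore p H, b ∈ cj g Y → Commute (π h') (π b) → b ∈ centralPart Y := by
      intro b hb hbY hcb
      set u := ⁅Z, b⁆ with hu
      have hn := neg b hb hcb
      have hXb : Commute (π X) (π b) := ((hY.conj g).comm X hX b hbY).map π
      have e : π X * π u * (π X)⁻¹ = (π b)⁻¹ * (π b)⁻¹ := by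
        calc π X * π u * (π X)⁻¹ = (π W * π b * (π W)⁻¹) * (π X * (π b)⁻¹ * (π X)⁻¹) := by
              rw [hu, hW, map_mul, map_commutatorElement, commutatorElement_def]; group
          _ = _ := by rw [hn, hXb.inv_right.eq, mul_inv_cancel_right]
      have huk : u ∈ cj k Y := ((hY.conj k).commutator_mem hZ hb).1
      have huA : u ∈ Cfsg.pCore p H := ((hY.conj k).commutator_mem hZ hb).2
      have hXu : ⁅X, u⁆ ∈ cj g Y := ((hY.conj g).commutator_mem hX huA).1
      have hd : (⁅X, u⁆⁻¹ * (b⁻¹ * b⁻¹))⁻¹ * u ∈ centralPart Y := by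
        rw [← QuotientGroup.eq_one_iff]
        show π _ = 1
        rw [map_mul, map_inv, map_mul, map_inv, map_commutatorElement, map_mul, map_inv, ← e, commutatorElement_def]
        group
      have hug : u ∈ cj g Y := by
        have := mul_mem (mul_mem (inv_mem hXu) (mul_mem (inv_mem hbY) (inv_mem hbY)))
          ((by rw [← centralPart_cj g Y]; exact inf_le_left : centralPart Y ≤ cj g Y) hd)
        rwa [mul_inv_cancel_left] at this
      have huD : u ∈ centralPart Y := hY.inf_le hne ⟨hug, huk⟩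
      exact hY.inf_le hne ⟨hbY, hY.mem_cj_of_commute hZ hZA hb (commute_mk_iff.mpr huD)⟩
    have ht := (hY.conj g).commutator_mem hX ha
    have htc : Commute (π h') (π ⁅X, a⁆) := by
      have := (hinv X a ha hcomm).mul_right hcomm.inv_right
      rwa [← map_inv, ← map_mul, ← commutatorElement_def] at this
    have haX : a ∈ cj g Y := hY.mem_cj_of_commute hX hXA ha (commute_mk_iff.mpr (inY _ ht.2 ht.1 htc))
    exact inY a ha haX hcomm

end Cfsg.Agent.LocalStructure
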