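import Mathlib

/-!
# Elements of `p`-power order in two-dimensional special linear groups and in dihedral groups
-/

set_option autoImplicit false
set_option linter.all false

namespace Cfsg.Agent.LocalStructure

open Matrix

variable {F : Type} [Field F] [Fintype F] {p : ℕ} [Fact p.Prime] [CharP F p]

/-- A fixed nonzero vector forces `g ^ p = 1`. -/
theorem sl2_pow_eq_one {g : SpecialLinearGroup (Fin 2) F}
    (h : ((g : Matrix (Fin 2) (Fin 2) F) - 1).det = 0) : g ^ p = 1 := by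
  set M : Matrix (Fin 2) (Fin 2) F := (g : Matrix (Fin 2) (Fin 2) F) with hM
  have hd : M 0 0 * M 1 1 - M 0 1 * M 1 0 = 1 := by
    rw [← Matrix.det_fin_two]; exact g.2
  have h' : (M 0 0 - 1) * (M 1 1 - 1) - M 0 1 * M 1 0 = 0 := by
    rw [Matrix.det_fin_two] at h
    simpa [Matrix.sub_apply] using h
  have ht : M 0 0 + M 1 1 = 2 := by linear_combination hd - h'
  have hN : (M - 1) * (M - 1) = 0 := by
    ext i j
    fin_cases i <;> fin_cases j <;>
      simp [Matrix.mul_apply, Fin.sum_univ_two, Matrix.sub_apply]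
    · linear_combination (M 0 0) * ht - hd
    · linear_combination (M 0 1) * ht
    · linear_combination (M 1 0) * ht
    · linear_combination (M 1 1) * ht - hd
  have hp := (Fact.out : p.Prime)
  have h1 : (M - 1) ^ p = M ^ p - 1 ^ p := by
    haveI : CharP (Matrix (Fin 2) (Fin 2) F) p := inferInstance
    exact sub_pow_char_of_commute p (Commute.one_right M)
  have h2 : (M - 1) ^ p = 0 := by
    obtain ⟨k, hk⟩ := Nat.exists_eq_add_of_le hp.two_le
    rw [hk, pow_add, pow_two, hN, zero_mul]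
  rw [h2, one_pow, eq_comm, sub_eq_zero] at h1
  refine Subtype.ext ?_
  show (((g ^ p : SpecialLinearGroup (Fin 2) F)) : Matrix (Fin 2) (Fin 2) F) = ((1 : SpecialLinearGroup (Fin 2) F) : Matrix (Fin 2) (Fin 2) F)
  rw [Matrix.SpecialLinearGroup.coe_pow, Matrix.SpecialLinearGroup.coe_one]
  exact h1

theorem sl2_product {g : SpecialLinearGroup (Fin 2) F}
    (hg : g ∉ Subgroup.center (SpecialLinearGroup (Fin 2) F)) :
    ∃ x y : SpecialLinearGroup (Fin 2) F, x ^ p = 1 ∧ y ^ p = 1 ∧ g = x * y := by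
  set M : Matrix (Fin 2) (Fin 2) F := (g : Matrix (Fin 2) (Fin 2) F) with hM
  have hd : M 0 0 * M 1 1 - M 0 1 * M 1 0 = 1 := by
    rw [← Matrix.det_fin_two]; exact g.2
  suffices hx : ∃ X : Matrix (Fin 2) (Fin 2) F, X.det = 1 ∧ (X - 1).det = 0 ∧ (M - X).det = 0 by
    obtain ⟨X, hX1, hX2, hX3⟩ := hx
    obtain ⟨x, rfl⟩ : ∃ x : SpecialLinearGroup (Fin 2) F, (x : Matrix (Fin 2) (Fin 2) F) = X := ⟨⟨X, hX1⟩, rfl⟩
    refine ⟨x, x⁻¹ * g, sl2_pow_eq_one hX2, sl2_pow_eq_one ?_, (mul_inv_cancel_left _ _).symm⟩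
    have e : (((x⁻¹ * g : SpecialLinearGroup (Fin 2) F)) : Matrix (Fin 2) (Fin 2) F) - 1 =
        ((x⁻¹ : SpecialLinearGroup (Fin 2) F) : Matrix (Fin 2) (Fin 2) F) * (M - (x : Matrix (Fin 2) (Fin 2) F)) := by
      rw [Matrix.mul_sub, Matrix.SpecialLinearGroup.coe_mul]
      congr 1
      rw [← Matrix.SpecialLinearGroup.coe_mul, inv_mul_cancel, Matrix.SpecialLinearGroup.coe_one]
    rw [e, Matrix.det_mul, hX3, mul_zero]
  by_cases hc : M 1 0 = 0
  swap
  · refine ⟨!![1, (M 0 0 + M 1 1 - 2) / M 1 0; 0, 1], by simp, by simp [Matrix.det_fin_two], ?_⟩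
    simp [Matrix.det_fin_two]
    field_simp
    linear_combination hd
  by_cases hb : M 0 1 = 0
  swap
  · refine ⟨!![1, 0; (M 0 0 + M 1 1 - 2) / M 0 1, 1], by simp, by simp [Matrix.det_fin_two], ?_⟩
    simp [Matrix.det_fin_two]
    field_simp
    linear_combination hd
  have hne : M 0 0 - M 1 1 ≠ 0 := by
    intro e
    refine hg (Matrix.SpecialLinearGroup.mem_center_iff.mpr ⟨M 0 0, ?_, ?_⟩)
    · rw [sub_eq_zero] at e
      rw [hc, mul_zero, sub_zero, ← e] at hd
      rw [Fintype.card_fin, pow_two]; exact hd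
    · rw [sub_eq_zero] at e
      ext i j
      fin_cases i <;> fin_cases j <;> simp [← hM, hb, hc, e]
  obtain ⟨s, hs⟩ : ∃ s, s * (M 0 0 - M 1 1) = M 0 0 + M 1 1 - 2 := ⟨_, div_mul_cancel₀ _ hne⟩
  refine ⟨!![1 + s, -s; s, 1 - s], by simp [Matrix.det_fin_two]; ring,
    by simp [Matrix.det_fin_two], ?_⟩
  simp [Matrix.det_fin_two, hb, hc]
  rw [hb, hc] at hd
  linear_combination hs + hd

/-- Every element is a product of two elements of order dividing `p`, or is central and the square of one. -/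
theorem sl2_product_or (g : SpecialLinearGroup (Fin 2) F) :
    (∃ x y : SpecialLinearGroup (Fin 2) F, x ^ p = 1 ∧ y ^ p = 1 ∧ g = x * y) ∨
    ((∀ z, z * g = g * z) ∧ ∃ x y : SpecialLinearGroup (Fin 2) F, x ^ p = 1 ∧ y ^ p = 1 ∧ g = x * y * (x * y)) := by
  by_cases hg : g ∈ Subgroup.center (SpecialLinearGroup (Fin 2) F)
  swap
  · exact Or.inl (sl2_product hg)
  obtain ⟨r, hr, hgr⟩ := Matrix.SpecialLinearGroup.mem_center_iff.mp hg
  rw [Fintype.card_fin, sq_eq_one_iff] at hr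
  rcases hr with rfl | rfl
  · refine Or.inl ⟨1, 1, one_pow _, one_pow _, ?_⟩
    apply Subtype.ext
    simp [← hgr]
  refine Or.inr ⟨Subgroup.mem_center_iff.mp hg, ?_⟩
  set w : SpecialLinearGroup (Fin 2) F := ⟨!![0, 1; -1, 0], by simp [Matrix.det_fin_two]⟩ with hw
  have hwc : w ∉ Subgroup.center (SpecialLinearGroup (Fin 2) F) := by
    intro h
    obtain ⟨r, -, h'⟩ := Matrix.SpecialLinearGroup.mem_center_iff.mp h
    have := congrFun (congrFun h' 0) 1
    simp [hw] at this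
  obtain ⟨x, y, hx, hy, hxy⟩ := sl2_product (p := p) hwc
  refine ⟨x, y, hx, hy, ?_⟩
  rw [← hxy]
  apply Subtype.ext
  rw [Matrix.SpecialLinearGroup.coe_mul, ← hgr]
  ext i j
  fin_cases i <;> fin_cases j <;> simp [hw, Matrix.mul_apply, Fin.sum_univ_two]

/-- In a `p`-subgroup there are at most `|F|` elements. -/
theorem sl2_pGroup_card {R : Subgroup (SpecialLinearGroup (Fin 2) F)} (hR : IsPGroup p R) :
    Nat.card R ≤ Fintype.card F := by
  classical
  letI : MulAction R (Fin 2 → F) :=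
    { smul := fun g v => (((g : SpecialLinearGroup (Fin 2) F)) : Matrix (Fin 2) (Fin 2) F) *ᵥ v
      one_smul := fun v => by
        exact (congrArg (fun A => A *ᵥ v) (Matrix.SpecialLinearGroup.coe_one (n := Fin 2) (R := F))).trans (Matrix.one_mulVec v)
      mul_smul := fun g h v => by
        exact (congrArg (fun A => A *ᵥ v) (Matrix.SpecialLinearGroup.coe_mul (g : SpecialLinearGroup (Fin 2) F) h)).trans
          (Matrix.mulVec_mulVec _ _ _).symm }
  have hdvd : p ∣ Nat.card (Fin 2 → F) := by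
    rw [Nat.card_fun, Nat.card_eq_fintype_card]
    obtain ⟨n, -, hn⟩ := FiniteField.card F p
    rw [hn]
    exact dvd_pow (dvd_pow_self p n.pos.ne') (by simp)
  have h0 : (0 : Fin 2 → F) ∈ MulAction.fixedPoints R (Fin 2 → F) := fun g =>
    Matrix.mulVec_zero _
  obtain ⟨v, hv, hv0⟩ := hR.exists_fixed_point_of_prime_dvd_card_of_fixed_point (Fin 2 → F) hdvd h0
  have hfix : ∀ g : R, (((g : SpecialLinearGroup (Fin 2) F)) : Matrix (Fin 2) (Fin 2) F) *ᵥ v = v := hv
  have hdet : ∀ g : R, ((g : SpecialLinearGroup (Fin 2) F) : Matrix (Fin 2) (Fin 2) F) 0 0 *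
      ((g : SpecialLinearGroup (Fin 2) F) : Matrix (Fin 2) (Fin 2) F) 1 1 -
      ((g : SpecialLinearGroup (Fin 2) F) : Matrix (Fin 2) (Fin 2) F) 0 1 *
      ((g : SpecialLinearGroup (Fin 2) F) : Matrix (Fin 2) (Fin 2) F) 1 0 = 1 := fun g => by
    rw [← Matrix.det_fin_two]; exact (g : SpecialLinearGroup (Fin 2) F).2
  have hr0 : ∀ g : R, ((g : SpecialLinearGroup (Fin 2) F) : Matrix (Fin 2) (Fin 2) F) 0 0 * v 0 +
      ((g : SpecialLinearGroup (Fin 2) F) : Matrix (Fin 2) (Fin 2) F) 0 1 * v 1 = v 0 := fun g => by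
    simpa [Matrix.mulVec, dotProduct, Fin.sum_univ_two] using congrFun (hfix g) 0
  have hr1 : ∀ g : R, ((g : SpecialLinearGroup (Fin 2) F) : Matrix (Fin 2) (Fin 2) F) 1 0 * v 0 +
      ((g : SpecialLinearGroup (Fin 2) F) : Matrix (Fin 2) (Fin 2) F) 1 1 * v 1 = v 1 := fun g => by
    simpa [Matrix.mulVec, dotProduct, Fin.sum_univ_two] using congrFun (hfix g) 1
  rw [← Nat.card_eq_fintype_card]
  by_cases hv00 : v 0 = 0
  · have hv1 : v 1 ≠ 0 := by
      intro e
      exact hv0 (funext fun i => by fin_cases i <;> simp [hv00, e])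
    refine Nat.card_le_card_of_injective
      (fun g : R => ((g : SpecialLinearGroup (Fin 2) F) : Matrix (Fin 2) (Fin 2) F) 1 0) fun g h e => ?_
    simp only at e
    have key : ∀ g : R, ((g : SpecialLinearGroup (Fin 2) F) : Matrix (Fin 2) (Fin 2) F) 0 1 = 0 ∧
        ((g : SpecialLinearGroup (Fin 2) F) : Matrix (Fin 2) (Fin 2) F) 1 1 = 1 ∧
        ((g : SpecialLinearGroup (Fin 2) F) : Matrix (Fin 2) (Fin 2) F) 0 0 = 1 := fun g => by
      have a := hr0 g
      rw [hv00, mul_zero, zero_add, mul_eq_zero] at a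
      have b := a.resolve_right hv1
      have c := hr1 g
      rw [hv00, mul_zero, zero_add, mul_eq_right₀ hv1] at c
      have d := hdet g
      rw [b, c, zero_mul, sub_zero, mul_one] at d
      exact ⟨b, c, d⟩
    obtain ⟨g1, g2, g3⟩ := key g
    obtain ⟨h1, h2, h3⟩ := key h
    apply Subtype.ext; apply Subtype.ext
    ext i j
    fin_cases i <;> fin_cases j <;> simp_all
  · refine Nat.card_le_card_of_injective
      (fun g : R => ((g : SpecialLinearGroup (Fin 2) F) : Matrix (Fin 2) (Fin 2) F) 0 1) fun g h e => ?_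
    simp only at e
    have e00 : ((g : SpecialLinearGroup (Fin 2) F) : Matrix (Fin 2) (Fin 2) F) 0 0 =
        ((h : SpecialLinearGroup (Fin 2) F) : Matrix (Fin 2) (Fin 2) F) 0 0 :=
      mul_right_cancel₀ hv00 (by linear_combination hr0 g - hr0 h - (v 1) * e)
    have e11 : ((g : SpecialLinearGroup (Fin 2) F) : Matrix (Fin 2) (Fin 2) F) 1 1 =
        ((h : SpecialLinearGroup (Fin 2) F) : Matrix (Fin 2) (Fin 2) F) 1 1 :=
      mul_right_cancel₀ hv00 (by
        linear_combination (v 0) * (hdet g - hdet h) + ((g : SpecialLinearGroup (Fin 2) F) : Matrix (Fin 2) (Fin 2) F) 0 1 * hr1 g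
          - ((h : SpecialLinearGroup (Fin 2) F) : Matrix (Fin 2) (Fin 2) F) 0 1 * hr1 h
          - ((g : SpecialLinearGroup (Fin 2) F) : Matrix (Fin 2) (Fin 2) F) 1 1 * hr0 g
          + ((h : SpecialLinearGroup (Fin 2) F) : Matrix (Fin 2) (Fin 2) F) 1 1 * hr0 h
          + (v 1) * e)
    have e10 : ((g : SpecialLinearGroup (Fin 2) F) : Matrix (Fin 2) (Fin 2) F) 1 0 =
        ((h : SpecialLinearGroup (Fin 2) F) : Matrix (Fin 2) (Fin 2) F) 1 0 :=
      mul_right_cancel₀ hv00 (by linear_combination hr1 g - hr1 h - (v 1) * e11)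
    apply Subtype.ext; apply Subtype.ext
    ext i j
    fin_cases i <;> fin_cases j <;> assumption

/-- A rotation is a product of two reflections. -/
theorem dihedral_product {n : ℕ} {g : DihedralGroup n} (hg : g ^ 2 ≠ 1) :
    ∃ x y : DihedralGroup n, x ^ 2 = 1 ∧ y ^ 2 = 1 ∧ g = x * y := by
  cases g with
  | r i => exact ⟨.sr 0, .sr i, by rw [pow_two]; simp, by rw [pow_two]; simp, by simp⟩
  | sr i => exact absurd (by rw [pow_two]; simp) hg

theorem dihedral_two_group_card {n : ℕ} (hn : n.Prime) (hn2 : n ≠ 2) {R : Subgroup (DihedralGroup n)}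
    (hR : IsPGroup 2 R) : Nat.card R ≤ 2 := by
  haveI : NeZero n := ⟨hn.ne_zero⟩
  obtain ⟨k, hk⟩ := IsPGroup.iff_card.mp hR
  have h := Subgroup.card_subgroup_dvd_card R
  rw [hk, DihedralGroup.nat_card] at h
  have h' : 2 ^ k ∣ 2 :=
    ((Nat.coprime_primes Nat.prime_two hn).mpr (Ne.symm hn2)).pow_left k |>.dvd_of_dvd_mul_right h
  rw [hk]
  exact Nat.le_of_dvd two_pos h'

end Cfsg.Agent.LocalStructure
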