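import Mathlib
import Cfsg.Agent.LocalStructure.SuzukiFacts
import Cfsg.Agent.Fusion.Control
import Cfsg.Agent.FusSys.SylowAux

/-!
# Elements of odd prime order of the Suzuki groups are inverted by involutions
-/

set_option autoImplicit false
set_option linter.all false

namespace Cfsg.Agent.LocalStructure

open Cfsg.Lie PrimeGraph Matrix

/-- A subgroup of the units modulo `r` moving a set of at most four nonzero residues closed under negation contains `-1`. -/
theorem exists_pow_eq_neg_one {r : ℕ} [Fact r.Prime] (hr2 : r ≠ 2) (k : (ZMod r)ˣ) (hk : k ≠ 1) (X : Finset (ZMod r))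
    (hne : X.Nonempty) (h0 : (0 : ZMod r) ∉ X) (hneg : ∀ i ∈ X, -i ∈ X) (hmul : ∀ i ∈ X, i * (k : ZMod r) ∈ X)
    (hcard : X.card ≤ 4) : ∃ n : ℕ, k ^ n = -1 := by
  obtain ⟨i, hi⟩ := hne
  have hi0 : i ≠ 0 := fun h => h0 (h ▸ hi)
  have horb : ∀ u : (ZMod r)ˣ, (∀ x ∈ X, x * (u : ZMod r) ∈ X) → orderOf u ≤ 4 := by
    intro u hu
    have hmem : ∀ n : ℕ, i * ((u ^ n : (ZMod r)ˣ) : ZMod r) ∈ X := by
      intro n
      induction n with
      | zero => simpa using hi
      | succ n ih => rw [pow_succ, Units.val_mul, ← mul_assoc]; exact hu _ ih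
    calc orderOf u = (Finset.range (orderOf u)).card := (Finset.card_range _).symm
      _ ≤ X.card := Finset.card_le_card_of_injOn (fun n => i * ((u ^ n : (ZMod r)ˣ) : ZMod r))
          (fun n _ => hmem n) fun a ha b hb hab => by
            have := Units.ext (mul_left_cancel₀ hi0 hab)
            exact pow_injOn_Iio_orderOf (by simpa using ha) (by simpa using hb) this
      _ ≤ 4 := hcard
  have he := horb k hmul
  have he1 : orderOf k ≠ 1 := by rwa [Ne, orderOf_eq_one_iff]
  have hepos := orderOf_pos k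
  have hsq : ∀ n : ℕ, 0 < n → 2 * n = orderOf k → k ^ n = -1 := by
    intro n hn hne'
    have h1 : ((k ^ n : (ZMod r)ˣ) : ZMod r) ^ 2 = 1 := by
      rw [← Units.val_pow_eq_pow_val, ← pow_mul, mul_comm, hne', pow_orderOf_eq_one, Units.val_one]
    rcases sq_eq_one_iff.mp h1 with h | h
    · exact absurd (orderOf_dvd_of_pow_eq_one (Units.ext h)) (fun hd => by
        have := Nat.le_of_dvd hn hd; omega)
    · exact Units.ext (by rw [h]; simp)
  have h3 : orderOf k ≠ 3 := by
    intro h3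
    have hneg1 : orderOf (-1 : (ZMod r)ˣ) = 2 := by
      refine orderOf_eq_prime (by simp) fun h => ?_
      have := congrArg Units.val h
      simp at this
      have h2 : ((2 : ℕ) : ZMod r) = 0 := by
        rw [Nat.cast_ofNat]
        linear_combination -this
      rw [ZMod.natCast_eq_zero_iff] at h2
      exact hr2 ((Nat.prime_dvd_prime_iff_eq Fact.out Nat.prime_two).mp h2)
    have h6 : orderOf (-1 * k) = 6 := by
      rw [(Commute.all (-1 : (ZMod r)ˣ) k).orderOf_mul_eq_mul_orderOf_of_coprime (by rw [hneg1, h3]; norm_num), hneg1, h3]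
    have := horb (-1 * k) fun x hx => by
      have := hneg _ (hmul x hx)
      simpa [mul_comm, mul_assoc] using this
    omega
  obtain h | h : orderOf k = 2 ∨ orderOf k = 4 := by omega
  · exact ⟨1, hsq 1 one_pos (by omega)⟩
  · exact ⟨2, hsq 2 two_pos (by omega)⟩

variable {F : Type} [Field F] [CharP F 2] [Finite F] {m : ℕ}

set_option quotPrecheck false in
local notation "S₂" => ↥(Sz F (2 ^ (m + 1)))

/-- The matrix of an element. -/
def szMat : S₂ →* Matrix (Fin 4) (Fin 4) F :=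
  (Units.coeHom _).comp (Sz F (2 ^ (m + 1))).subtype

theorem szMat_det_sub_one {g : S₂} (hodd : Odd (orderOf g)) (hg : g ≠ 1) :
    (szMat g - 1).det ≠ 0 := by
  intro h
  obtain ⟨v, hv, hv'⟩ := Matrix.exists_mulVec_eq_zero_iff.mpr h
  rw [Matrix.sub_mulVec, Matrix.one_mulVec, sub_eq_zero] at hv'
  exact hg (Subtype.ext (eq_one_of_fixed g.2 (by rwa [Subgroup.orderOf_coe]) hv hv'))

theorem sz_geom_sum {r : ℕ} [Fact r.Prime] (hr2 : r ≠ 2) {g : S₂} (hg : orderOf g = r) :
    ∑ j ∈ Finset.range r, szMat g ^ j = 0 := by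
  have hu : IsUnit (szMat g - 1) := by
    rw [Matrix.isUnit_iff_isUnit_det, isUnit_iff_ne_zero]
    exact szMat_det_sub_one (hg ▸ (Fact.out : r.Prime).odd_of_ne_two hr2)
      fun h => (Fact.out : r.Prime).ne_one (by rw [← hg, h, orderOf_one])
  have h := geom_sum_mul (szMat g) r
  rw [← map_pow, ← hg, pow_orderOf_eq_one, map_one, sub_self, hg] at h
  exact (hu.mul_left_eq_zero).mp h

/-- No elementary abelian subgroup of order `r ^ 2`. -/
theorem sz_mem_zpowers {r : ℕ} [Fact r.Prime] (hr2 : r ≠ 2) {u v : S₂} (hv : orderOf v = r) (hu : u ^ r = 1)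
    (hc : Commute u v) : u ∈ Subgroup.zpowers v := by
  by_contra hne
  have hr := (Fact.out : r.Prime)
  have hord : ∀ i : ℕ, orderOf (u * v ^ i) = r := fun i => by
    refine orderOf_eq_prime ?_ fun h => hne ?_
    · rw [(hc.pow_right i).mul_pow, hu, ← pow_mul, mul_comm, pow_mul, ← hv, pow_orderOf_eq_one, one_pow, mul_one]
    · rw [eq_inv_of_mul_eq_one_left h]
      exact inv_mem (Subgroup.npow_mem_zpowers v i)
  have hkey : ∑ i ∈ Finset.range r, ∑ j ∈ Finset.range r, szMat (u * v ^ i) ^ j = 0 :=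
    Finset.sum_eq_zero fun i _ => sz_geom_sum hr2 (hord i)
  rw [Finset.sum_comm, Finset.range_eq_Ico, Finset.sum_eq_sum_Ico_succ_bot hr.pos] at hkey
  have hrest : ∀ j ∈ Finset.Ico (0 + 1) r, ∑ i ∈ Finset.Ico 0 r, szMat (u * v ^ i) ^ j = 0 := by
    intro j hj
    rw [Finset.mem_Ico] at hj
    have e : ∀ i, szMat (u * v ^ i) ^ j = szMat u ^ j * szMat (v ^ j) ^ i := fun i => by
      rw [← map_pow, (hc.pow_right i).mul_pow, map_mul, map_pow, ← pow_mul, mul_comm i j, pow_mul, map_pow, map_pow]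
    simp only [e, ← Finset.mul_sum]
    rw [← Finset.range_eq_Ico, sz_geom_sum hr2 (g := v ^ j) ?_, mul_zero]
    refine orderOf_eq_prime ?_ fun h => ?_
    · rw [← pow_mul, mul_comm, pow_mul, ← hv, pow_orderOf_eq_one, one_pow]
    · have := orderOf_dvd_of_pow_eq_one h
      rw [hv] at this
      have := Nat.le_of_dvd (by omega) this
      omega
  rw [Finset.sum_eq_zero hrest, add_zero] at hkey
  simp at hkey
  have h2 : ((r : ℕ) : F) = 0 := by
    have := congrFun (congrFun hkey 0) 0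
    simpa [Matrix.natCast_apply] using this
  rw [CharP.cast_eq_zero_iff F 2] at h2
  exact hr2 ((Nat.prime_dvd_prime_iff_eq Nat.prime_two hr).mp h2).symm

theorem sz_inverting {r : ℕ} [Fact r.Prime] (hr2 : r ≠ 2) (hF : Nat.card F = 2 ^ (2 * m + 1))
    (hgen : Subgroup.closure {g : S₂ | g * g = 1} = ⊤) {h : S₂} (hh : orderOf h = r) :
    ∃ y : S₂, y * y = 1 ∧ y ≠ 1 ∧ y * h * y⁻¹ = h⁻¹ := by
  classical
  have hr := (Fact.out : r.Prime)
  have hh1 : h ≠ 1 := fun e => hr.ne_one (by rw [← hh, e, orderOf_one])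
  -- an element normalizing and moving some subgroup of order `r`
  obtain ⟨v, hv, g, n, hgv, hne⟩ : ∃ v : S₂, orderOf v = r ∧ ∃ (g : S₂) (n : ℕ), g * v * g⁻¹ = v ^ n ∧ g * v * g⁻¹ ≠ v := by
    obtain ⟨P⟩ : Nonempty (Sylow r S₂) := inferInstance
    by_contra hno
    push Not at hno
    obtain ⟨N, hN, hcop, a, ha⟩ := Fusion.hasNormalPComplement_iff_exists.mp
      (Fusion.hasNormalPComplement_of_frobenius_sylow P fun Q hQ g hg hgo => by
        refine le_centralizer_of_fixes_omega (A := Subgroup.zpowers g) hr2 (P.isPGroup'.to_le hQ)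
          (Subgroup.zpowers_le.mpr hg) (by rw [Nat.card_zpowers]; exact hgo) ?_ (Subgroup.mem_zpowers g)
        intro v hv hvr a ha
        by_cases hv1 : v = 1
        · simp [hv1]
        have hvo : orderOf v = r := orderOf_eq_prime hvr hv1
        -- the subgroup of order `r` is unique
        have huniq : ∀ u ∈ Q, u ^ r = 1 → u ∈ Subgroup.zpowers v := by
          intro u hu hur
          have hQp := P.isPGroup'.to_le hQ
          have : Nontrivial Q := ⟨⟨⟨v, hv⟩, 1, fun e => hv1 (congrArg Subtype.val e)⟩⟩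
          have := hQp.center_nontrivial
          obtain ⟨⟨⟨z, hzQ⟩, hzc⟩, hz1⟩ := exists_ne (1 : Subgroup.center Q)
          obtain ⟨b, hb⟩ := IsPGroup.iff_orderOf.mp hQp ⟨z, hzQ⟩
          have hb' : orderOf z = r ^ b := by rw [← hb]; exact Subgroup.orderOf_coe (⟨z, hzQ⟩ : Q)
          rcases b with _ | b
          · rw [pow_zero, orderOf_eq_one_iff] at hb'
            exact absurd (Subtype.ext (Subtype.ext hb')) hz1
          set w := z ^ r ^ b with hw
          have hwo : orderOf w = r := by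
            rw [hw, orderOf_pow_of_dvd (pow_ne_zero _ hr.ne_zero) (by rw [hb']; exact pow_dvd_pow _ (Nat.le_succ _)), hb',
              pow_succ, Nat.mul_div_cancel_left _ (pow_pos hr.pos b)]
          have hcw : ∀ x ∈ Q, Commute x w := fun x hx =>
            (show Commute x z from congrArg Subtype.val (Subgroup.mem_center_iff.mp hzc ⟨x, hx⟩)).pow_right _
          have h1 := sz_mem_zpowers hr2 hwo hvr (hcw v hv)
          have h2 := sz_mem_zpowers hr2 hwo hur (hcw u hu)
          have hle : Subgroup.zpowers v = Subgroup.zpowers w :=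
            Subgroup.eq_of_le_of_card_ge (Subgroup.zpowers_le.mpr h1) (by rw [Nat.card_zpowers, Nat.card_zpowers, hvo, hwo])
          rw [hle]; exact h2
        have haN : a ∈ Subgroup.normalizer (Q : Set S₂) := (Subgroup.zpowers_le.mpr hg) ha
        obtain ⟨j, hj⟩ := mem_powers_iff_mem_zpowers.mpr (huniq _ ((Subgroup.mem_normalizer_iff.mp haN v).mp hv)
          (by rw [conj_pow, hvr, mul_one, mul_inv_cancel]))
        calc a * v = a * v * a⁻¹ * a := by group
          _ = v * a := by rw [hno v hvo a j hj.symm])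
    have hNtop : N = ⊤ := by
      rw [eq_top_iff, ← hgen, Subgroup.closure_le]
      intro x hx
      have h1 : (QuotientGroup.mk' N x) ^ (r ^ a) = 1 := by
        rw [← ha, Subgroup.index_eq_card]; exact pow_card_eq_one'
      have h2 : (QuotientGroup.mk' N x) ^ 2 = 1 := by
        rw [← map_pow, pow_two, show x * x = 1 from hx, map_one]
      have h3 := pow_gcd_eq_one.mpr ⟨h1, h2⟩
      rw [(Nat.Coprime.pow_left a ((Nat.coprime_primes hr Nat.prime_two).mpr hr2)).gcd_eq_one, pow_one] at h3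
      exact (QuotientGroup.eq_one_iff x).mp h3
    rw [hNtop, Subgroup.card_top] at hcop
    exact (hr.coprime_iff_not_dvd.mp hcop.symm) (hh ▸ orderOf_dvd_natCard h)
  -- transfer to `h`
  obtain ⟨g, k, hgk, hk⟩ : ∃ (g : S₂) (k : ℕ), g⁻¹ * h * g = h ^ k ∧ g⁻¹ * h * g ≠ h := by
    have hp : IsPGroup r (Subgroup.zpowers h) := IsPGroup.of_card (n := 1) (by rw [Nat.card_zpowers, hh, pow_one])
    have hq : IsPGroup r (Subgroup.zpowers v) := IsPGroup.of_card (n := 1) (by rw [Nat.card_zpowers, hv, pow_one])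
    obtain ⟨P, hP⟩ := hp.exists_le_sylow
    obtain ⟨c, hc⟩ := FusSys.exists_conj_mem_sylow hq P
    set v' := c * v * c⁻¹ with hv'
    have hv'o : orderOf v' = r := by rw [hv']; exact ((MulAut.conj c).orderOf_eq v).trans hv
    have hv'P : v' ∈ (P : Subgroup S₂) := hc v (Subgroup.mem_zpowers v)
    have hhP : h ∈ (P : Subgroup S₂) := hP (Subgroup.mem_zpowers h)
    obtain ⟨e, he⟩ : ∃ e : ℕ, h = v' ^ e := by
      have : Nontrivial (P : Subgroup S₂) := ⟨⟨⟨h, hhP⟩, 1, fun e => hh1 (congrArg Subtype.val e)⟩⟩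
      have := P.isPGroup'.center_nontrivial
      obtain ⟨⟨⟨z, hzP⟩, hzc⟩, hz1⟩ := exists_ne (1 : Subgroup.center (P : Subgroup S₂))
      obtain ⟨b, hb⟩ := IsPGroup.iff_orderOf.mp P.isPGroup' ⟨z, hzP⟩
      have hb' : orderOf z = r ^ b := by rw [← hb]; exact Subgroup.orderOf_coe (⟨z, hzP⟩ : (P : Subgroup S₂))
      rcases b with _ | b
      · rw [pow_zero, orderOf_eq_one_iff] at hb'
        exact absurd (Subtype.ext (Subtype.ext hb')) hz1
      have hwo : orderOf (z ^ r ^ b) = r := by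
        rw [orderOf_pow_of_dvd (pow_ne_zero _ hr.ne_zero) (by rw [hb']; exact pow_dvd_pow _ (Nat.le_succ _)), hb',
          pow_succ, Nat.mul_div_cancel_left _ (pow_pos hr.pos b)]
      have hcw : ∀ x ∈ (P : Subgroup S₂), Commute x (z ^ r ^ b) := fun x hx =>
        (show Commute x z from congrArg Subtype.val (Subgroup.mem_center_iff.mp hzc ⟨x, hx⟩)).pow_right _
      have h1 := sz_mem_zpowers hr2 hwo (by rw [← hv'o]; exact pow_orderOf_eq_one v') (hcw v' hv'P)
      have h2 := sz_mem_zpowers hr2 hwo (by rw [← hh]; exact pow_orderOf_eq_one h) (hcw h hhP)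
      have hle : Subgroup.zpowers v' = Subgroup.zpowers (z ^ r ^ b) :=
        Subgroup.eq_of_le_of_card_ge (Subgroup.zpowers_le.mpr h1) (by rw [Nat.card_zpowers, Nat.card_zpowers, hv'o, hwo])
      rw [← hle] at h2
      obtain ⟨e, he⟩ := mem_powers_iff_mem_zpowers.mpr h2
      exact ⟨e, he.symm⟩
    refine ⟨c * g⁻¹ * c⁻¹, n, ?_, ?_⟩
    · rw [he, show (c * g⁻¹ * c⁻¹)⁻¹ * v' ^ e * (c * g⁻¹ * c⁻¹) = (c * g * c⁻¹) * v' ^ e * (c * g * c⁻¹)⁻¹ by group,
        ← conj_pow, show c * g * c⁻¹ * v' * (c * g * c⁻¹)⁻¹ = c * (g * v * g⁻¹) * c⁻¹ by rw [hv']; group,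
        hgv, ← conj_pow, ← pow_mul, ← pow_mul, mul_comm e]
    · intro hfix
      refine hne ?_
      rw [he, show (c * g⁻¹ * c⁻¹)⁻¹ * v' ^ e * (c * g⁻¹ * c⁻¹) = (c * g * c⁻¹) * v' ^ e * (c * g * c⁻¹)⁻¹ by group,
        ← conj_pow, show c * g * c⁻¹ * v' * (c * g * c⁻¹)⁻¹ = c * (g * v * g⁻¹) * c⁻¹ by rw [hv']; group,
        hgv, ← conj_pow, ← pow_mul] at hfix
      rw [hgv]
      have hcop : e.Coprime r := by
        refine (hr.coprime_iff_not_dvd.mpr fun hd => hh1 ?_).symm
        rw [he, ← orderOf_dvd_iff_pow_eq_one, hv'o]; exact hd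
      have h5 : (v' ^ n) ^ e = v' ^ e := by rw [← pow_mul]; exact hfix
      have h6 : v' ^ n = v' := by
        obtain ⟨s, hs⟩ := exists_pow_eq_self_of_coprime (x := v') (n := e) (by rwa [hv'o])
        calc v' ^ n = ((v' ^ e) ^ s) ^ n := by rw [hs]
          _ = ((v' ^ n) ^ e) ^ s := by rw [← pow_mul, ← pow_mul, ← pow_mul, ← pow_mul]; ring_nf
          _ = v' := by rw [h5, hs]
      rw [hv', conj_pow] at h6
      exact mul_left_cancel (mul_right_cancel h6)
  -- the exponents of the eigenvalues of `h`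
  let K := AlgebraicClosure F
  let φ := algebraMap F K
  have : CharP K 2 := charP_of_injective_ringHom φ.injective 2
  have : NeZero (r : K) := ⟨fun e => hr2 ((Nat.prime_dvd_prime_iff_eq Nat.prime_two hr).mp ((CharP.cast_eq_zero_iff K 2 r).mp e)).symm⟩
  obtain ⟨ζ, hζ⟩ := HasEnoughRootsOfUnity.exists_primitiveRoot K r
  let ψ : S₂ →* Matrix (Fin 4) (Fin 4) K := (φ.mapMatrix.toMonoidHom).comp szMat
  let E : S₂ → K → Prop := fun x μ => ∃ w, w ≠ 0 ∧ ψ x *ᵥ w = μ • w
  have hpowE : ∀ (x : S₂) (μ : K) (w : Fin 4 → K), ψ x *ᵥ w = μ • w → ∀ j : ℕ, ψ (x ^ j) *ᵥ w = μ ^ j • w := by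
    intro x μ w hw j
    induction j with
    | zero => simp
    | succ j ih => rw [pow_succ x j, map_mul, ← Matrix.mulVec_mulVec, hw, Matrix.mulVec_smul, ih, smul_smul, pow_succ' μ j]
  have hroot : ∀ μ, E h μ ↔ (ψ h).charpoly.IsRoot μ := by
    intro μ
    rw [Polynomial.IsRoot, Matrix.eval_charpoly, ← Matrix.exists_mulVec_eq_zero_iff]
    constructor
    · rintro ⟨w, hw, hw'⟩
      refine ⟨w, hw, ?_⟩
      rw [Matrix.sub_mulVec, hw', Matrix.scalar_apply, ← Matrix.smul_one_eq_diagonal, Matrix.smul_mulVec, Matrix.one_mulVec, sub_self]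
    · rintro ⟨w, hw, hw'⟩
      refine ⟨w, hw, ?_⟩
      rw [Matrix.sub_mulVec, sub_eq_zero, Matrix.scalar_apply, ← Matrix.smul_one_eq_diagonal, Matrix.smul_mulVec, Matrix.one_mulVec] at hw'
      exact hw'.symm
  let X : Finset (ZMod r) := Finset.univ.filter fun i => E h (ζ ^ i.val)
  have hval : ∀ j : ℕ, ζ ^ ((j : ZMod r)).val = ζ ^ j := fun j => by
    rw [ZMod.val_natCast, hζ.eq_orderOf, pow_mod_orderOf]
  have hX : ∀ (μ : K) (i : ZMod r), E h μ → ζ ^ i.val = μ → i ∈ X := fun μ i hμ he => by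
    simp only [X, Finset.mem_filter, Finset.mem_univ, true_and, he]; exact hμ
  have hne' : X.Nonempty := by
    obtain ⟨μ, hμ⟩ := IsAlgClosed.exists_root (ψ h).charpoly (by rw [Matrix.charpoly_degree_eq_dim]; simp)
    obtain ⟨w, hw, hw'⟩ := (hroot μ).mpr hμ
    have h1 := hpowE h μ w hw' r
    rw [← hh, pow_orderOf_eq_one, map_one, Matrix.one_mulVec, hh] at h1
    have hμr : μ ^ r = 1 := by
      have := smul_left_injective K hw (show μ ^ r • w = (1 : K) • w by rw [one_smul, ← h1])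
      exact this
    obtain ⟨j, -, hj⟩ := hζ.eq_pow_of_pow_eq_one hμr
    exact ⟨(j : ZMod r), hX μ _ ⟨w, hw, hw'⟩ (by rw [hval, hj])⟩
  have h0X : (0 : ZMod r) ∉ X := by
    simp only [X, Finset.mem_filter, Finset.mem_univ, true_and, ZMod.val_zero, pow_zero]
    rintro ⟨w, hw, hw'⟩
    rw [one_smul] at hw'
    refine szMat_det_sub_one (hh ▸ hr.odd_of_ne_two hr2) hh1 (φ.injective ?_)
    rw [map_zero, RingHom.map_det, map_sub, map_one, ← Matrix.exists_mulVec_eq_zero_iff]
    exact ⟨w, hw, by rw [Matrix.sub_mulVec, Matrix.one_mulVec, sub_eq_zero]; exact hw'⟩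
  have hnegX : ∀ i ∈ X, -i ∈ X := by
    intro i hi
    obtain ⟨w, hw, hw'⟩ := (Finset.mem_filter.mp hi).2
    set μ := ζ ^ i.val with hμ
    have hμ0 : μ ≠ 0 := pow_ne_zero _ (hζ.ne_zero hr.ne_zero)
    have hsymp : (ψ h)ᵀ * J4 K * ψ h = J4 K := by
      have := congrArg φ.mapMatrix (mem_Sz h.2).1
      rw [map_mul, map_mul] at this
      have hJ : φ.mapMatrix (J4 F) = J4 K := by
        ext a b; fin_cases a <;> fin_cases b <;> simp [J4]
      rw [hJ] at this
      exact this
    have hu : J4 K *ᵥ w ≠ 0 := fun e => hw (by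
      have := congrArg (fun x => J4 K *ᵥ x) e
      rw [Matrix.mulVec_mulVec w (J4 K) (J4 K), J4_mul_self, Matrix.one_mulVec, Matrix.mulVec_zero] at this
      exact this)
    have hT : (ψ h)ᵀ *ᵥ (J4 K *ᵥ w) = μ⁻¹ • (J4 K *ᵥ w) := by
      have h1 : μ • ((ψ h)ᵀ *ᵥ (J4 K *ᵥ w)) = J4 K *ᵥ w := by
        conv_rhs => rw [← hsymp, ← Matrix.mulVec_mulVec, hw', Matrix.mulVec_smul, ← Matrix.mulVec_mulVec]
      conv_rhs => rw [← h1, smul_smul, inv_mul_cancel₀ hμ0, one_smul]
    have hE : E h μ⁻¹ := by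
      rw [hroot, ← Matrix.charpoly_transpose, Polynomial.IsRoot, Matrix.eval_charpoly, ← Matrix.exists_mulVec_eq_zero_iff]
      exact ⟨_, hu, by rw [Matrix.sub_mulVec, hT, Matrix.scalar_apply, ← Matrix.smul_one_eq_diagonal, Matrix.smul_mulVec, Matrix.one_mulVec, sub_self]⟩
    refine hX _ _ hE ?_
    refine eq_inv_of_mul_eq_one_left ?_
    have h1 : (((-i).val + i.val : ℕ) : ZMod r) = ((0 : ℕ) : ZMod r) := by
      push_cast; rw [ZMod.natCast_zmod_val, ZMod.natCast_zmod_val, neg_add_cancel]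
    rw [hμ, ← pow_add, ← hval, h1, hval, pow_zero]
  have hk0 : (k : ZMod r) ≠ 0 := by
    intro e
    rw [ZMod.natCast_eq_zero_iff] at e
    have h1 : g⁻¹ * h * g = 1 := by rw [hgk, ← orderOf_dvd_iff_pow_eq_one, hh]; exact e
    have := congrArg (fun x => g * x * g⁻¹) h1
    exact hh1 (by simpa [mul_assoc] using this)
  have hmulX : ∀ i ∈ X, i * ((Units.mk0 _ hk0 : (ZMod r)ˣ) : ZMod r) ∈ X := by
    intro i hi
    obtain ⟨w, hw, hw'⟩ := (Finset.mem_filter.mp hi).2
    refine hX ((ζ ^ i.val) ^ k) _ ⟨ψ g *ᵥ w, ?_, ?_⟩ ?_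
    · intro e
      have := congrArg (fun x => ψ g⁻¹ *ᵥ x) e
      rw [Matrix.mulVec_mulVec w (ψ g⁻¹) (ψ g), ← map_mul, inv_mul_cancel, map_one, Matrix.one_mulVec, Matrix.mulVec_zero] at this
      exact hw this
    · rw [Matrix.mulVec_mulVec w (ψ h) (ψ g), ← map_mul, show h * g = g * h ^ k by rw [← hgk]; group, map_mul, ← Matrix.mulVec_mulVec,
        hpowE h _ w hw' k, Matrix.mulVec_smul]
    · rw [Units.val_mk0, ← pow_mul, ← hval (i.val * k)]
      push_cast
      rw [ZMod.natCast_zmod_val]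
  have hcard : X.card ≤ 4 := by
    calc X.card ≤ (ψ h).charpoly.roots.toFinset.card := by
          refine Finset.card_le_card_of_injOn (fun i : ZMod r => ζ ^ i.val) (fun i hi => ?_) fun a _ b _ hab =>
            ZMod.val_injective r (hζ.pow_inj (ZMod.val_lt a) (ZMod.val_lt b) hab)
          rw [Finset.mem_coe, Multiset.mem_toFinset, Polynomial.mem_roots ((Matrix.charpoly_monic _).ne_zero), ← hroot]
          exact (Finset.mem_filter.mp hi).2
      _ ≤ Multiset.card (ψ h).charpoly.roots := Multiset.toFinset_card_le _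
      _ ≤ (ψ h).charpoly.natDegree := Polynomial.card_roots' _
      _ = 4 := by rw [Matrix.charpoly_natDegree_eq_dim]; simp
  have hk1 : (Units.mk0 _ hk0 : (ZMod r)ˣ) ≠ 1 := by
    intro e
    have e1 : (k : ZMod r) = ((1 : ℕ) : ZMod r) := by rw [Nat.cast_one]; exact congrArg Units.val e
    rw [ZMod.natCast_eq_natCast_iff] at e1
    refine hk (hgk.trans ?_)
    conv_rhs => rw [← pow_one h]
    rw [pow_eq_pow_iff_modEq, hh]
    exact e1
  obtain ⟨s, hs⟩ := exists_pow_eq_neg_one hr2 _ hk1 X hne' h0X hnegX hmulX hcard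
  -- an inverting element
  have hiter : ∀ j : ℕ, (g ^ j)⁻¹ * h * g ^ j = h ^ (k ^ j) := by
    intro j
    induction j with
    | zero => simp
    | succ j ih =>
      have hc : g⁻¹ * h ^ (k ^ j) * g = (g⁻¹ * h * g) ^ (k ^ j) := by
        have := (conj_pow (a := g⁻¹) (b := h) (i := k ^ j)).symm
        simpa using this
      rw [show (g ^ (j + 1))⁻¹ * h * g ^ (j + 1) = g⁻¹ * ((g ^ j)⁻¹ * h * g ^ j) * g by rw [pow_succ g j]; group, ih, hc, hgk,
        ← pow_mul, pow_succ' k j]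
  set g0 := g ^ s with hg0
  have hinv : g0⁻¹ * h * g0 = h⁻¹ := by
    have e1 : ((k ^ s + 1 : ℕ) : ZMod r) = 0 := by
      have := congrArg Units.val hs
      rw [Units.val_pow_eq_pow_val, Units.val_mk0, Units.val_neg, Units.val_one] at this
      push_cast
      rw [this, neg_add_cancel]
    rw [ZMod.natCast_eq_zero_iff] at e1
    rw [hiter]
    refine eq_inv_of_mul_eq_one_left ?_
    rw [← pow_succ, ← orderOf_dvd_iff_pow_eq_one, hh]
    exact e1
  have hinv' : ∀ j : ℕ, (g0 ^ j)⁻¹ * h * g0 ^ j = if Even j then h else h⁻¹ := by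
    intro j
    induction j with
    | zero => simp
    | succ j ih =>
      rw [show (g0 ^ (j + 1))⁻¹ * h * g0 ^ (j + 1) = g0⁻¹ * ((g0 ^ j)⁻¹ * h * g0 ^ j) * g0 by rw [pow_succ g0 j]; group, ih]
      by_cases hj : Even j
      · rw [if_pos hj, if_neg (by simp [Nat.even_add_one, hj]), hinv]
      · rw [if_neg hj, if_pos (by simp [Nat.even_add_one, hj]), show g0⁻¹ * h⁻¹ * g0 = (g0⁻¹ * h * g0)⁻¹ by group, hinv, inv_inv]
  obtain ⟨a, t, ht, hat⟩ := Nat.exists_eq_pow_mul_and_not_dvd (orderOf_pos g0).ne' 2 (by norm_num)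
  set y := g0 ^ t with hy
  have hyinv : y⁻¹ * h * y = h⁻¹ := by
    rw [hy, hinv', if_neg (fun he => ht he.two_dvd)]
  have hy2a : y ^ 2 ^ a = 1 := by rw [hy, ← pow_mul, mul_comm, ← hat, pow_orderOf_eq_one]
  have hy1 : y ≠ 1 := by
    intro e
    rw [e, inv_one, one_mul, mul_one] at hyinv
    have h2 : h ^ 2 = 1 := by rw [pow_two]; conv_lhs => arg 2; rw [hyinv]
                              exact mul_inv_cancel h
    have := orderOf_dvd_of_pow_eq_one h2
    rw [hh] at this
    exact hr2 ((Nat.prime_dvd_prime_iff_eq hr Nat.prime_two).mp this)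
  have hy2 : y * y = 1 := by
    by_contra hne2
    have hc : Commute h (y * y) := by
      have e1 : (y * y)⁻¹ * h * (y * y) = h := by
        rw [show (y * y)⁻¹ * h * (y * y) = y⁻¹ * (y⁻¹ * h * y) * y by group, hyinv,
          show y⁻¹ * h⁻¹ * y = (y⁻¹ * h * y)⁻¹ by group, hyinv, inv_inv]
      show h * (y * y) = (y * y) * h
      calc h * (y * y) = (y * y) * ((y * y)⁻¹ * h * (y * y)) := by group
        _ = _ := by rw [e1]
    have hd : orderOf (y * y) ∣ 2 ^ a := orderOf_dvd_of_pow_eq_one (by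
      rw [← pow_two, ← pow_mul, mul_comm, pow_mul, hy2a, one_pow])
    obtain ⟨b, -, hb⟩ := (Nat.dvd_prime_pow Nat.prime_two).mp hd
    rcases b with _ | b
    · rw [pow_zero, orderOf_eq_one_iff] at hb; exact hne2 hb
    have hz : orderOf ((y * y) ^ 2 ^ b) = 2 := by
      rw [orderOf_pow_of_dvd (pow_ne_zero _ two_ne_zero) (by rw [hb]; exact pow_dvd_pow _ (Nat.le_succ _)), hb,
        pow_succ, Nat.mul_div_cancel_left _ (by positivity)]
    have h4 := sz_centralizer_involution hF hz (hc.pow_right _)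
    have := orderOf_dvd_of_pow_eq_one h4
    rw [hh, show (4 : ℕ) = 2 ^ 2 from rfl] at this
    exact hr2 ((Nat.prime_dvd_prime_iff_eq hr Nat.prime_two).mp (hr.dvd_of_dvd_pow this))
  refine ⟨y, hy2, hy1, ?_⟩
  have e : y⁻¹ = y := inv_eq_of_mul_eq_one_right hy2
  rw [e] at hyinv ⊢
  exact hyinv

end Cfsg.Agent.LocalStructure
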