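import Mathlib
import Cfsg.Agent.LocalStructure.FrakLCore
import Cfsg.Agent.LocalStructure.FrakLFacts
import Cfsg.Agent.LocalStructure.SuzukiReal
import Cfsg.Agent.LocalStructure.PReduced

/-!
# The members of `𝔏` satisfy the abstract setting
-/

set_option autoImplicit false
set_option linter.all false

namespace Cfsg.Agent.LocalStructure

open Subgroup

theorem charP_of_card_eq {F : Type} [Field F] [Fintype F] {p n : ℕ} [hp : Fact p.Prime]
    (h : Fintype.card F = p ^ n) : CharP F p := by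
  obtain ⟨q, hq⟩ := CharP.exists F
  obtain ⟨k, hqp, hk⟩ := FiniteField.card F q
  have h1 : q ∣ p ^ n := by rw [← h, hk]; exact dvd_pow_self q k.pos.ne'
  have h2 := (Nat.prime_dvd_prime_iff_eq hqp hp.out).mp (hqp.dvd_of_dvd_pow h1)
  exact h2 ▸ hq

/-- What the proof needs of the quotient group. -/
def FacCond (p : ℕ) (K : Type*) [Group K] (q : ℕ) : Prop :=
  (∀ R : Subgroup K, IsPGroup p R → {x | x ∈ R ∧ x ^ p = 1}.ncard ≤ q) ∧
  ∀ k : K, (orderOf k).Prime → orderOf k ≠ p →
    (∃ x y : K, x ^ p = 1 ∧ y ^ p = 1 ∧ k = x * y) ∨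
    ((∀ z, z * k = k * z) ∧ ∃ x y : K, x ^ p = 1 ∧ y ^ p = 1 ∧ k = x * y * (x * y))

theorem FacCond.of_equiv {p q : ℕ} {K K' : Type*} [Group K] [Group K'] (e : K ≃* K') (h : FacCond p K' q) :
    FacCond p K q := by
  refine ⟨fun R hR => ?_, fun k hk hkp => ?_⟩
  · refine le_trans (le_of_eq ?_) (h.1 (R.map e.toMonoidHom) (hR.map _))
    rw [← Set.ncard_image_of_injective _ e.injective]
    congr 1
    ext z
    constructor
    · rintro ⟨x, ⟨hx, hx'⟩, rfl⟩
      exact ⟨mem_map_of_mem _ hx, by rw [← map_pow, hx', map_one]⟩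
    · rintro ⟨⟨x, hx, rfl⟩, hz⟩
      exact ⟨x, ⟨hx, e.injective (by rw [map_pow, map_one]; exact hz)⟩, rfl⟩
  · have ho : orderOf (e k) = orderOf k := e.orderOf_eq k
    have back : ∀ {x : K'}, x ^ p = 1 → e.symm x ^ p = 1 := fun hx => by rw [← map_pow, hx, map_one]
    rcases h.2 (e k) (ho ▸ hk) (ho ▸ hkp) with ⟨x, y, hx, hy, hxy⟩ | ⟨hc, x, y, hx, hy, hxy⟩
    · exact Or.inl ⟨e.symm x, e.symm y, back hx, back hy, by rw [← map_mul, ← hxy, e.symm_apply_apply]⟩
    · refine Or.inr ⟨fun z => e.injective (by rw [map_mul, map_mul, hc]),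
        e.symm x, e.symm y, back hx, back hy, by rw [← map_mul, ← map_mul, ← hxy, e.symm_apply_apply]⟩

theorem facCond_sl2 {F : Type} [Field F] [Fintype F] {p : ℕ} [Fact p.Prime] [CharP F p] :
    FacCond p (Matrix.SpecialLinearGroup (Fin 2) F) (Fintype.card F) := by
  refine ⟨fun R hR => ?_, fun k _ _ => sl2_product_or k⟩
  refine le_trans (Set.ncard_le_ncard (fun x hx => hx.1) (Set.toFinite (R : Set (Matrix.SpecialLinearGroup (Fin 2) F)))) ?_
  rw [← Nat.card_coe_set_eq]
  exact sl2_pGroup_card hR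

theorem facCond_dihedral {r : ℕ} (hr : r.Prime) (hr2 : r ≠ 2) {q : ℕ} (hq : 2 ≤ q) :
    FacCond 2 (DihedralGroup r) q := by
  haveI : NeZero r := ⟨hr.ne_zero⟩
  refine ⟨fun R hR => ?_, fun k hk hk2 => Or.inl (dihedral_product fun h => ?_)⟩
  · refine le_trans (Set.ncard_le_ncard (fun x hx => hx.1) (Set.toFinite (R : Set (DihedralGroup r)))) ?_
    rw [← Nat.card_coe_set_eq]
    exact (dihedral_two_group_card hr hr2 hR).trans hq
  · exact hk2 ((Nat.prime_dvd_prime_iff_eq hk Nat.prime_two).mp (orderOf_dvd_of_pow_eq_one h))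

theorem facCond_sz {F : Type} [Field F] [Fintype F] {m : ℕ} (hF : Fintype.card F = 2 ^ (2 * m + 1))
    (hgen : Subgroup.closure {g : ↥(Lie.Sz F (2 ^ (m + 1))) | g * g = 1} = ⊤) :
    FacCond 2 ↥(Lie.Sz F (2 ^ (m + 1))) (Fintype.card F) := by
  haveI := Fact.mk Nat.prime_two
  haveI : CharP F 2 := charP_of_card_eq hF
  refine ⟨fun R hR => ?_, fun k hk hk2 => ?_⟩
  · refine le_trans (le_of_eq ?_) ((sz_involutions_le R hR).trans (le_of_eq Nat.card_eq_fintype_card))
    rw [← Nat.card_coe_set_eq]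
    exact Nat.card_congr
      { toFun := fun x => ⟨⟨x.1, x.2.1⟩, Subtype.ext x.2.2⟩
        invFun := fun x => ⟨x.1.1, x.1.2, congrArg Subtype.val x.2⟩
        left_inv := fun x => rfl
        right_inv := fun x => rfl }
  · haveI := Fact.mk hk
    obtain ⟨y, hy2, -, hy⟩ := sz_inverting hk2 (by rw [Nat.card_eq_fintype_card]; exact hF) hgen (h := k) rfl
    refine Or.inl ⟨y, y * k, by rw [pow_two]; exact hy2, ?_, by rw [← mul_assoc, hy2, one_mul]⟩
    have e : y * k * y = k⁻¹ := by rwa [inv_eq_of_mul_eq_one_right hy2] at hy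
    rw [pow_two, ← mul_assoc, e, inv_mul_cancel]

variable {G : Type*} [Group G] [Finite G] {p : ℕ} [Fact p.Prime]

theorem frakL_setup {M L : Subgroup G} (hL : Cfsg.IsInFrakL p M L) :
    LSetup p ((Cfsg.largestPReducedOf p M).subgroupOf L) ∧
      ∀ k : L ⧸ Cfsg.pCore p L, (orderOf k).Prime → orderOf k ≠ p →
        (∃ x y, x ^ p = 1 ∧ y ^ p = 1 ∧ k = x * y) ∨
          ((∀ z, z * k = k * z) ∧ ∃ x y, x ^ p = 1 ∧ y ^ p = 1 ∧ k = x * y * (x * y)) := by
  obtain ⟨hYL, hncl, hAN, ⟨hgen, -⟩, -, ⟨hlt, hmax⟩, hiso⟩ := hL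
  set Y := Cfsg.largestPReducedOf p M with hY
  set A := Cfsg.pCore p L with hA
  have hAmap : Cfsg.pCoreOf p L = A.map L.subtype := rfl
  have hAsub : (Cfsg.pCoreOf p L).subgroupOf L = A :=
    comap_map_eq_self_of_injective L.subtype_injective _
  obtain ⟨hcomm, hexp⟩ := Thompson.ea_iff.mp (reducedIn_largest (p := p) M).ea
  set Y0 := Y.subgroupOf L with hY0
  have hN0 : (normalizer (Y : Set G)).subgroupOf L = normalizer (Y0 : Set L) := subgroupOf_normalizer_eq hYL
  have hinf : (Y ⊓ Cfsg.pCoreOf p L).subgroupOf L = Y0 ⊓ A := by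
    rw [← hAsub]; exact comap_inf _ _ _
  have hexp0 : ∀ y ∈ Y0, y ^ p = 1 := fun y hy => Subtype.ext (hexp _ hy)
  have hcore : A ≤ normalizer (Y0 : Set L) := fun x hx => hN0.le (hAN (mem_map_of_mem _ hx))
  have hproper : normalizer (Y0 : Set L) ≠ ⊤ := fun h => hlt.ne
    (inf_eq_left.mpr (subgroupOf_eq_top.mp (hN0.trans h)))
  -- the image of `Y` modulo the core
  set q := (Y ⊓ Cfsg.pCoreOf p L).relIndex Y with hq
  have hcard : Nat.card (Y0.map (QuotientGroup.mk' A)) = q := by
    rw [← relIndex_ker, QuotientGroup.ker_mk', ← inf_relIndex_right, inf_comm, ← hinf,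
      relIndex_subgroupOf hYL]
  have hYp : IsPGroup p (Y0.map (QuotientGroup.mk' A)) :=
    IsPGroup.map (fun y => ⟨1, Subtype.ext (by rw [pow_one]; exact hexp0 _ y.2)⟩) _
  have hbar : Y0.map (QuotientGroup.mk' A) ≠ ⊥ := fun h => by
    rw [Subgroup.map_eq_bot_iff, QuotientGroup.ker_mk'] at h
    exact hproper (top_le_iff.mp (hgen.ge.trans ((normalClosure_le_normal h).trans hcore)))
  obtain ⟨n, hn⟩ := IsPGroup.iff_card.mp hYp
  have hq2 : 2 ≤ q := by
    rw [← hcard]
    exact (one_lt_card_iff_ne_bot _).mpr hbar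
  have fc : FacCond p (L ⧸ A) q := by
    rcases hiso with ⟨F, _, _, hF, ⟨e⟩⟩ | ⟨rfl, F, _, _, m, hF, hFq, ⟨e⟩⟩ | ⟨rfl, r, hr, hr2, ⟨e⟩⟩
    · rw [← hF]
      haveI : CharP F p := charP_of_card_eq (p := p) (n := n) (by rw [hF, ← hcard, hn])
      exact FacCond.of_equiv e facCond_sl2
    · rw [← hFq]
      refine FacCond.of_equiv e (facCond_sz hF ?_)
      -- generated by involutions
      have h1 : Subgroup.closure {x : L ⧸ A | x * x = 1} = ⊤ := by
        have hsub : ((normalClosure (Y0 : Set L)).map (QuotientGroup.mk' A)) ≤ Subgroup.closure {x : L ⧸ A | x * x = 1} := by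
          rw [map_le_iff_le_comap]
          haveI : (Subgroup.closure {x : L ⧸ A | x * x = 1}).Normal := by
            refine ⟨fun u hu g => ?_⟩
            have : Subgroup.closure {x : L ⧸ A | x * x = 1} ≤
                (Subgroup.closure {x : L ⧸ A | x * x = 1}).comap (MulAut.conj g).toMonoidHom := by
              rw [closure_le]
              intro z hz
              refine subset_closure ?_
              show MulAut.conj g z * MulAut.conj g z = 1
              rw [← map_mul, show z * z = 1 from hz, map_one]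
            exact this hu
          refine normalClosure_le_normal fun y hy => subset_closure ?_
          show QuotientGroup.mk' A y * QuotientGroup.mk' A y = 1
          rw [← map_mul, ← pow_two, hexp0 y hy, map_one]
        rw [hgen, map_top_of_surjective _ (QuotientGroup.mk'_surjective A)] at hsub
        exact top_le_iff.mp hsub
      have h2 := congrArg (Subgroup.map e.toMonoidHom) h1
      rw [MonoidHom.map_closure, map_top_of_surjective _ e.surjective] at h2
      refine top_le_iff.mp (h2.ge.trans (closure_mono ?_))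
      rintro _ ⟨x, hx, rfl⟩
      show e x * e x = 1
      rw [← map_mul, show x * x = 1 from hx, map_one]
    · exact FacCond.of_equiv e (facCond_dihedral hr hr2 hq2)
  refine ⟨{
    comm := fun a ha b hb => Subtype.ext (mem_centralizer_iff.mp (hcomm hb) _ ha)
    exp := hexp0
    ncl := ?_
    core_le := hcore
    gen := hgen
    proper := hproper
    max := ?_
    small := fun R hR => hcard ▸ fc.1 R hR }, fc.2⟩
  · show A ≤ normalClosure ((Y0 ⊓ A : Subgroup L) : Set L)
    rw [← hinf]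
    exact le_of_eq (map_injective L.subtype_injective hncl)
  · intro X hYX hXne
    rw [← hN0]
    intro x hx
    have h1 : Y ≤ X.map L.subtype := fun y hy => ⟨⟨y, hYL hy⟩, hYX hy, rfl⟩
    have h2 : X.map L.subtype < L := lt_of_le_of_ne (map_subtype_le X) fun e => hXne (by
      apply map_injective L.subtype_injective
      rw [e, ← MonoidHom.range_eq_map, range_subtype])
    exact (hmax _ h1 h2 (mem_map_of_mem _ hx)).2

end Cfsg.Agent.LocalStructure
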