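import Mathlib
import Cfsg.Agent.LocalStructure.FrakLSetup

/-!
# The normalizer of a maximal elementary abelian `p`-subgroup of `SL₂`, `Sz` acts irreducibly on it
-/

set_option autoImplicit false
set_option linter.all false

namespace Cfsg.Agent.LocalStructure

open Subgroup
open scoped Pointwise

/-- Every subgroup of exponent `p` and order `q` has irreducible normalizer action. -/
def IrrCond (p : ℕ) (K : Type*) [Group K] (q : ℕ) : Prop :=
  ∀ R V : Subgroup K, IsPGroup p R → (∀ x ∈ R, x ^ p = 1) → Nat.card R = q → V ≤ R → V ≠ ⊥ →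
    normalizer (R : Set K) ≤ normalizer (V : Set K) → V = R

theorem IrrCond.of_equiv {p q : ℕ} {K K' : Type*} [Group K] [Group K'] (e : K ≃* K') (h : IrrCond p K' q) :
    IrrCond p K q := by
  intro R V hR hexp hcard hVR hV hN
  refine map_injective (f := e.toMonoidHom) e.injective (h _ _ (hR.map _) ?_ ?_ (map_mono hVR) ?_ ?_)
  · rintro _ ⟨x, hx, rfl⟩
    rw [← map_pow, hexp x hx, map_one]
  · rw [card_map_of_injective e.injective, hcard]
  · exact fun h => hV ((map_eq_bot_iff_of_injective _ e.injective).mp h)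
  · intro g hg
    obtain ⟨g0, rfl⟩ := e.surjective g
    have hmem : ∀ (W : Subgroup K) (y : K), e y ∈ W.map e.toMonoidHom ↔ y ∈ W := fun W y =>
      ⟨fun ⟨z, hz, hzy⟩ => e.injective hzy ▸ hz, fun hy => ⟨y, hy, rfl⟩⟩
    have h1 : g0 ∈ normalizer (R : Set K) := mem_normalizer_iff.mpr fun y => by
      have := mem_normalizer_iff.mp hg (e y)
      rw [← map_inv, ← map_mul, ← map_mul] at this
      exact ((hmem R y).symm.trans this).trans (hmem R _)
    refine mem_normalizer_iff.mpr fun y => ?_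
    obtain ⟨y0, rfl⟩ := e.surjective y
    have h2 := mem_normalizer_iff.mp (hN h1) y0
    rw [← map_inv, ← map_mul, ← map_mul]
    exact ((hmem V y0).trans h2).trans (hmem V _).symm

/-- It is enough to treat a conjugate. -/
theorem eq_of_conj {K : Type*} [Group K] (c : K) {R V : Subgroup K}
    (hN : normalizer (R : Set K) ≤ normalizer (V : Set K))
    (h : normalizer ((R.map (MulAut.conj c).toMonoidHom : Subgroup K) : Set K) ≤
        normalizer ((V.map (MulAut.conj c).toMonoidHom : Subgroup K) : Set K) →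
      V.map (MulAut.conj c).toMonoidHom = R.map (MulAut.conj c).toMonoidHom) : V = R := by
  refine map_injective (MulAut.conj c).injective (h fun g hg => ?_)
  have hmem : ∀ (W : Subgroup K) (y : K), c * y * c⁻¹ ∈ W.map (MulAut.conj c).toMonoidHom ↔ y ∈ W := fun W y =>
    ⟨fun ⟨z, hz, hzy⟩ => mul_left_cancel (mul_right_cancel hzy) ▸ hz, fun hy => ⟨y, hy, rfl⟩⟩
  have h1 : c⁻¹ * g * c ∈ normalizer (R : Set K) := mem_normalizer_iff.mpr fun y => by
    have h0 := mem_normalizer_iff.mp hg (c * y * c⁻¹)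
    rw [show g * (c * y * c⁻¹) * g⁻¹ = c * (c⁻¹ * g * c * y * (c⁻¹ * g * c)⁻¹) * c⁻¹ by group] at h0
    exact ((hmem R y).symm.trans h0).trans (hmem R _)
  refine mem_normalizer_iff.mpr fun y => ?_
  have h2 := mem_normalizer_iff.mp (hN h1) (c⁻¹ * y * c)
  rw [← hmem V (c⁻¹ * y * c), ← hmem V (_ * _ * _)] at h2
  simpa [mul_assoc] using h2

section SL2

open Matrix

variable {F : Type} [Field F] [Fintype F] {p : ℕ} [Fact p.Prime] [CharP F p]

/-- The elementary transvection. -/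
def sl2Upper (t : F) : SpecialLinearGroup (Fin 2) F := ⟨!![1, t; 0, 1], by simp [Matrix.det_fin_two]⟩

theorem irrCond_sl2 : IrrCond p (SpecialLinearGroup (Fin 2) F) (Fintype.card F) := by
  classical
  intro R V hR hexp hcard hVR hV hN
  letI : MulAction R (Fin 2 → F) :=
    { smul := fun g v => (((g : SpecialLinearGroup (Fin 2) F)) : Matrix (Fin 2) (Fin 2) F) *ᵥ v
      one_smul := fun v => by
        exact (congrArg (fun A => A *ᵥ v) (Matrix.SpecialLinearGroup.coe_one (n := Fin 2) (R := F))).trans (Matrix.one_mulVec v)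
      mul_smul := fun g h v => by
        exact (congrArg (fun A => A *ᵥ v) (Matrix.SpecialLinearGroup.coe_mul (g : SpecialLinearGroup (Fin 2) F) h)).trans
          (Matrix.mulVec_mulVec _ _ _).symm }
  have hdvd : p ∣ Nat.card (Fin 2 → F) := by
    rw [Nat.card_fun, Nat.card_eq_fintype_card]
    obtain ⟨n, -, hn⟩ := FiniteField.card F p
    rw [hn]
    exact dvd_pow (dvd_pow_self p n.pos.ne') (by simp)
  have h0 : (0 : Fin 2 → F) ∈ MulAction.fixedPoints R (Fin 2 → F) := fun g => Matrix.mulVec_zero _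
  obtain ⟨v, hv, hv0⟩ := hR.exists_fixed_point_of_prime_dvd_card_of_fixed_point (Fin 2 → F) hdvd h0
  have hfix : ∀ g : R, (((g : SpecialLinearGroup (Fin 2) F)) : Matrix (Fin 2) (Fin 2) F) *ᵥ v = v := hv
  obtain ⟨c, hc⟩ : ∃ c : SpecialLinearGroup (Fin 2) F, (c : Matrix (Fin 2) (Fin 2) F) *ᵥ v = ![1, 0] := by
    by_cases h : v 0 = 0
    · have h1 : v 1 ≠ 0 := fun e => hv0 (funext fun i => by fin_cases i <;> simp [h, e])
      refine ⟨⟨!![0, (v 1)⁻¹; -v 1, 0], by simp [Matrix.det_fin_two, h1]⟩, ?_⟩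
      ext i; fin_cases i <;> simp [Matrix.mulVec, dotProduct, Fin.sum_univ_two, h, h1]
    · refine ⟨⟨!![(v 0)⁻¹, 0; -v 1, v 0], by simp [Matrix.det_fin_two, h]⟩, ?_⟩
      ext i; fin_cases i <;> simp [Matrix.mulVec, dotProduct, Fin.sum_univ_two, h]
      ring
  refine eq_of_conj c hN ?_
  set R' := R.map (MulAut.conj c).toMonoidHom with hR'
  set V' := V.map (MulAut.conj c).toMonoidHom with hV'
  intro hN'
  have hV'R' : V' ≤ R' := map_mono hVR
  have hup : ∀ x ∈ R', ∃ t, x = sl2Upper t := by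
    rintro _ ⟨r, hr, rfl⟩
    have e : (((c * r * c⁻¹ : SpecialLinearGroup (Fin 2) F)) : Matrix (Fin 2) (Fin 2) F) *ᵥ ![1, 0] = ![1, 0] := by
      conv_lhs => rw [← hc, Matrix.mulVec_mulVec, ← Matrix.SpecialLinearGroup.coe_mul,
        inv_mul_cancel_right, Matrix.SpecialLinearGroup.coe_mul, ← Matrix.mulVec_mulVec, hfix ⟨r, hr⟩, hc]
    set x : SpecialLinearGroup (Fin 2) F := c * r * c⁻¹ with hx
    have h00 := congrFun e 0
    have h10 := congrFun e 1
    simp [Matrix.mulVec, dotProduct, Fin.sum_univ_two] at h00 h10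
    have hd : (x : Matrix (Fin 2) (Fin 2) F) 0 0 * (x : Matrix (Fin 2) (Fin 2) F) 1 1 -
        (x : Matrix (Fin 2) (Fin 2) F) 0 1 * (x : Matrix (Fin 2) (Fin 2) F) 1 0 = 1 := by
      rw [← Matrix.det_fin_two]; exact x.2
    rw [h00, h10, mul_zero, sub_zero, one_mul] at hd
    refine ⟨(x : Matrix (Fin 2) (Fin 2) F) 0 1, ?_⟩
    show x = _
    refine Matrix.SpecialLinearGroup.ext _ _ fun i j => ?_
    fin_cases i <;> fin_cases j <;> simp [sl2Upper, h00, h10, hd]
  have hall : ∀ t, sl2Upper t ∈ R' := by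
    choose f hf using hup
    have hinj : Function.Injective (fun x : R' => f x.1 x.2) := fun x y h => Subtype.ext (by
      rw [hf x.1 x.2, hf y.1 y.2]; exact congrArg _ h)
    have hcard' : Nat.card R' = Nat.card F := by
      rw [hR', card_map_of_injective (MulAut.conj c).injective, hcard, Nat.card_eq_fintype_card]
    have hbij := (Nat.bijective_iff_injective_and_card (fun x : R' => f x.1 x.2)).mpr ⟨hinj, hcard'⟩
    intro t
    obtain ⟨x, hx⟩ := hbij.2 t
    have hx' : f x.1 x.2 = t := hx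
    rw [← hx', ← hf x.1 x.2]
    exact x.2
  have hadd : ∀ s t : F, sl2Upper s * sl2Upper t = sl2Upper (s + t) := fun s t => by
    refine Matrix.SpecialLinearGroup.ext _ _ fun i j => ?_
    rw [Matrix.SpecialLinearGroup.coe_mul, Matrix.mul_apply, Fin.sum_univ_two]
    fin_cases i <;> fin_cases j <;> simp [sl2Upper, add_comm]
  have hzero : sl2Upper (0 : F) = 1 := by
    refine Matrix.SpecialLinearGroup.ext _ _ fun i j => ?_
    fin_cases i <;> fin_cases j <;> simp [sl2Upper]
  have hinv : ∀ t : F, (sl2Upper t)⁻¹ = sl2Upper (-t) := fun t => inv_eq_of_mul_eq_one_right (by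
    rw [hadd, add_neg_cancel, hzero])
  have htor : ∀ (a t : F), sl2Upper t ∈ V' → sl2Upper (a * a * t) ∈ V' := by
    intro a t ht
    by_cases ha : a = 0
    · subst ha; rw [zero_mul, zero_mul, hzero]; exact one_mem _
    let d : SpecialLinearGroup (Fin 2) F := ⟨!![a, 0; 0, a⁻¹], by simp [Matrix.det_fin_two, ha]⟩
    have hd : ∀ s, d * sl2Upper s * d⁻¹ = sl2Upper (a * a * s) := fun s => by
      rw [mul_inv_eq_iff_eq_mul]
      refine Matrix.SpecialLinearGroup.ext _ _ fun i j => ?_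
      rw [Matrix.SpecialLinearGroup.coe_mul, Matrix.SpecialLinearGroup.coe_mul, Matrix.mul_apply, Matrix.mul_apply,
        Fin.sum_univ_two, Fin.sum_univ_two]
      fin_cases i <;> fin_cases j <;> simp [d, sl2Upper]
      field_simp
    have hdN : d ∈ normalizer (R' : Set (SpecialLinearGroup (Fin 2) F)) := by
      rw [mem_normalizer_iff]
      intro x
      constructor
      · intro hx
        obtain ⟨s, rfl⟩ := hup x hx
        rw [hd]; exact hall _
      · intro hx
        obtain ⟨s, hs⟩ := hup _ hx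
        have : x = sl2Upper (a⁻¹ * a⁻¹ * s) := by
          refine mul_left_cancel (mul_right_cancel (show d * x * d⁻¹ = d * sl2Upper (a⁻¹ * a⁻¹ * s) * d⁻¹ from ?_))
          rw [hs, hd]; congr 1; field_simp
        rw [this]; exact hall _
    rw [← hd]
    exact (mem_normalizer_iff.mp (hN' hdN) _).mp ht
  obtain ⟨x, hx, hx1⟩ : ∃ x ∈ V', x ≠ 1 := by
    by_contra h
    push Not at h
    exact hV ((map_eq_bot_iff_of_injective _ (MulAut.conj c).injective).mp ((Subgroup.eq_bot_iff_forall _).mpr h))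
  obtain ⟨t0, rfl⟩ := hup x (hV'R' hx)
  have ht0 : t0 ≠ 0 := fun e => hx1 (by rw [e, hzero])
  refine le_antisymm hV'R' fun y hy => ?_
  obtain ⟨t, rfl⟩ := hup y hy
  by_cases hp : p = 2
  · subst hp
    obtain ⟨a, ha⟩ := (Finite.injective_iff_surjective.mp (frobenius F 2).injective) (t / t0)
    rw [frobenius_def, pow_two] at ha
    have := htor a t0 hx
    rwa [ha, div_mul_cancel₀ _ ht0] at this
  · have h2 : (2 : F) ≠ 0 := fun e => hp (by
      have h' : ((2 : ℕ) : F) = 0 := by rw [Nat.cast_ofNat]; exact e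
      rw [CharP.cast_eq_zero_iff F p] at h'
      exact (Nat.prime_dvd_prime_iff_eq Fact.out Nat.prime_two).mp h')
    have h1 := mul_mem (htor ((t / t0 + 1) / 2) t0 hx) (inv_mem (htor ((t / t0 - 1) / 2) t0 hx))
    rw [hinv, hadd] at h1
    convert h1 using 2
    field_simp
    ring

end SL2

theorem irrCond_dihedral {r : ℕ} (hr : r.Prime) (hr2 : r ≠ 2) {q : ℕ} :
    IrrCond 2 (DihedralGroup r) q := by
  intro R V hR _ _ hVR hV _
  haveI : NeZero r := ⟨hr.ne_zero⟩
  refine eq_of_le_of_card_ge hVR ((dihedral_two_group_card hr hr2 hR).trans ?_)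
  exact (one_lt_card_iff_ne_bot _).mpr hV

section Sz

open Matrix Cfsg.Lie

variable {F : Type} [Field F] [Fintype F] {m : ℕ}

theorem irrCond_sz (hF : Fintype.card F = 2 ^ (2 * m + 1)) :
    IrrCond 2 ↥(Sz F (2 ^ (m + 1))) (Fintype.card F) := by
  haveI := Fact.mk Nat.prime_two
  haveI : CharP F 2 := charP_of_card_eq hF
  intro R V hR hexp hcard hVR hV hN
  obtain ⟨c, hc⟩ := exists_conj_uni hR
  refine eq_of_conj c hN ?_
  set R' := R.map (MulAut.conj c).toMonoidHom with hR'
  set V' := V.map (MulAut.conj c).toMonoidHom with hV'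
  intro hN'
  have hV'R' : V' ≤ R' := map_mono hVR
  let β : ↥(Sz F (2 ^ (m + 1))) → F := fun x => (x.1 : GL (Fin 4) F).1 2 0
  have hRu : ∀ x ∈ R', x ∈ uniSubgroup F (m + 1) ∧ x * x = 1 := by
    rintro _ ⟨r, hr, rfl⟩
    refine ⟨hc r hr, ?_⟩
    rw [← map_mul, ← pow_two, hexp r hr, map_one]
  have hdet : ∀ x y : ↥(Sz F (2 ^ (m + 1))), x ∈ uniSubgroup F (m + 1) → x * x = 1 →
      y ∈ uniSubgroup F (m + 1) → y * y = 1 → β x = β y → x = y := by
    intro x y hux hx2 huy hy2 hxy
    obtain ⟨a1, a2, a3, a4, a5⟩ := uni_involution x.2 hux (congrArg Subtype.val hx2)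
    obtain ⟨b1, b2, b3, b4, b5⟩ := uni_involution y.2 huy (congrArg Subtype.val hy2)
    simp only [β] at hxy
    refine Subtype.ext (Units.ext ?_)
    ext i j
    rcases lt_trichotomy i j with h | rfl | h
    · rw [hux.1 i j h, huy.1 i j h]
    · rw [hux.2, huy.2]
    · fin_cases i <;> fin_cases j <;> first | exact absurd h (by decide) | simp_all
  have hbij : Function.Bijective (fun x : R' => β x.1) :=
    (Nat.bijective_iff_injective_and_card _).mpr ⟨fun x y h => Subtype.ext
      (hdet x.1 y.1 (hRu x.1 x.2).1 (hRu x.1 x.2).2 (hRu y.1 y.2).1 (hRu y.1 y.2).2 h), by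
      rw [hR', card_map_of_injective (MulAut.conj c).injective, hcard, Nat.card_eq_fintype_card]⟩
  obtain ⟨x, hx, hx1⟩ : ∃ x ∈ V', x ≠ 1 := by
    by_contra h
    push Not at h
    exact hV ((map_eq_bot_iff_of_injective _ (MulAut.conj c).injective).mp ((Subgroup.eq_bot_iff_forall _).mpr h))
  have hx0 : β x ≠ 0 := fun e => hx1 (hdet x 1 (hRu x (hV'R' hx)).1 (hRu x (hV'R' hx)).2 (one_mem _) (one_mul 1)
    (by rw [e]; simp [β]))
  -- the torus
  have htor : ∀ (a : F) (ha : a ≠ 0), let d : ↥(Sz F (2 ^ (m + 1))) := ⟨_, NilCover.szTorus_mem hF ha⟩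
      d ∈ normalizer (R' : Set ↥(Sz F (2 ^ (m + 1)))) ∧ ∀ y ∈ R', β (d * y * d⁻¹) = (a ^ 2 ^ (m + 1))⁻¹ * β y := by
    intro a ha d
    have hval : ∀ y : ↥(Sz F (2 ^ (m + 1))), ((d * y * d⁻¹).1 : GL (Fin 4) F).1 =
        Matrix.diagonal (NilCover.szDiag (2 ^ (m + 1)) a) * (y.1 : GL (Fin 4) F).1 *
          Matrix.diagonal fun i => (NilCover.szDiag (2 ^ (m + 1)) a i)⁻¹ := fun y => rfl
    have hsc : ∀ y : ↥(Sz F (2 ^ (m + 1))), ∀ i j, ((d * y * d⁻¹).1 : GL (Fin 4) F).1 i j =
        NilCover.szDiag (2 ^ (m + 1)) a i * (y.1 : GL (Fin 4) F).1 i j * (NilCover.szDiag (2 ^ (m + 1)) a j)⁻¹ := by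
      intro y i j
      rw [hval, Matrix.mul_diagonal, Matrix.diagonal_mul]
    have hβ : ∀ y, β (d * y * d⁻¹) = (a ^ 2 ^ (m + 1))⁻¹ * β y := by
      intro y
      simp only [β]
      rw [hsc]
      simp [NilCover.szDiag]
      field_simp
    refine ⟨?_, fun y _ => hβ y⟩
    have hmem : ∀ y ∈ R', d * y * d⁻¹ ∈ R' := by
      intro y hy
      obtain ⟨hyu, hy2⟩ := hRu y hy
      obtain ⟨⟨z, hz⟩, hze⟩ := hbij.2 (β (d * y * d⁻¹))
      have hu' : d * y * d⁻¹ ∈ uniSubgroup F (m + 1) := by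
        refine ⟨fun i j h => ?_, fun i => ?_⟩
        · rw [hsc, hyu.1 i j h, mul_zero, zero_mul]
        · rw [hsc, hyu.2 i, mul_one, mul_inv_cancel₀ (NilCover.szDiag_ne_zero ha _ i)]
      have h2 : d * y * d⁻¹ * (d * y * d⁻¹) = 1 := by
        rw [show d * y * d⁻¹ * (d * y * d⁻¹) = d * (y * y) * d⁻¹ by group, hy2, mul_one, mul_inv_cancel]
      rwa [hdet _ z hu' h2 (hRu z hz).1 (hRu z hz).2 hze.symm]
    refine mem_normalizer_iff.mpr fun y => ⟨hmem y, fun hy => ?_⟩
    have heq : R'.map (MulAut.conj d).toMonoidHom = R' := eq_of_le_of_card_ge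
      (by rintro _ ⟨z, hz, rfl⟩; exact hmem z hz) (card_map_of_injective (MulAut.conj d).injective).ge
    obtain ⟨z, hz, hzy⟩ := heq.ge hy
    rwa [← mul_left_cancel (mul_right_cancel (show d * z * d⁻¹ = d * y * d⁻¹ from hzy))]
  refine le_antisymm hV'R' fun y hy => ?_
  by_cases hy0 : β y = 0
  · have : y = 1 := hdet y 1 (hRu y hy).1 (hRu y hy).2 (one_mem _) (one_mul 1) (by rw [hy0]; simp [β])
    rw [this]; exact one_mem _
  obtain ⟨a, ha⟩ := (Finite.injective_iff_surjective.mp (iterateFrobenius F 2 (m + 1)).injective) (β x / β y)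
  rw [iterateFrobenius_def] at ha
  have ha0 : a ≠ 0 := by
    rintro rfl
    rw [zero_pow (pow_ne_zero _ two_ne_zero)] at ha
    exact (div_ne_zero hx0 hy0) ha.symm
  obtain ⟨hdN, hdβ⟩ := htor a ha0
  have h1 := (mem_normalizer_iff.mp (hN' hdN) x).mp hx
  have h2 := hdβ x (hV'R' hx)
  rw [ha, inv_div, div_mul_cancel₀ _ hx0] at h2
  rwa [← hdet _ y (hRu _ (hV'R' h1)).1 (hRu _ (hV'R' h1)).2 (hRu y hy).1 (hRu y hy).2 h2]

end Sz

variable {G : Type*} [Group G] [Finite G] {p : ℕ} [Fact p.Prime]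

/-- `Y` modulo the core is the only normal elementary abelian subgroup of its normalizer. -/
theorem frakL_unique {M L : Subgroup G} (hL : Cfsg.IsInFrakL p M L) :
    let Y0 := (Cfsg.largestPReducedOf p M).subgroupOf L
    let π := QuotientGroup.mk' (Cfsg.pCore p L)
    Y0.map π ≠ ⊥ ∧ ∀ V : Subgroup (L ⧸ Cfsg.pCore p L), V ≤ (normalizer (Y0 : Set L)).map π →
      (normalizer (Y0 : Set L)).map π ≤ normalizer (V : Set (L ⧸ Cfsg.pCore p L)) →
      IsPGroup p V → (∀ v ∈ V, v ^ p = 1) → V ≠ ⊥ → V = Y0.map π := by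
  obtain ⟨hset, -⟩ := frakL_setup hL
  obtain ⟨hYL, -, -, -, -, -, hiso⟩ := hL
  intro Y0 π
  have hbar : Y0.map π ≠ ⊥ := fun h => by
    rw [Subgroup.map_eq_bot_iff, QuotientGroup.ker_mk'] at h
    exact hset.proper (top_le_iff.mp (hset.gen.ge.trans ((normalClosure_le_normal h).trans hset.core_le)))
  refine ⟨hbar, fun V hVle hVn hVp hVexp hV => ?_⟩
  have hnorm : normalizer ((Y0.map π : Subgroup _) : Set (L ⧸ Cfsg.pCore p L)) = (normalizer (Y0 : Set L)).map π := by
    refine le_antisymm ?_ (le_normalizer_map π)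
    set W := (normalizer ((Y0.map π : Subgroup _) : Set (L ⧸ Cfsg.pCore p L))).comap π with hW
    have hWtop : W ≠ ⊤ := by
      intro htop
      have hn : (Y0.map π).Normal := normalizer_eq_top_iff.mp (eq_top_iff.mpr fun u _ => by
        obtain ⟨u, rfl⟩ := QuotientGroup.mk'_surjective (Cfsg.pCore p L) u
        exact htop.ge (mem_top u))
      have h := Core.le_pCore hset.isPGroup_map (hN := hn)
      rw [Core.pCore_quotient_eq_bot, le_bot_iff] at h
      exact hbar h
    have h1 := hset.max W (fun y hy => le_normalizer (mem_map_of_mem π hy)) hWtop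
    exact (map_comap_eq_self_of_surjective (QuotientGroup.mk'_surjective _) _).ge.trans (map_mono h1)
  have hYV : Y0.map π ≤ normalizer (V : Set (L ⧸ Cfsg.pCore p L)) := (map_mono le_normalizer).trans hVn
  have hVY : V ≤ Y0.map π := by
    intro v hv
    by_contra hne
    have hsm := hset.small _ (hset.isPGroup_map.to_sup_of_normal_right' hVp hYV)
    have h2 : (insert v ((Y0.map π : Subgroup _) : Set (L ⧸ Cfsg.pCore p L))).ncard ≤ Nat.card (Y0.map π) := by
      refine le_trans (Set.ncard_le_ncard ?_ (Set.toFinite _)) hsm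
      rintro z (rfl | hz)
      · exact ⟨mem_sup_right hv, hVexp _ hv⟩
      · refine ⟨mem_sup_left hz, ?_⟩
        obtain ⟨w, hw, rfl⟩ := hz
        rw [← map_pow, hset.exp w hw, map_one]
    rw [Set.ncard_insert_of_notMem hne (Set.toFinite _), ← Nat.card_coe_set_eq] at h2
    exact absurd h2 (Nat.not_succ_le_self _)
  set q := (Cfsg.largestPReducedOf p M ⊓ Cfsg.pCoreOf p L).relIndex (Cfsg.largestPReducedOf p M) with hq
  have hcard : Nat.card (Y0.map π) = q := by
    have hinf : (Cfsg.largestPReducedOf p M ⊓ Cfsg.pCoreOf p L).subgroupOf L = Y0 ⊓ Cfsg.pCore p L := by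
      rw [← show (Cfsg.pCoreOf p L).subgroupOf L = Cfsg.pCore p L from
        comap_map_eq_self_of_injective L.subtype_injective _]
      exact comap_inf _ _ _
    rw [← relIndex_ker, QuotientGroup.ker_mk', ← inf_relIndex_right, inf_comm, ← hinf, relIndex_subgroupOf hYL]
  obtain ⟨n, hn⟩ := IsPGroup.iff_card.mp hset.isPGroup_map
  have hirr : IrrCond p (L ⧸ Cfsg.pCore p L) q := by
    rcases hiso with ⟨F, _, _, hF, ⟨e⟩⟩ | ⟨rfl, F, _, _, m, hF, hFq, ⟨e⟩⟩ | ⟨rfl, r, hr, hr2, ⟨e⟩⟩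
    · rw [← hF]
      haveI : CharP F p := charP_of_card_eq (p := p) (n := n) (by rw [hF, ← hcard, hn])
      exact IrrCond.of_equiv e irrCond_sl2
    · rw [← hFq]
      exact IrrCond.of_equiv e (irrCond_sz hF)
    · exact IrrCond.of_equiv e (irrCond_dihedral hr hr2)
  refine hirr _ V hset.isPGroup_map ?_ hcard hVY hV (hnorm.le.trans hVn)
  rintro _ ⟨y, hy, rfl⟩
  rw [← map_pow, hset.exp y hy, map_one]

end Cfsg.Agent.LocalStructure
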