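import Mathlib
import Cfsg.Prelude.Def_SylowChains
import Cfsg.Agent.LocalStructure.WeaklyClosed

/-!
# Chains of Sylow subgroups
-/

set_option autoImplicit false
set_option linter.all false

namespace Cfsg.Agent.LocalStructure

open Subgroup

variable {G : Type*} [Group G] [Finite G]

theorem cmap_inf (g : G) (A B : Subgroup G) : cmap g (A ⊓ B) = cmap g A ⊓ cmap g B :=
  Subgroup.map_inf _ _ _ (MulAut.conj g).injective

theorem subgroupConjRight_eq (g : G) (X : Subgroup G) : Cfsg.subgroupConjRight g X = cmap g⁻¹ X := rfl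

theorem mem_conjRight {g : G} {A : Set G} {z : G} : z ∈ Cfsg.conjRight g A ↔ g * z * g⁻¹ ∈ A := by
  unfold Cfsg.conjRight
  constructor
  · rintro ⟨a, ha, rfl⟩
    simpa [mul_assoc] using ha
  · intro h
    exact ⟨_, h, by group⟩

theorem sylowMembers_cmap {p : ℕ} [Fact p.Prime] {𝓕 : Set (Subgroup G)} (h𝓕 : Cfsg.IsNormalSet 𝓕) {S X : Subgroup G}
    (hX : X ∈ Cfsg.sylowMembers p 𝓕 S) (g : G) :
    cmap g X ∈ Cfsg.sylowMembers p 𝓕 (cmap g S) := by
  obtain ⟨hmem, P, hP⟩ := hX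
  refine ⟨?_, ?_⟩
  · have := h𝓕 X hmem g⁻¹
    rwa [subgroupConjRight_eq, inv_inv] at this
  · let e := MulEquiv.subgroupMap (MulAut.conj g) X
    refine ⟨P.mapSurjective (f := e.toMonoidHom) e.surjective, ?_⟩
    rw [← cmap_inf, ← hP]
    show ((P : Subgroup X).map e.toMonoidHom).map (cmap g X).subtype = _
    refine (Subgroup.map_map _ _ _).trans ?_
    show _ = ((P : Subgroup X).map X.subtype).map (MulAut.conj g).toMonoidHom
    rw [Subgroup.map_map]
    rfl

/-- One step in a chain of Sylow subgroups whose intersections contain `D`. -/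
def Step (p : ℕ) (𝓕 : Set (Subgroup G)) (D : Subgroup G) (S T : Sylow p G) : Prop :=
  ∃ (X : Subgroup G) (x : G), X ∈ Cfsg.sylowMembers p 𝓕 (S : Subgroup G) ∧
    X ∈ Cfsg.sylowMembers p 𝓕 (T : Subgroup G) ∧ x ∈ X ∧
    Cfsg.subgroupConjRight x (T : Subgroup G) = (S : Subgroup G) ∧ D ≤ (T : Subgroup G) ⊓ X

theorem reflTransGen_iff_exists_chain {α : Type*} {r : α → α → Prop} {a b : α} :
    Relation.ReflTransGen r a b ↔ ∃ (n : ℕ) (c : Fin (n + 1) → α),
      c 0 = a ∧ c (Fin.last n) = b ∧ ∀ i : Fin n, r (c i.castSucc) (c i.succ) := by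
  constructor
  · intro h
    induction h with
    | refl => exact ⟨0, fun _ => a, rfl, rfl, fun i => i.elim0⟩
    | @tail b c hab hbc ih =>
      obtain ⟨n, f, h0, hl, hs⟩ := ih
      refine ⟨n + 1, Fin.snoc f c, ?_, Fin.snoc_last _ _, fun i => ?_⟩
      · rw [← Fin.castSucc_zero, Fin.snoc_castSucc, h0]
      · induction i using Fin.lastCases with
        | last => rw [Fin.snoc_castSucc, Fin.succ_last, Fin.snoc_last, hl]; exact hbc
        | cast j => rw [Fin.snoc_castSucc, Fin.succ_castSucc, Fin.snoc_castSucc]; exact hs j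
  · rintro ⟨n, f, h0, hl, hs⟩
    subst h0 hl
    have key : ∀ i : Fin (n + 1), Relation.ReflTransGen r (f 0) (f i) := by
      intro i
      induction i using Fin.induction with
      | zero => exact .refl
      | succ j ih => exact ih.tail (hs j)
    exact key _

variable {p : ℕ}

theorem controls_iff {𝓕 : Set (Subgroup G)} :
    Cfsg.ControlsSylowIntersections p 𝓕 ↔
      ∀ S T : Sylow p G, S ≠ T → (S : Subgroup G) ⊓ (T : Subgroup G) ≠ ⊥ →
        Relation.ReflTransGen (Step p 𝓕 ((S : Subgroup G) ⊓ (T : Subgroup G))) S T := by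
  constructor
  · intro h S T hne hD
    obtain ⟨n, c, X, x, h0, hl, hs⟩ := h S T hne hD
    exact reflTransGen_iff_exists_chain.mpr ⟨n, c, h0, hl, fun i => ⟨X i, x i, hs i⟩⟩
  · intro h S T hne hD
    obtain ⟨n, c, h0, hl, hs⟩ := reflTransGen_iff_exists_chain.mp (h S T hne hD)
    choose X x hx using hs
    exact ⟨n, c, X, x, h0, hl, hx⟩

theorem Step.mono {𝓕 𝓕' : Set (Subgroup G)} {D D' : Subgroup G} {S T : Sylow p G} (h : Step p 𝓕 D S T)
    (hF : 𝓕 ⊆ 𝓕') (hD : D' ≤ D) : Step p 𝓕' D' S T := by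
  obtain ⟨X, x, h1, h2, h3, h4, h5⟩ := h
  exact ⟨X, x, ⟨hF h1.1, h1.2⟩, ⟨hF h2.1, h2.2⟩, h3, h4, hD.trans h5⟩

end Cfsg.Agent.LocalStructure
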