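import Mathlib
import Cfsg.Prelude.Def_SylowChains
import Cfsg.Agent.LocalStructure.SylowChain

/-!
# Families of normalizers induced by a functor on `p`-subgroups
-/

set_option autoImplicit false
set_option linter.all false

namespace Cfsg.Agent.LocalStructure

open Subgroup

variable {G : Type*} [Group G] [Finite G] {p : ℕ} [Fact p.Prime]

theorem sylow_coe_smul (g : G) (S : Sylow p G) :
    ((g • S : Sylow p G) : Subgroup G) = cmap g (S : Subgroup G) := by
  rw [Sylow.coe_subgroup_smul]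
  exact Coprime.conj_smul_eq_map g _

theorem mem_sylowMembers_of_le {𝓕 : Set (Subgroup G)} {X : Subgroup G} (hX : X ∈ 𝓕) (S : Sylow p G)
    (h : (S : Subgroup G) ≤ X) : X ∈ Cfsg.sylowMembers p 𝓕 (S : Subgroup G) :=
  ⟨hX, S.subtype h, by rw [Sylow.coe_subtype, subgroupOf_map_subtype]⟩

theorem le_of_mem_sylowMembers {𝓕 : Set (Subgroup G)} {X : Subgroup G} (S P : Sylow p G)
    (hP : (P : Subgroup G) ≤ X) (h : X ∈ Cfsg.sylowMembers p 𝓕 (S : Subgroup G)) : (S : Subgroup G) ≤ X := by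
  obtain ⟨-, Q, hQ⟩ := h
  refine inf_eq_left.mp (Subgroup.eq_of_le_of_card_ge inf_le_left ?_)
  rw [← hQ, card_map_of_injective X.subtype_injective, Q.card_eq_multiplicity,
    ← (P.subtype hP).card_eq_multiplicity, Sylow.coe_subtype,
    Nat.card_congr (subgroupOfEquivOfLe hP).toEquiv, P.card_eq_multiplicity, S.card_eq_multiplicity]

/-- The Sylow subgroups of a subgroup containing a Sylow subgroup of the group are Sylow in the group. -/
theorem exists_sylow_coe_eq {M : Subgroup G} (S₀ : Sylow p G) (h : (S₀ : Subgroup G) ≤ M) (P : Sylow p M) :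
    ∃ T : Sylow p G, (T : Subgroup G) = (P : Subgroup M).map M.subtype := by
  refine ⟨Sylow.ofCard ((P : Subgroup M).map M.subtype) ?_, rfl⟩
  rw [card_map_of_injective M.subtype_injective, P.card_eq_multiplicity, ← (S₀.subtype h).card_eq_multiplicity,
    Sylow.coe_subtype, Nat.card_congr (subgroupOfEquivOfLe h).toEquiv, S₀.card_eq_multiplicity]

theorem mem_functorFamily_top {f : Subgroup G → Set (Subgroup G)} {X : Subgroup G} :
    X ∈ Cfsg.functorFamily p f ⊤ ↔
      ∃ T : Sylow p G, ∃ F ∈ f (T : Subgroup G), X = normalizer (F : Set G) := by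
  constructor
  · rintro ⟨P, F, hF, rfl⟩
    obtain ⟨T₀⟩ : Nonempty (Sylow p G) := inferInstance
    obtain ⟨T, hT⟩ := exists_sylow_coe_eq T₀ le_top P
    exact ⟨T, F, hT.symm ▸ hF, top_inf_eq _⟩
  · rintro ⟨T, F, hF, rfl⟩
    refine ⟨T.subtype le_top, F, ?_, (top_inf_eq _).symm⟩
    rwa [Sylow.coe_subtype, subgroupOf_map_subtype, inf_top_eq]

variable {f : Subgroup G → Set (Subgroup G)}

theorem functor_mem (hf : Cfsg.IsNormalizerFunctor p f) {P F : Subgroup G} (hP : IsPGroup p P) (hF : F ∈ f P)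
    (g : G) : cmap g F ∈ f (cmap g P) := by
  show cmap g F ∈ f (P.map (MulAut.conj g).toMonoidHom)
  rw [(hf P hP).2 g]
  exact ⟨F, hF, rfl⟩

theorem functor_sylow_le (hf : Cfsg.IsNormalizerFunctor p f) (T : Sylow p G) {F : Subgroup G}
    (hF : F ∈ f (T : Subgroup G)) : (T : Subgroup G) ≤ normalizer (F : Set G) :=
  Subgroup.le_normalizer.trans ((hf _ T.isPGroup').1 F hF).2

theorem functorFamily_top_isNormalSet (hf : Cfsg.IsNormalizerFunctor p f) :
    Cfsg.IsNormalSet (Cfsg.functorFamily p f ⊤) := by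
  intro X hX g
  obtain ⟨T, F, hF, rfl⟩ := mem_functorFamily_top.mp hX
  refine mem_functorFamily_top.mpr ⟨g⁻¹ • T, cmap g⁻¹ F, ?_, ?_⟩
  · rw [sylow_coe_smul]
    exact functor_mem hf T.isPGroup' hF _
  · rw [subgroupConjRight_eq]
    exact (normalizer_cmap _ _).symm

theorem Step.conj {𝓕 : Set (Subgroup G)} (h𝓕 : Cfsg.IsNormalSet 𝓕) {D : Subgroup G} {S T : Sylow p G}
    (h : Step p 𝓕 D S T) (g : G) : Step p 𝓕 (cmap g D) (g • S) (g • T) := by
  obtain ⟨X, x, h1, h2, h3, h4, h5⟩ := h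
  refine ⟨cmap g X, g * x * g⁻¹, ?_, ?_, ⟨x, h3, rfl⟩, ?_, ?_⟩
  · rw [sylow_coe_smul]; exact sylowMembers_cmap h𝓕 h1 g
  · rw [sylow_coe_smul]; exact sylowMembers_cmap h𝓕 h2 g
  · rw [subgroupConjRight_eq, sylow_coe_smul, sylow_coe_smul, ← h4, subgroupConjRight_eq, ← cmap_mul,
      ← cmap_mul]
    congr 1
    group
  · rw [sylow_coe_smul, ← cmap_inf]
    exact cmap_mono h5

theorem reflTransGen_step_conj {𝓕 : Set (Subgroup G)} (h𝓕 : Cfsg.IsNormalSet 𝓕) {D : Subgroup G}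
    {S T : Sylow p G} (h : Relation.ReflTransGen (Step p 𝓕 D) S T) (g : G) :
    Relation.ReflTransGen (Step p 𝓕 (cmap g D)) (g • S) (g • T) :=
  Relation.ReflTransGen.lift (fun S : Sylow p G => g • S) (fun a b hab => hab.conj h𝓕 g) _ _ h

theorem reflTransGen_step_mono {𝓕 𝓕' : Set (Subgroup G)} {D D' : Subgroup G} {S T : Sylow p G}
    (h : Relation.ReflTransGen (Step p 𝓕 D) S T) (hF : 𝓕 ⊆ 𝓕') (hD : D' ≤ D) :
    Relation.ReflTransGen (Step p 𝓕' D') S T :=
  h.mono (fun a b hab => hab.mono hF hD) _ _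

/-- Regularity of a subgroup containing a Sylow subgroup gives chains in the whole group. -/
theorem chain_of_regular (hf : Cfsg.IsNormalizerFunctor p f) {M : Subgroup G}
    (hr : Cfsg.IsFunctorRegular p f M) (A B : Sylow p G) (hA : (A : Subgroup G) ≤ M) (hB : (B : Subgroup G) ≤ M)
    {D : Subgroup G} (hD : D ≠ ⊥) (hDA : D ≤ (A : Subgroup G)) (hDB : D ≤ (B : Subgroup G)) :
    Relation.ReflTransGen (Step p (Cfsg.functorFamily p f ⊤) D) A B := by
  by_cases hAB : A = B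
  · rw [hAB]
  choose L hL using fun P : Sylow p M => exists_sylow_coe_eq A hA P
  have hLA : ∀ (C : Sylow p G) (hC : (C : Subgroup G) ≤ M), L (C.subtype hC) = C := fun C hC => by
    refine Sylow.ext ?_
    rw [hL, Sylow.coe_subtype, subgroupOf_map_subtype, inf_eq_left.mpr hC]
  have hmeet : ((A.subtype hA : Sylow p M) : Subgroup M) ⊓ (B.subtype hB : Sylow p M) ≠ ⊥ := by
    intro e
    refine hD (eq_bot_iff.mpr fun d hd => ?_)
    have : (⟨d, hA (hDA hd)⟩ : M) ∈ (⊥ : Subgroup M) := e ▸ ⟨hDA hd, hDB hd⟩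
    simpa [Subgroup.mem_bot, Subtype.ext_iff] using this
  have hne : (A.subtype hA : Sylow p M) ≠ B.subtype hB := fun e => hAB (by rw [← hLA A hA, e, hLA B hB])
  have h := controls_iff.mp hr _ _ hne hmeet
  have h' := Relation.ReflTransGen.lift (r := Step p ((fun X : Subgroup G => X.subgroupOf M) '' Cfsg.functorFamily p f M)
      (((A.subtype hA : Sylow p M) : Subgroup M) ⊓ (B.subtype hB : Sylow p M)))
    (p := Step p (Cfsg.functorFamily p f ⊤) D) L ?_ _ _ h
  · have h'' : Relation.ReflTransGen (Step p (Cfsg.functorFamily p f ⊤) D) (L (A.subtype hA)) (L (B.subtype hB)) := h'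
    rwa [hLA, hLA] at h''
  rintro a b ⟨X', x, h1, h2, h3, h4, h5⟩
  obtain ⟨X, hX, rfl⟩ := h1.1
  obtain ⟨P, F, hF, rfl⟩ := hX
  rw [← hL P] at hF
  have hPX : (P : Subgroup M) ≤ (M ⊓ normalizer (F : Set G)).subgroupOf M := by
    intro m hm
    refine ⟨m.2, ?_⟩
    refine functor_sylow_le hf (L P) hF ?_
    rw [hL]
    exact ⟨m, hm, rfl⟩
  have ha : (L a : Subgroup G) ≤ normalizer (F : Set G) := by
    rw [hL]
    rintro _ ⟨m, hm, rfl⟩
    exact (le_of_mem_sylowMembers a P hPX h1 hm).2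
  have hb : (L b : Subgroup G) ≤ normalizer (F : Set G) := by
    rw [hL]
    rintro _ ⟨m, hm, rfl⟩
    exact (le_of_mem_sylowMembers b P hPX h2 hm).2
  have hmem : normalizer (F : Set G) ∈ Cfsg.functorFamily p f ⊤ := mem_functorFamily_top.mpr ⟨L P, F, hF, rfl⟩
  refine ⟨normalizer (F : Set G), (x : G), mem_sylowMembers_of_le hmem _ ha, mem_sylowMembers_of_le hmem _ hb,
    h3.2, ?_, ?_⟩
  · rw [hL, hL, ← h4]
    unfold Cfsg.subgroupConjRight
    rw [Subgroup.map_map, Subgroup.map_map]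
    rfl
  · intro d hd
    have hd2 : (⟨d, hA (hDA hd)⟩ : M) ∈ (b : Subgroup M) ⊓ (M ⊓ normalizer (F : Set G)).subgroupOf M :=
      h5 ⟨hDA hd, hDB hd⟩
    refine ⟨?_, hd2.2.2⟩
    show d ∈ (L b : Subgroup G)
    rw [hL]
    exact ⟨_, hd2.1, rfl⟩

theorem mem_sylowMembers_subgroupOf {𝓕 : Set (Subgroup G)} {M X S : Subgroup G} (hX : X ≤ M)
    (h : X ∈ Cfsg.sylowMembers p 𝓕 S) :
    X.subgroupOf M ∈ Cfsg.sylowMembers p ((fun X : Subgroup G => X.subgroupOf M) '' 𝓕) (S.subgroupOf M) := by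
  obtain ⟨hmem, P, hP⟩ := h
  refine ⟨⟨X, hmem, rfl⟩, ?_⟩
  let e := (subgroupOfEquivOfLe hX).symm
  refine ⟨P.mapSurjective (f := e.toMonoidHom) e.surjective, ?_⟩
  apply Subgroup.map_injective M.subtype_injective
  show (((P : Subgroup X).map e.toMonoidHom).map (X.subgroupOf M).subtype).map M.subtype = _
  rw [Subgroup.map_map, Subgroup.map_map, Subgroup.map_inf _ _ _ M.subtype_injective, subgroupOf_map_subtype,
    subgroupOf_map_subtype, inf_eq_left.mpr hX]
  calc (P : Subgroup X).map _ = (P : Subgroup X).map X.subtype := rfl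
    _ = S ⊓ X := hP
    _ = _ := by
      ext z
      simp only [Subgroup.mem_inf]
      exact ⟨fun h => ⟨⟨h.1, hX h.2⟩, h.2⟩, fun h => ⟨h.1.1, h.2⟩⟩

theorem isFunctorRegular_top_of_chains
    (h : ∀ S T : Sylow p G, S ≠ T → (S : Subgroup G) ⊓ (T : Subgroup G) ≠ ⊥ →
      Relation.ReflTransGen (Step p (Cfsg.functorFamily p f ⊤) ((S : Subgroup G) ⊓ (T : Subgroup G))) S T) :
    Cfsg.IsFunctorRegular p f (⊤ : Subgroup G) := by
  refine controls_iff.mpr ?_
  obtain ⟨T₀⟩ : Nonempty (Sylow p G) := inferInstance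
  intro S T hne hD
  obtain ⟨S', hS⟩ := exists_sylow_coe_eq T₀ le_top S
  obtain ⟨T', hT⟩ := exists_sylow_coe_eq T₀ le_top T
  have hsub : ∀ (C : Sylow p (⊤ : Subgroup G)) (C' : Sylow p G),
      (C' : Subgroup G) = (C : Subgroup (⊤ : Subgroup G)).map (⊤ : Subgroup G).subtype → C'.subtype le_top = C :=
    fun C C' e => Sylow.ext (by
      rw [Sylow.coe_subtype, e]
      exact comap_map_eq_self_of_injective (⊤ : Subgroup G).subtype_injective _)
  have hne' : S' ≠ T' := fun e => hne (by rw [← hsub S S' hS, e, hsub T T' hT])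
  have hD' : (S' : Subgroup G) ⊓ (T' : Subgroup G) ≠ ⊥ := by
    rw [hS, hT, ← Subgroup.map_inf _ _ _ (⊤ : Subgroup G).subtype_injective]
    exact fun e => hD ((map_eq_bot_iff_of_injective _ (⊤ : Subgroup G).subtype_injective).mp e)
  rw [← hsub S S' hS, ← hsub T T' hT]
  refine Relation.ReflTransGen.lift (fun C : Sylow p G => C.subtype le_top) ?_ _ _ (h S' T' hne' hD')
  rintro a b ⟨X, x, h1, h2, h3, h4, h5⟩
  refine ⟨X.subgroupOf ⊤, ⟨x, mem_top _⟩, ?_, ?_, h3, ?_, ?_⟩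
  · exact mem_sylowMembers_subgroupOf le_top h1
  · exact mem_sylowMembers_subgroupOf le_top h2
  · apply Subgroup.map_injective (⊤ : Subgroup G).subtype_injective
    unfold Cfsg.subgroupConjRight at h4 ⊢
    rw [Subgroup.map_map, Sylow.coe_subtype, Sylow.coe_subtype]
    calc _ = (((b : Subgroup G).subgroupOf ⊤).map (⊤ : Subgroup G).subtype).map (MulAut.conj x⁻¹).toMonoidHom := by
          rw [Subgroup.map_map]; rfl
      _ = _ := by rw [subgroupOf_map_subtype, subgroupOf_map_subtype, inf_top_eq, inf_top_eq, h4]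
  · intro d hd
    exact h5 hd

end Cfsg.Agent.LocalStructure
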