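import Mathlib
import Cfsg.Prelude.Def_IsolatedElements
import Cfsg.Agent.Fusion.Alperin

/-!
# Isolated elements of prime power order
-/

set_option autoImplicit false
set_option linter.all false

namespace Cfsg.Agent.LocalStructure

open Subgroup

variable {G : Type*} [Group G]

theorem isolated_conj {x : G} (h : Cfsg.IsIsolated x) (g : G) :
    Cfsg.IsIsolated (g * x * g⁻¹) := by
  intro t ht
  have key := h (g⁻¹ * t * g) (by
    have := ht.map (MulAut.conj g⁻¹).toMonoidHom
    simpa [mul_assoc] using this)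
  calc t * (g * x * g⁻¹) * t⁻¹ = g * (g⁻¹ * t * g * x * (g⁻¹ * t * g)⁻¹) * g⁻¹ := by group
    _ = g * x * g⁻¹ := by rw [key]

theorem isPGroup_zpowers {p : ℕ} [Fact p.Prime] {x : G} (hx : ∃ k : ℕ, orderOf x = p ^ k) :
    IsPGroup p (zpowers x) := by
  obtain ⟨k, hk⟩ := hx
  exact IsPGroup.of_card (by rw [Nat.card_zpowers, hk])

/-- Two `p`-elements of `M` lie, after conjugation inside `M`, in one `p`-subgroup of `M`. -/
theorem exists_mem_conj [Finite G] {p : ℕ} [Fact p.Prime] {M : Subgroup G} {x y : G} (hx : x ∈ M)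
    (hy : y ∈ M) (hxp : ∃ k : ℕ, orderOf x = p ^ k) (hyp : ∃ k : ℕ, orderOf y = p ^ k) :
    ∃ S : Subgroup G, S ≤ M ∧ IsPGroup p S ∧ x ∈ S ∧ ∃ m ∈ M, m * y * m⁻¹ ∈ S := by
  obtain ⟨S, hS⟩ := ((isPGroup_zpowers hxp).comap_of_injective M.subtype M.subtype_injective).exists_le_sylow
  obtain ⟨T, hT⟩ := ((isPGroup_zpowers hyp).comap_of_injective M.subtype M.subtype_injective).exists_le_sylow
  obtain ⟨m, hm⟩ := MulAction.exists_smul_eq M T S
  refine ⟨(S : Subgroup M).map M.subtype, map_subtype_le _, S.isPGroup'.map _,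
    ⟨⟨x, hx⟩, hS (mem_zpowers x), rfl⟩, m, m.2, ?_⟩
  refine ⟨m * ⟨y, hy⟩ * m⁻¹, ?_, by simp⟩
  rw [← hm]
  exact ⟨⟨y, hy⟩, hT (mem_zpowers y), by simp⟩

/-- An isolated element centralizes every `p`-subgroup containing it. -/
theorem le_centralizer_of_isolated [Finite G] {p : ℕ} [Fact p.Prime] {x : G}
    (hiso : Cfsg.IsIsolated x) {P : Subgroup G} (hP : IsPGroup p P) (hxP : x ∈ P) :
    P ≤ centralizer ({x} : Set G) := by
  set M : Subgroup G := P ⊓ centralizer ({x} : Set G) with hM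
  by_contra hne
  have hlt : M < P := lt_of_le_of_ne inf_le_left fun e => hne (e ▸ inf_le_right)
  obtain ⟨u, hu, huM⟩ := SetLike.exists_of_lt (Fusion.lt_inf_normalizer_of_isPGroup hP hlt)
  have hxM : x ∈ M := ⟨hxP, by simp [mem_centralizer_iff]⟩
  have h1 : u * x * u⁻¹ ∈ M := (mem_normalizer_iff.mp hu.2 x).mp hxM
  have h2 : Commute x (u * x * u⁻¹) := mem_centralizer_iff.mp h1.2 x rfl
  refine huM (mem_inf.mpr ⟨hu.1, ?_⟩)
  rw [mem_centralizer_iff]
  rintro _ rfl
  exact (mul_inv_eq_iff_eq_mul.mp (hiso u h2)).symm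

/-- In a `p`-subgroup an isolated element has no other conjugate. -/
theorem eq_of_mem_of_isolated [Finite G] {p : ℕ} [Fact p.Prime] {x : G}
    (hiso : Cfsg.IsIsolated x) {P : Subgroup G} (hP : IsPGroup p P) (hxP : x ∈ P) {g : G}
    (hg : g * x * g⁻¹ ∈ P) : g * x * g⁻¹ = x :=
  hiso g (mem_centralizer_iff.mp (le_centralizer_of_isolated hiso hP hxP hg) x rfl)

theorem mem_centralizer_of_conj_eq {g x : G} (h : g * x * g⁻¹ = x) :
    g ∈ centralizer ({x} : Set G) := by
  rw [mem_centralizer_iff]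
  rintro _ rfl
  exact (mul_inv_eq_iff_eq_mul.mp h).symm

theorem orderOf_conj_eq (g x : G) : orderOf (g * x * g⁻¹) = orderOf x :=
  (MulAut.conj g).orderOf_eq x

/-- The image of an isolated element of prime power order in a quotient is isolated. -/
theorem isolated_map [Finite G] {p : ℕ} [Fact p.Prime] {x : G} (hx : ∃ k : ℕ, orderOf x = p ^ k)
    (hiso : Cfsg.IsIsolated x) (N : Subgroup G) [N.Normal] :
    Cfsg.IsIsolated (QuotientGroup.mk x : G ⧸ N) := by
  intro gb hc
  obtain ⟨g, rfl⟩ := QuotientGroup.mk_surjective gb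
  set y := g * x * g⁻¹ with hy
  set f := QuotientGroup.mk' N with hf
  have hyx : (f g) * f x * (f g)⁻¹ = f y := by rw [hy, map_mul, map_mul, map_inv]
  change f g * f x * (f g)⁻¹ = f x
  have hc' : Commute (f x) (f y) := by rw [← hyx]; exact hc
  rw [hyx]
  set M : Subgroup G := N ⊔ zpowers x ⊔ zpowers y with hM
  obtain ⟨S, -, hSp, hxS, m, hm, hmS⟩ := exists_mem_conj (p := p) (M := M) (x := x) (y := y)
    (mem_sup_left (mem_sup_right (mem_zpowers x))) (mem_sup_right (mem_zpowers y)) hx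
    (by rw [hy, orderOf_conj_eq]; exact hx)
  have h1 : m * y * m⁻¹ = x := by
    have e : m * y * m⁻¹ = (m * g) * x * (m * g)⁻¹ := by rw [hy]; group
    rw [e] at hmS ⊢
    exact eq_of_mem_of_isolated hiso hSp hxS hmS
  have h2 : M.map f ≤ centralizer ({f y} : Set (G ⧸ N)) := by
    rw [hM, Subgroup.map_sup, Subgroup.map_sup, MonoidHom.map_zpowers, MonoidHom.map_zpowers]
    refine sup_le (sup_le ?_ ?_) ?_
    · rw [hf, show N.map (QuotientGroup.mk' N) = ⊥ by
        rw [Subgroup.map_eq_bot_iff, QuotientGroup.ker_mk']]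
      exact bot_le
    · rw [zpowers_le, mem_centralizer_iff]
      rintro _ rfl
      exact hc'.symm
    · rw [zpowers_le, mem_centralizer_iff]
      rintro _ rfl
      rfl
  have h3 := mem_centralizer_iff.mp (h2 ⟨m, hm, rfl⟩) (f y) rfl
  calc f y = f m * f y * (f m)⁻¹ := by rw [← h3]; group
    _ = f x := by rw [← map_inv, ← map_mul, ← map_mul, h1]

/-- In a `p`-group an isolated element is central. -/
theorem commute_of_isolated_of_isPGroup [Finite G] {p : ℕ} [Fact p.Prime] {x : G}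
    (hiso : Cfsg.IsIsolated x) (hG : IsPGroup p G) (g : G) : Commute x g :=
  mem_centralizer_iff.mp (le_centralizer_of_isolated hiso (hG.to_subgroup ⊤) (mem_top x) (mem_top g)) x rfl

end Cfsg.Agent.LocalStructure
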