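import Mathlib
import Cfsg.Agent.LocalStructure.YL
import Cfsg.Agent.Fusion.PGroup

/-!
# `C_L(Ω₁Z(T)) = C_L(Ω₁Z(T ∩ L))` for subnormal `L`
-/

set_option autoImplicit false
set_option linter.all false

namespace Cfsg.Agent.LocalStructure

open Subgroup
open scoped commutatorElement IsMulCommutative

variable {G : Type*} [Group G] [Finite G] {p : ℕ} [hp : Fact p.Prime]

theorem eq_one_of_pow_relIndex {S K : Subgroup G} (h : ¬ p ∣ S.relIndex K) {v : G}
    (hv : v ^ p = 1) (hvn : v ^ S.relIndex K = 1) : v = 1 := by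
  have := pow_gcd_eq_one.mpr ⟨hv, hvn⟩
  rwa [((hp.out.coprime_iff_not_dvd).mpr h).gcd_eq_one, pow_one] at this

theorem mem_of_pow_relIndex_mem {S K C : Subgroup G} (h : ¬ p ∣ S.relIndex K) {v : G}
    (hv : v ^ p = 1) (hvn : v ^ S.relIndex K ∈ C) : v ∈ C := by
  refine mem_of_pow_mem (n := S.relIndex K) (m := p) ?_ hvn ?_
  · exact ((hp.out.coprime_iff_not_dvd).mpr h).symm
  · rw [hv]; exact C.one_mem
where
  mem_of_pow_mem {C : Subgroup G} {v : G} {n m : ℕ} (hc : n.Coprime m) (h1 : v ^ n ∈ C)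
      (h2 : v ^ m ∈ C) : v ∈ C := by
    have h := Nat.gcd_eq_gcd_ab n m
    rw [hc.gcd_eq_one, Nat.cast_one] at h
    have h3 : v = (v ^ n) ^ (Nat.gcdA n m) * (v ^ m) ^ (Nat.gcdB n m) := by
      rw [← zpow_natCast v n, ← zpow_natCast v m, ← zpow_mul, ← zpow_mul, ← zpow_add, ← h, zpow_one]
    rw [h3]
    exact C.mul_mem (C.zpow_mem h1 _) (C.zpow_mem h2 _)

theorem omegaZ_step {A B SB : Subgroup G} (hAB : A ≤ B) (hBA : B ≤ normalizer (A : Set G))
    (hA : CharP p A) (hB : CharP p B) (hSB : SB ≤ B) (hSp : IsPGroup p SB)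
    (hidx : ¬ p ∣ SB.relIndex B) (hidxA : ¬ p ∣ SB.relIndex A) :
    A ⊓ centralizer (omegaZ p SB : Set G) = A ⊓ centralizer (omegaZ p (SB ⊓ A) : Set G) := by
  set S := SB ⊓ A with hS
  have hidS : ¬ p ∣ S.relIndex A := by rwa [hS, inf_relIndex_right]
  have hOA : Cfsg.pCoreOf p A ≤ S := pCoreOf_le_sylow inf_le_right (hSp.to_le inf_le_left) hidS
  have hOAeq : Cfsg.pCoreOf p A = A ⊓ Cfsg.pCoreOf p B :=
    pCoreOf_eq_inf hAB (Subgroup.Normal.isSubnormal (normal_subgroupOf_of_le_normalizer hBA))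
  have hZS : omegaZ p SB ≤ omegaZ p (Cfsg.pCoreOf p B) :=
    omegaZ_le_omegaZ_pCoreOf hB hSB (pCoreOf_le_sylow hSB hSp hidx)
  have hdvd : ∀ K : Subgroup G, S ≤ K → K ≤ A → ¬ p ∣ S.relIndex K := fun K h1 h2 h =>
    hidS (h.trans (relIndex_mul_relIndex S K A h1 h2 ▸ dvd_mul_right _ _))
  refine le_antisymm ?_ ?_
  · -- `C(Z)` centralizes `Z'`
    set Z' := omegaZ p S with hZ'
    set K := A ⊓ centralizer (omegaZ p SB : Set G) with hK
    set W' := omegaZ p (Cfsg.pCoreOf p A) with hW'
    haveI : IsMulCommutative W' := (omegaZ_ea _).1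
    have hKW : K ≤ normalizer (W' : Set G) :=
      inf_le_left.trans (le_normalizer_omegaZ (le_normalizer_pCoreOf A))
    have hSK : S ≤ K := le_inf inf_le_right
      (inf_le_left.trans (le_centralizer_iff.mp (omegaZ_le_centralizer SB)))
    have hn := hdvd K hSK inf_le_left
    have hZW : Z' ≤ W' := omegaZ_le_omegaZ_pCoreOf hA inf_le_right hOA
    have hSBW : SB ≤ normalizer (W' : Set G) := le_normalizer_omegaZ (by
      rw [hOAeq]; exact Coprime.le_normalizer_inf (hSB.trans hBA) (hSB.trans (le_normalizer_pCoreOf B)))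
    have hSBK : SB ≤ normalizer (K : Set G) := Coprime.le_normalizer_inf (hSB.trans hBA)
      (Coprime.le_normalizer_centralizer (le_normalizer_omegaZ Subgroup.le_normalizer))
    have hSBS : SB ≤ normalizer (S : Set G) :=
      Coprime.le_normalizer_inf Subgroup.le_normalizer (hSB.trans hBA)
    have hfix : ∀ v : Z', (Subgroup.inclusion hZW v : G) ∈ centralizer (S : Set G) :=
      fun v => omegaZ_le_centralizer S v.2
    -- the average maps `Z'` into itself
    have hmem : ∀ v : Z', ((avg W' K S hKW (Subgroup.inclusion hZW v) : W') : G) ∈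
        Z' ⊓ centralizer (K : Set G) := by
      intro v
      have h1 := avg_mem_centralizer hKW (hfix v)
      set w := avg W' K S hKW (Subgroup.inclusion hZW v) with hw
      exact ⟨mem_omegaZ_iff.mpr ⟨hOA (omegaZ_le _ w.2),
        centralizer_le (SetLike.coe_subset_coe.mpr hSK) h1, (omegaZ_ea _).2 _ w.2⟩, h1⟩
    let f : Z' →* Z' :=
      { toFun := fun v => ⟨_, (hmem v).1⟩
        map_one' := Subtype.ext (by simp)
        map_mul' := fun a b => Subtype.ext (by simp) }
    have hinj : Function.Injective f := by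
      rw [injective_iff_map_eq_one]
      by_contra hcon
      push_neg at hcon
      obtain ⟨v0, hv0, hv01⟩ := hcon
      set U : Subgroup G := f.ker.map Z'.subtype with hU
      have hUne : U ≠ ⊥ := fun e => hv01 (by
        have : (v0 : G) ∈ U := ⟨v0, hv0, rfl⟩
        rw [e, mem_bot] at this
        exact Subtype.ext this)
      have hUS : U ≤ SB := (map_subtype_le _).trans ((omegaZ_le S).trans inf_le_left)
      have hSBU : SB ≤ normalizer (U : Set G) := by
        intro t ht
        refine Layer.mem_normalizer_of_conj_mem fun x hx => ?_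
        obtain ⟨v, hv, rfl⟩ := hx
        have htv : t * (v : G) * t⁻¹ ∈ Z' :=
          (mem_normalizer_iff.mp (le_normalizer_omegaZ hSBS ht) _).mp v.2
        refine ⟨⟨_, htv⟩, ?_, rfl⟩
        have e : Subgroup.inclusion hZW ⟨_, htv⟩ = conjW ⟨t, hSBW ht⟩ (Subgroup.inclusion hZW v) := by
          apply Subtype.ext
          simp [conjW_apply]
        have h0 : avg W' K S hKW (Subgroup.inclusion hZW v) = 1 := by
          have := congrArg Subtype.val (MonoidHom.mem_ker.mp hv)
          exact Subtype.ext this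
        rw [SetLike.mem_coe, MonoidHom.mem_ker]
        apply Subtype.ext
        show ((avg W' K S hKW (Subgroup.inclusion hZW ⟨_, htv⟩) : W') : G) = 1
        rw [e, avg_conj hKW (hfix v) (hSBW ht) (hSBK ht) (hSBS ht), h0, map_one, OneMemClass.coe_one]
      haveI : (U.subgroupOf SB).Normal := normal_subgroupOf_of_le_normalizer hSBU
      have hne := Fusion.pGroup_inf_center_ne_bot hSp (U.subgroupOf SB) (by
        rw [Ne, subgroupOf_eq_bot]
        exact fun h => hUne (disjoint_self.mp (h.mono_right hUS)))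
      obtain ⟨z, hz, hz1⟩ := (bot_or_exists_ne_one _).resolve_left hne
      obtain ⟨v, hv, hvz⟩ := hz.1
      have hzZ : (z : G) ∈ omegaZ p SB := by
        refine mem_omegaZ_iff.mpr ⟨z.2, mem_centralizer_iff.mpr fun s hs =>
          congrArg Subtype.val (mem_center_iff.mp hz.2 ⟨s, hs⟩), ?_⟩
        rw [← show (v : G) = (z : G) from hvz]
        exact (omegaZ_ea S).2 _ v.2
      have hvK : ((Subgroup.inclusion hZW v : W') : G) ∈ centralizer (K : Set G) := by
        show (v : G) ∈ _
        rw [show (v : G) = (z : G) from hvz, mem_centralizer_iff]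
        intro k hk
        exact (mem_centralizer_iff.mp hk.2 _ hzZ).symm
      have h0 : avg W' K S hKW (Subgroup.inclusion hZW v) = 1 := by
        have := congrArg Subtype.val (MonoidHom.mem_ker.mp hv)
        exact Subtype.ext this
      rw [avg_of_fixed hKW hvK] at h0
      apply hz1
      apply Subtype.ext
      rw [← show (v : G) = (z : G) from hvz]
      refine eq_one_of_pow_relIndex hn ((omegaZ_ea S).2 _ v.2) ?_
      simpa [Subtype.ext_iff] using h0
    refine le_inf inf_le_left (le_centralizer_iff.mp fun v hv => ?_)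
    obtain ⟨u, hu⟩ := (Finite.injective_iff_surjective.mp hinj) ⟨v, hv⟩
    rw [show v = ((f u : Z') : G) by rw [hu]]
    exact (hmem u).2
  · -- `C(Z')` centralizes `Z`
    set K := A ⊓ centralizer (omegaZ p S : Set G) with hK
    set W := omegaZ p (Cfsg.pCoreOf p B) with hW
    haveI : IsMulCommutative W := (omegaZ_ea _).1
    have hKW : K ≤ normalizer (W : Set G) :=
      (inf_le_left.trans hAB).trans (le_normalizer_omegaZ (le_normalizer_pCoreOf B))
    have hSK : S ≤ K := le_inf inf_le_right (le_centralizer_iff.mp (omegaZ_le_centralizer S))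
    have hn := hdvd K hSK inf_le_left
    refine le_inf inf_le_left (le_centralizer_iff.mp fun v hv => ?_)
    have hfix : ((⟨v, hZS hv⟩ : W) : G) ∈ centralizer (S : Set G) :=
      centralizer_le (SetLike.coe_subset_coe.mpr (inf_le_left : S ≤ SB)) (omegaZ_le_centralizer SB hv)
    set w : W := ⟨v, hZS hv⟩ with hw
    have hm := avg_mem_centralizer hKW hfix
    have hvA : v ∈ normalizer (A : Set G) := hBA (hSB (omegaZ_le SB hv))
    have hd := avg_congr hKW (D := A ⊓ W) hfix (fun k => ⟨k, by simp, ⟨?_, W.mul_mem w.2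
      (W.inv_mem (mem_normalizer_iff.mp (hKW k.2) _ |>.mp w.2))⟩⟩)
    swap
    · show v * ((k : G) * v * (k : G)⁻¹)⁻¹ ∈ A
      rw [show v * ((k : G) * v * (k : G)⁻¹)⁻¹ = (v * (k : G) * v⁻¹) * (k : G)⁻¹ by group]
      exact A.mul_mem ((mem_normalizer_iff.mp hvA _).mp k.2.1) (A.inv_mem k.2.1)
    set m := avg W K S hKW w with hmdef
    set d : W := w ^ S.relIndex K / m with hddef
    have hdZ : (d : G) ∈ omegaZ p S := by
      refine mem_omegaZ_iff.mpr ⟨hOA ?_, ?_, (omegaZ_ea _).2 _ d.2⟩
      · rw [hOAeq]; exact ⟨hd.1, omegaZ_le _ d.2⟩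
      · rw [hddef, div_eq_mul_inv]
        simp only [Subgroup.coe_mul, Subgroup.coe_inv, SubmonoidClass.coe_pow]
        exact mul_mem (pow_mem hfix _) (inv_mem (centralizer_le (SetLike.coe_subset_coe.mpr hSK) hm))
    have hdK : (d : G) ∈ centralizer (K : Set G) :=
      mem_centralizer_iff.mpr fun k hk => (mem_centralizer_iff.mp hk.2 _ hdZ).symm
    have he : v ^ S.relIndex K = (d : G) * (m : G) := by
      rw [hddef, div_eq_mul_inv]
      simp [hw]
    refine mem_of_pow_relIndex_mem hn ((omegaZ_ea SB).2 _ hv) ?_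
    rw [he]
    exact mul_mem hdK hm

theorem centralizer_omegaZ_subnormal (hG : centralizer (Cfsg.pCore p G : Set G) ≤ Cfsg.pCore p G)
    (T : Sylow p G) {L : Subgroup G} (hL : L.IsSubnormal) :
    L ⊓ centralizer (omegaZ p (T : Subgroup G) : Set G) =
      L ⊓ centralizer (omegaZ p ((T : Subgroup G) ⊓ L) : Set G) := by
  induction hL with
  | top => rw [inf_top_eq]
  | step A B hle hB hN ih =>
    have hBA := (normal_subgroupOf_iff_le_normalizer hle).mp hN
    have hA : A.IsSubnormal := IsSubnormal.step A B hle hB hN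
    have hstep := omegaZ_step (SB := (T : Subgroup G) ⊓ B) hle hBA (charP_of_subnormal hA hG)
      (charP_of_subnormal hB hG) inf_le_right (T.isPGroup'.to_le inf_le_left)
      (by rw [inf_relIndex_right]; exact not_dvd_relIndex_subnormal T hB)
      (by
        rw [← inf_relIndex_right ((T : Subgroup G) ⊓ B) A, inf_assoc, inf_eq_right.mpr hle, inf_relIndex_right]
        exact not_dvd_relIndex_subnormal T hA)
    rw [show ((T : Subgroup G) ⊓ B) ⊓ A = (T : Subgroup G) ⊓ A by
      rw [inf_assoc, inf_eq_right.mpr hle]] at hstep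
    rw [← hstep]
    calc A ⊓ centralizer (omegaZ p (T : Subgroup G) : Set G)
        = A ⊓ (B ⊓ centralizer (omegaZ p (T : Subgroup G) : Set G)) := by
          rw [← inf_assoc, inf_eq_left.mpr hle]
      _ = A ⊓ (B ⊓ centralizer (omegaZ p ((T : Subgroup G) ⊓ B) : Set G)) := by rw [ih]
      _ = _ := by rw [← inf_assoc, inf_eq_left.mpr hle]

end Cfsg.Agent.LocalStructure
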