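import Mathlib
import Cfsg.Agent.LocalStructure.CharP

/-!
# A Sylow subgroup of the join of two subnormal subgroups
-/

set_option autoImplicit false
set_option linter.all false

namespace Cfsg.Agent.LocalStructure

open Subgroup
open scoped commutatorElement

universe u

variable {G : Type u} [Group G] [Finite G] {p : ℕ} [hp : Fact p.Prime]

/-- A `p`-subgroup of `Y` is contained in a subgroup of index prime to `p` of it below it. -/
theorem le_of_isPGroup_of_not_dvd {M P Y : Subgroup G} (hMP : M ≤ P) (hPY : P ≤ Y)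
    (hP : IsPGroup p P) (h : ¬ p ∣ M.relIndex Y) : P ≤ M := by
  have hd : M.relIndex P ∣ M.relIndex Y := relIndex_mul_relIndex M P Y hMP hPY ▸ dvd_mul_right _ _
  obtain ⟨n, hn⟩ := hP.exists_card_eq
  have h2 : M.relIndex P ∣ p ^ n := hn ▸ index_dvd_card _
  obtain ⟨j, -, hj⟩ := (Nat.dvd_prime_pow hp.out).mp h2
  rcases j with _ | j
  · exact relIndex_eq_one.mp (by simpa using hj)
  · exact absurd ((dvd_pow_self p (Nat.succ_ne_zero j)).trans (hj ▸ hd)) h

/-- The image of the part of a Sylow subgroup in a subnormal subgroup. -/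
theorem map_inf_map_sylow_le {Q : Type*} [Group Q] [Finite Q] {f : G →* Q}
    (T : Sylow p G) {X : Subgroup G} (hX : X.IsSubnormal) :
    X.map f ⊓ (T : Subgroup G).map f ≤ ((T : Subgroup G) ⊓ X).map f := by
  refine le_of_isPGroup_of_not_dvd (p := p) (le_inf (map_mono inf_le_right) (map_mono inf_le_left))
    inf_le_left ((T.2.map f).to_le inf_le_right) fun hd => ?_
  refine not_dvd_relIndex_subnormal T hX (hd.trans ?_)
  have e : (((T : Subgroup G) ⊓ X).map f).subgroupOf (X.map f) =
      ((T : Subgroup G).subgroupOf X).map (f.subgroupMap X) := by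
    ext ⟨y, hy⟩
    constructor
    · rintro ⟨z, ⟨hzT, hzX⟩, hz⟩
      exact ⟨⟨z, hzX⟩, hzT, Subtype.ext hz⟩
    · rintro ⟨⟨z, hzX⟩, hzT, hz⟩
      exact ⟨z, ⟨hzT, hzX⟩, congrArg Subtype.val hz⟩
  show ((((T : Subgroup G) ⊓ X).map f).subgroupOf (X.map f)).index ∣
    ((T : Subgroup G).subgroupOf X).index
  rw [e]
  exact index_map_dvd _ (f.subgroupMap_surjective X)

/-- A Sylow subgroup of a join of two normal subgroups. -/
theorem sylow_le_of_normal_sup (P : Sylow p G) {X Y : Subgroup G} [hX : X.Normal] (hY : Y.Normal)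
    (h : X ⊔ Y = ⊤) : (P : Subgroup G) ≤ ((P : Subgroup G) ⊓ X) ⊔ ((P : Subgroup G) ⊓ Y) := by
  intro t ht
  set π := QuotientGroup.mk' X
  have hYtop : Y.map π = ⊤ := by
    rw [eq_top_iff, ← map_top_of_surjective π (QuotientGroup.mk'_surjective X), ← h, Subgroup.map_sup,
      QuotientGroup.map_mk'_self, bot_sup_eq]
  have h1 := map_inf_map_sylow_le (f := π) P hY.isSubnormal
    ⟨hYtop ▸ mem_top (π t), mem_map_of_mem π ht⟩
  obtain ⟨y, hy, hyt⟩ := h1
  have hx : y⁻¹ * t ∈ X := QuotientGroup.eq.mp hyt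
  rw [show t = y * (y⁻¹ * t) by group]
  have hyP : y⁻¹ ∈ (P : Subgroup G) := (P : Subgroup G).inv_mem hy.1
  exact mul_mem (mem_sup_right hy) (mem_sup_left ⟨(P : Subgroup G).mul_mem hyP ht, hx⟩)

theorem subnormal_sylow_aux : ∀ (n : ℕ) (G : Type u) [Group G] [Finite G], Nat.card G ≤ n →
    ∀ (T : Sylow p G) (A B : Subgroup G), A.IsSubnormal → B.IsSubnormal → A ⊔ B = ⊤ →
      (T : Subgroup G) ≤ ((T : Subgroup G) ⊓ A) ⊔ ((T : Subgroup G) ⊓ B) := by
  intro n
  induction n with
  | zero => intro G _ _ hn; exact absurd hn (by have := Nat.card_pos (α := G); omega)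
  | succ n ih =>
  intro G _ _ hn T A B hA hB hAB
  set U : Subgroup G := ((T : Subgroup G) ⊓ A) ⊔ ((T : Subgroup G) ⊓ B) with hU
  have hUT : U ≤ (T : Subgroup G) := sup_le inf_le_left inf_le_left
  by_contra hcon
  -- a quotient by a nontrivial normal subgroup
  have quot : ∀ N : Subgroup G, N.Normal → N ≠ ⊥ → (T : Subgroup G) ≤ U ⊔ N := by
    intro N hN hN1
    set π := QuotientGroup.mk' N
    have hπ : Function.Surjective π := QuotientGroup.mk'_surjective N
    have hlt : Nat.card (G ⧸ N) ≤ n := by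
      have h1 := N.card_mul_index
      have h2 : 2 ≤ Nat.card N := one_lt_card_iff_ne_bot N |>.mpr hN1
      have h3 : Nat.card (G ⧸ N) = N.index := (N.index_eq_card).symm
      have h4 := Nat.mul_le_mul_right N.index h2
      omega
    have h := ih (G ⧸ N) hlt (T.mapSurjective hπ) (A.map π) (B.map π) (hA.map hπ) (hB.map hπ)
      (by rw [← Subgroup.map_sup, hAB, map_top_of_surjective π hπ])
    intro t ht
    have h' : π t ∈ U.map π := by
      refine SetLike.le_def.mp (sup_le ?_ ?_) (h (mem_map_of_mem π ht))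
      · rw [inf_comm]
        exact (map_inf_map_sylow_le T hA).trans (map_mono le_sup_left)
      · rw [inf_comm]
        exact (map_inf_map_sylow_le T hB).trans (map_mono le_sup_right)
    rw [← mem_comap, comap_map_eq, QuotientGroup.ker_mk'] at h'
    exact h'
  have notle : ∀ N : Subgroup G, N.Normal → N ≠ ⊥ → ¬ (T : Subgroup G) ⊓ N ≤ U := by
    intro N hN hN1 hle
    refine hcon fun t ht => ?_
    obtain ⟨u, hu, z, hz, rfl⟩ := mem_sup_of_normal_right.mp (quot N hN hN1 ht)
    refine mul_mem hu (hle ⟨?_, hz⟩)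
    have := (T : Subgroup G).mul_mem ((T : Subgroup G).inv_mem (hUT hu)) ht
    rwa [inv_mul_cancel_left] at this
  -- elements of order `p` in the centre
  have central : ∀ x ∈ center G, x ^ p = 1 → x ∈ U → x = 1 := by
    intro x hx hxp hxU
    by_contra hx1
    have : (zpowers x).Normal := ⟨fun y hy g => by
      obtain ⟨k, rfl⟩ := hy
      rw [(mem_center_iff.mp (zpow_mem hx k) g), mul_inv_cancel_right]
      exact zpow_mem (mem_zpowers x) k⟩
    exact notle _ this (fun e => hx1 (mem_bot.mp (e ▸ mem_zpowers x)))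
      (inf_le_right.trans (zpowers_le.mpr hxU))
  -- every minimal normal subgroup is central of order `p`
  have minimal : ∀ N : Subgroup G, N.Normal → N ≠ ⊥ →
      (∀ K : Subgroup G, K.Normal → K ≤ N → K = ⊥ ∨ K = N) →
      N ⊓ A = ⊥ ∧ N ≤ center G ∧ N ≤ (T : Subgroup G) ∧ Nat.card N = p := by
    intro N hN hN1 hmin
    have hnA := Layer.minimal_normal_le_normalizer hmin hA
    have hnB := Layer.minimal_normal_le_normalizer hmin hB
    have hmem : ∀ (C : Subgroup G), N ≤ normalizer (C : Set G) → ∀ a ∈ C, ∀ z ∈ N,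
        ⁅a, z⁆ ∈ N ⊓ C := by
      intro C hC a ha z hz
      refine mem_inf.mpr ⟨?_, ?_⟩
      · exact mul_mem (hN.conj_mem z hz a) (inv_mem hz)
      · rw [commutatorElement_def, show a * z * a⁻¹ * z⁻¹ = a * (z * a⁻¹ * z⁻¹) by group]
        exact mul_mem ha ((mem_normalizer_iff.mp (hC hz) _).mp (inv_mem ha))
    set M := (N ⊓ A) ⊔ (N ⊓ B) with hM
    have hMN : M ≤ N := sup_le inf_le_left inf_le_left
    have hMn : M.Normal := by
      rw [← normalizer_eq_top_iff, eq_top_iff, ← hAB]
      have key : ∀ C : Subgroup G, N ≤ normalizer (C : Set G) → N ⊓ C ≤ M →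
          C ≤ normalizer (M : Set G) := by
        intro C hC hCM a ha
        rw [mem_normalizer_iff]
        have k : ∀ b ∈ C, ∀ m ∈ M, b * m * b⁻¹ ∈ M := fun b hb m hm => by
          rw [show b * m * b⁻¹ = ⁅b, m⁆ * m by rw [commutatorElement_def]; group]
          exact mul_mem (hCM (hmem C hC b hb m (hMN hm))) hm
        refine fun m => ⟨k a ha m, fun hm => ?_⟩
        have := k a⁻¹ (inv_mem ha) _ hm
        simpa [mul_assoc] using this
      exact sup_le (key A hnA le_sup_left) (key B hnB le_sup_right)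
    rcases hmin M hMn hMN with hM0 | hM1
    · have hA0 : N ⊓ A = ⊥ := le_bot_iff.mp (hM0 ▸ le_sup_left)
      have hB0 : N ⊓ B = ⊥ := le_bot_iff.mp (hM0 ▸ le_sup_right)
      have hc : N ≤ center G := by
        rw [← centralizer_univ, ← coe_top, ← hAB, le_centralizer_iff]
        refine sup_le ?_ ?_ <;> intro a ha <;> refine mem_centralizer_iff.mpr fun z hz => ?_
        · have := hmem A hnA a ha z hz
          rw [hA0, mem_bot, commutatorElement_eq_one_iff_mul_comm] at this
          exact this.symm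
        · have := hmem B hnB a ha z hz
          rw [hB0, mem_bot, commutatorElement_eq_one_iff_mul_comm] at this
          exact this.symm
      have hsub : ∀ y ∈ N, y ≠ 1 → zpowers y = N := fun y hy hy1 => by
        refine (hmin _ ⟨fun w hw g => ?_⟩ (zpowers_le.mpr hy)).resolve_left
          fun e => hy1 (mem_bot.mp (e ▸ mem_zpowers y))
        rw [mem_center_iff.mp (hc (zpowers_le.mpr hy hw)) g, mul_inv_cancel_right]
        exact hw
      obtain ⟨q, hq, hqd⟩ := Nat.exists_prime_and_dvd (n := Nat.card N)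
        (fun e => hN1 (card_eq_one.mp e))
      haveI := Fact.mk hq
      obtain ⟨y, hy⟩ := exists_prime_orderOf_dvd_card' (G := N) q hqd
      have hyN : Nat.card N = q := by
        rw [← hsub y y.2 (fun e => hq.ne_one (by
          rw [← hy, show y = 1 from Subtype.ext e, orderOf_one])), Nat.card_zpowers, Subgroup.orderOf_coe, hy]
      by_cases hqp : q = p
      · subst hqp
        refine ⟨hA0, hc, ?_, hyN⟩
        obtain ⟨S, hS⟩ := (IsPGroup.of_card (n := 1) (by rw [hyN, pow_one]) : IsPGroup q N).exists_le_sylow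
        obtain ⟨g, rfl⟩ := MulAction.exists_smul_eq G S T
        intro z hz
        rw [Sylow.smul_def, Sylow.pointwise_smul_def, Subgroup.mem_pointwise_smul_iff_inv_smul_mem,
          ← map_inv, MulAut.smul_def, MulAut.conj_apply, inv_inv, mem_center_iff.mp (hc hz) g⁻¹,
          inv_mul_cancel_right]
        exact hS hz
      · exfalso
        refine notle N hN hN1 ?_
        rw [disjoint_iff.mp (IsPGroup.disjoint_of_ne p q (Ne.symm hqp) _ _ T.2
          (IsPGroup.of_card (n := 1) (by rw [hyN, pow_one])))]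
        exact bot_le
    · exfalso
      refine notle N hN hN1 ?_
      have hXn : ∀ C : Subgroup G, N ≤ normalizer (C : Set G) → ((N ⊓ C).subgroupOf N).Normal :=
        fun C hC => by
          rw [normal_subgroupOf_iff_le_normalizer inf_le_left]
          exact Layer.le_normalizer_inf le_normalizer hC
      have hS : IsPGroup p ((T : Subgroup G).subgroupOf N) := T.2.comap_subtype
      haveI := hXn A hnA
      have h := sylow_le_of_normal_sup
        (hS.toSylow (not_dvd_relIndex_subnormal T hN.isSubnormal)) (hXn B hnB)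
        (X := (N ⊓ A).subgroupOf N)
        (by rw [← subgroupOf_sup inf_le_left inf_le_left, ← hM, hM1]; exact eq_top_iff.mpr fun x _ => x.2)
      rintro t ⟨htT, htN⟩
      have h' := mem_map_of_mem N.subtype (h (x := ⟨t, htN⟩) htT)
      rw [Subgroup.map_sup] at h'
      refine SetLike.le_def.mp (sup_le ?_ ?_) h'
      · rintro _ ⟨z, ⟨hz1, hz2⟩, rfl⟩; exact mem_sup_left ⟨hz1, hz2.2⟩
      · rintro _ ⟨z, ⟨hz1, hz2⟩, rfl⟩; exact mem_sup_right ⟨hz1, hz2.2⟩
  haveI : Nontrivial G := by
    by_contra h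
    rw [not_nontrivial_iff_subsingleton] at h
    exact hcon fun t _ => by rw [Subsingleton.elim t 1]; exact one_mem _
  obtain ⟨N, hN, hN1, hmin⟩ := Layer.exists_minimal_normal (G := G)
  obtain ⟨hNA, hNc, hNT, hNp⟩ := minimal N hN hN1 hmin
  have hpow : ∀ x ∈ N, x ^ p = 1 := fun x hx => by
    rw [← hNp]; exact congrArg Subtype.val (pow_card_eq_one' (x := (⟨x, hx⟩ : N)))
  -- the map of `T` onto `T / U`
  set U' := U.subgroupOf (T : Subgroup G) with hU'
  have hdec : ∀ t : (T : Subgroup G), ∃ u ∈ U, ∃ z ∈ N, (t : G) = u * z := fun t => by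
    obtain ⟨u, hu, z, hz, e⟩ := mem_sup_of_normal_right.mp (quot N hN hN1 t.2)
    exact ⟨u, hu, z, hz, e.symm⟩
  haveI hU'n : U'.Normal := ⟨fun w hw t => by
    obtain ⟨u, hu, z, hz, e⟩ := hdec t
    rw [mem_subgroupOf] at hw ⊢
    push_cast
    rw [e, mul_assoc u z, ← mem_center_iff.mp (hNc hz) (w : G),
      show u * ((w : G) * z) * (u * z)⁻¹ = u * w * u⁻¹ by group]
    exact mul_mem (mul_mem hu hw) (inv_mem hu)⟩
  let π := QuotientGroup.mk' U'
  have hsurj : Function.Surjective fun z : N => π ⟨z, hNT z.2⟩ := by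
    intro y
    obtain ⟨t, rfl⟩ := QuotientGroup.mk'_surjective U' y
    obtain ⟨u, hu, z, hz, e⟩ := hdec t
    refine ⟨⟨z, hz⟩, QuotientGroup.eq.mpr (mem_subgroupOf.mpr ?_)⟩
    push_cast
    rw [e, mem_center_iff.mp (hNc hz) u, inv_mul_cancel_left]
    exact hu
  letI : CommGroup ((T : Subgroup G) ⧸ U') :=
    { (inferInstance : Group ((T : Subgroup G) ⧸ U')) with
      mul_comm := fun a b => by
        obtain ⟨x, rfl⟩ := hsurj a
        obtain ⟨y, rfl⟩ := hsurj b
        show π _ * π _ = π _ * π _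
        rw [← map_mul, ← map_mul]
        exact congrArg π (Subtype.ext (mem_center_iff.mp (hNc y.2) (x : G))) }
  let τ : G →* (T : Subgroup G) ⧸ U' := MonoidHom.transfer π
  have hτ : ∀ x ∈ center G, x ∈ T → x ^ p = 1 → τ x = 1 → x = 1 := by
    intro x hx hxT hxp h
    have hkey : ∀ (k : ℕ) (g₀ : G), g₀⁻¹ * x ^ k * g₀ ∈ (T : Subgroup G) →
        g₀⁻¹ * x ^ k * g₀ = x ^ k := fun k g₀ _ => by
      rw [mem_center_iff.mp (pow_mem hx k) g₀⁻¹, inv_mul_cancel_right]
    change MonoidHom.transfer π x = 1 at h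
    rw [MonoidHom.transfer_eq_pow π x hkey] at h
    have hU2 : x ^ (T : Subgroup G).index ∈ U :=
      mem_subgroupOf.mp ((QuotientGroup.eq_one_iff _).mp h)
    have hcop : (orderOf x).Coprime (T : Subgroup G).index :=
      Nat.Coprime.coprime_dvd_left (orderOf_dvd_of_pow_eq_one hxp)
        (hp.out.coprime_iff_not_dvd.mpr T.not_dvd_index)
    obtain ⟨m, hm⟩ := exists_pow_eq_self_of_coprime hcop.symm
    exact central x hx hxp (hm ▸ pow_mem hU2 m)
  have hker : τ.ker = ⊥ := by
    by_contra hk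
    obtain ⟨N', ⟨hN', hN'1, hN'k⟩, hmin'⟩ :=
      Set.Finite.exists_minimal (Set.toFinite {L : Subgroup G | L.Normal ∧ L ≠ ⊥ ∧ L ≤ τ.ker})
        ⟨τ.ker, inferInstance, hk, le_rfl⟩
    obtain ⟨-, hc', hT', hp'⟩ := minimal N' hN' hN'1 fun K hK hKN => by
      by_cases hK1 : K = ⊥
      · exact Or.inl hK1
      · exact Or.inr (le_antisymm hKN (hmin' ⟨hK, hK1, hKN.trans hN'k⟩ hKN))
    refine hN'1 (eq_bot_iff.mpr fun x hx => mem_bot.mpr (hτ x (hc' hx) (hT' hx) ?_ (hN'k hx)))
    rw [← hp']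
    exact congrArg Subtype.val (pow_card_eq_one' (x := (⟨x, hx⟩ : N')))
  have hcard : Nat.card G ≤ p :=
    ((Nat.card_le_card_of_injective τ (τ.ker_eq_bot_iff.mp hker)).trans
      (Nat.card_le_card_of_surjective _ hsurj)).trans hNp.le
  have hNtop : N = ⊤ := eq_top_of_le_card _ (hNp ▸ hcard)
  subst hNtop
  rw [top_inf_eq] at hNA
  subst hNA
  rw [bot_sup_eq] at hAB
  exact hcon (fun t ht => mem_sup_right ⟨ht, hAB ▸ mem_top t⟩)

/-- A Sylow subgroup meets the join of two subnormal subgroups in the join of the intersections. -/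
theorem sylow_inf_sup_subnormal (T : Sylow p G) {A B : Subgroup G} (hA : A.IsSubnormal)
    (hB : B.IsSubnormal) :
    (T : Subgroup G) ⊓ (A ⊔ B) = ((T : Subgroup G) ⊓ A) ⊔ ((T : Subgroup G) ⊓ B) := by
  refine le_antisymm ?_ (sup_le (inf_le_inf_left _ le_sup_left) (inf_le_inf_left _ le_sup_right))
  set D := A ⊔ B with hD
  have hS : IsPGroup p ((T : Subgroup G).subgroupOf D) := T.2.comap_subtype
  have h := subnormal_sylow_aux (p := p) _ D le_rfl
    (hS.toSylow (not_dvd_relIndex_subnormal T (Layer.isSubnormal_sup hA hB)))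
    (A.subgroupOf D) (B.subgroupOf D) hA.subgroupOf hB.subgroupOf
    (by rw [← subgroupOf_sup le_sup_left le_sup_right]; exact eq_top_iff.mpr fun x _ => x.2)
  rintro t ⟨htT, htD⟩
  have h' := mem_map_of_mem D.subtype (h (x := ⟨t, htD⟩) htT)
  rw [Subgroup.map_sup] at h'
  refine SetLike.le_def.mp (sup_le ?_ ?_) h'
  · rintro _ ⟨z, ⟨hz1, hz2⟩, rfl⟩; exact mem_sup_left ⟨hz1, hz2⟩
  · rintro _ ⟨z, ⟨hz1, hz2⟩, rfl⟩; exact mem_sup_right ⟨hz1, hz2⟩

end Cfsg.Agent.LocalStructure
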