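import Mathlib
import Cfsg.Agent.LocalStructure.SubnormalSylow
import Cfsg.Agent.LocalStructure.OmegaSubnormal
import Cfsg.Agent.LocalStructure.YL2

/-!
# Point stabilizers of joins of subnormal subgroups in local characteristic `p`
-/

set_option autoImplicit false
set_option linter.all false

namespace Cfsg.Agent.LocalStructure

open Subgroup

variable {G : Type*} [Group G] [Finite G] {p : ℕ} [hp : Fact p.Prime]

theorem omegaZ_ne_bot_of_ne_bot {S : Subgroup G} (hS : IsPGroup p S) (hne : S ≠ ⊥) :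
    omegaZ p S ≠ ⊥ := by
  haveI : Nontrivial S := S.nontrivial_iff_ne_bot.mpr hne
  haveI := hS.center_nontrivial
  obtain ⟨n, hn, hn'⟩ := (hS.to_subgroup (center S)).nontrivial_iff_card.mp inferInstance
  obtain ⟨z, hz⟩ := exists_prime_orderOf_dvd_card' (G := center S) p (hn' ▸ dvd_pow_self p hn.ne')
  intro e
  have hmem : ((z : S) : G) ∈ omegaZ p S := mem_omegaZ_iff.mpr ⟨(z : S).2,
    mem_centralizer_iff.mpr fun y hy => congrArg Subtype.val (mem_center_iff.mp z.2 ⟨y, hy⟩),
    by rw [← hz]; exact_mod_cast congrArg Subtype.val (congrArg Subtype.val (pow_orderOf_eq_one z))⟩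
  rw [e, mem_bot] at hmem
  have h1 : z = 1 := Subtype.ext (Subtype.ext hmem)
  rw [h1, orderOf_one] at hz
  exact hp.out.one_lt.ne hz

theorem mem_centralizer_omegaZ_iff_local (T : Sylow p G) {X Y : Subgroup G} (hX : X.IsSubnormal)
    (hY : Y.IsSubnormal) (hXY : X ≤ Y) (hYX : Y ≤ normalizer (X : Set G))
    {M : Subgroup G} (hTM : (T : Subgroup G) ⊓ Y ≤ M)
    (hM : centralizer (Cfsg.pCore p M : Set M) ≤ Cfsg.pCore p M) {x : G} (hxX : x ∈ X) (hxM : x ∈ M) :
    x ∈ centralizer (omegaZ p ((T : Subgroup G) ⊓ Y) : Set G) ↔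
      x ∈ centralizer (omegaZ p ((T : Subgroup G) ⊓ X) : Set G) := by
  have e : ∀ S : Subgroup G, S ≤ M → ∀ y : M,
      y ∈ centralizer (omegaZ p (S.subgroupOf M) : Set M) ↔ (y : G) ∈ centralizer (omegaZ p S : Set G) := by
    intro S hS y
    rw [show omegaZ p (S.subgroupOf M) = (omegaZ p S).subgroupOf M from
      Subgroup.ext fun z => (omegaZ_subgroupOf hS).trans mem_subgroupOf.symm]
    exact mem_centralizer_subgroupOf ((omegaZ_le S).trans hS)
  have hidx : ∀ K : Subgroup G, K.IsSubnormal → K ≤ Y →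
      ¬ p ∣ (((T : Subgroup G) ⊓ Y).subgroupOf M).relIndex (K.subgroupOf M) := by
    intro K hK hKY hd
    refine not_dvd_relIndex_subnormal T hK ?_
    rw [subgroupOf, relIndex_comap, subgroupOf_map_subtype] at hd
    rw [← inf_relIndex_right ((T : Subgroup G) ⊓ Y) (K ⊓ M)] at hd
    rw [← inf_relIndex_right (T : Subgroup G) K]
    have e' : ((T : Subgroup G) ⊓ Y) ⊓ (K ⊓ M) = (T : Subgroup G) ⊓ K :=
      le_antisymm (le_inf (inf_le_left.trans inf_le_left) (inf_le_right.trans inf_le_left))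
        (le_inf (inf_le_inf_left _ hKY) (le_inf inf_le_right ((inf_le_inf_left _ hKY).trans hTM)))
    rw [e'] at hd
    exact hd.trans (relIndex_mul_relIndex ((T : Subgroup G) ⊓ K) (K ⊓ M) K
      (le_inf inf_le_right ((inf_le_inf_left _ hKY).trans hTM)) inf_le_left ▸ dvd_mul_right _ _)
  have h := omegaZ_step (p := p) (A := X.subgroupOf M) (B := Y.subgroupOf M)
    (SB := ((T : Subgroup G) ⊓ Y).subgroupOf M) (comap_mono hXY)
    (fun y hy => by
      rw [mem_normalizer_iff]
      exact fun z => mem_normalizer_iff.mp (hYX hy) z)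
    (charP_of_subnormal hX.subgroupOf hM) (charP_of_subnormal hY.subgroupOf hM)
    (comap_mono inf_le_right) ((T.2.to_le inf_le_left).comap_subtype) (hidx Y hY le_rfl)
    (hidx X hX hXY)
  have h' := SetLike.ext_iff.mp h ⟨x, hxM⟩
  rw [mem_inf, mem_inf, show ((T : Subgroup G) ⊓ Y).subgroupOf M ⊓ X.subgroupOf M =
    ((T : Subgroup G) ⊓ X).subgroupOf M by
      ext z
      simp only [mem_inf, mem_subgroupOf]
      exact ⟨fun h => ⟨h.1.1, h.2⟩, fun h => ⟨⟨h.1, hXY h.2⟩, h.2⟩⟩,
    e _ hTM, e _ ((inf_le_inf_left _ hXY).trans hTM)] at h'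
  exact ⟨fun hx => (h'.mp ⟨hxX, hx⟩).2, fun hx => (h'.mpr ⟨hxX, hx⟩).2⟩

/-- Kieler's lemma in local characteristic `p`. -/
theorem centralizer_omegaZ_local (hH : Cfsg.IsOfLocalCharacteristic p G) (T : Sylow p G)
    {X : Subgroup G} (hX : X.IsSubnormal) :
    (T : Subgroup G) ⊓ X ≠ ⊥ → X ⊓ centralizer (omegaZ p (T : Subgroup G) : Set G) =
      X ⊓ centralizer (omegaZ p ((T : Subgroup G) ⊓ X) : Set G) := by
  induction hX with
  | top => intro _; rw [inf_top_eq]
  | step A B hle hB hN ih =>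
    intro hne
    have hBA := (normal_subgroupOf_iff_le_normalizer hle).mp hN
    have hA : A.IsSubnormal := IsSubnormal.step A B hle hB hN
    have hneB : (T : Subgroup G) ⊓ B ≠ ⊥ := fun e =>
      hne (le_bot_iff.mp ((inf_le_inf_left _ hle).trans e.le))
    have hloc : ∀ {S : Subgroup G}, IsPGroup p S → S ≠ ⊥ →
        centralizer (Cfsg.pCore p ↥(normalizer (omegaZ p S : Set G)) : Set ↥(normalizer (omegaZ p S : Set G))) ≤
          Cfsg.pCore p ↥(normalizer (omegaZ p S : Set G)) := fun hS hS1 =>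
      hH.2 _ (hS.to_le (omegaZ_le _)) (omegaZ_ne_bot_of_ne_bot hS hS1)
    have hn : (T : Subgroup G) ⊓ B ≤ normalizer (((T : Subgroup G) ⊓ A : Subgroup G) : Set G) := by
      have h : (T : Subgroup G) ⊓ B ≤
          normalizer ((((T : Subgroup G) ⊓ B) ⊓ A : Subgroup G) : Set G) :=
        Coprime.le_normalizer_inf Subgroup.le_normalizer (inf_le_right.trans hBA)
      rwa [inf_assoc, inf_eq_right.mpr hle] at h
    calc A ⊓ centralizer (omegaZ p (T : Subgroup G) : Set G)
        = A ⊓ (B ⊓ centralizer (omegaZ p (T : Subgroup G) : Set G)) := by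
          rw [← inf_assoc, inf_eq_left.mpr hle]
      _ = A ⊓ centralizer (omegaZ p ((T : Subgroup G) ⊓ B) : Set G) := by
          rw [ih hneB, ← inf_assoc, inf_eq_left.mpr hle]
      _ = _ := by
        refine le_antisymm ?_ ?_
        · rintro x ⟨hxA, hx⟩
          exact ⟨hxA, (mem_centralizer_omegaZ_iff_local T hA hB hle hBA
            (le_normalizer_omegaZ Subgroup.le_normalizer) (hloc (T.2.to_le inf_le_left) hneB) hxA
            (centralizer_le_normalizer _ hx)).mp hx⟩
        · rintro x ⟨hxA, hx⟩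
          exact ⟨hxA, (mem_centralizer_omegaZ_iff_local T hA hB hle hBA
            (le_normalizer_omegaZ hn) (hloc (T.2.to_le inf_le_left) hne) hxA
            (centralizer_le_normalizer _ hx)).mpr hx⟩

/-- The `p`-elements of `X` centralizing `Ω₁Z(T ⊓ X)` are those centralizing `Ω₁Z(T)`. -/
theorem pointStabilizer_eq (hH : Cfsg.IsOfLocalCharacteristic p G) (T : Sylow p G)
    {X : Subgroup G} (hX : X.IsSubnormal) :
    Cfsg.pointStabilizer p X ((T : Subgroup G) ⊓ X) =
      closure {x : G | x ∈ X ⊓ centralizer (omegaZ p (T : Subgroup G) : Set G) ∧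
        ∃ k : ℕ, orderOf x = p ^ k} := by
  show closure {x : G | x ∈ X ⊓ centralizer (omegaZ p ((T : Subgroup G) ⊓ X) : Set G) ∧
    ∃ k : ℕ, orderOf x = p ^ k} = _
  by_cases hne : (T : Subgroup G) ⊓ X = ⊥
  · have h1 : ∀ x ∈ X, (∃ k, orderOf x = p ^ k) → x = 1 := by
      rintro x hx ⟨k, hk⟩
      have hidx := not_dvd_relIndex_subnormal T hX
      rw [← inf_relIndex_right, hne, relIndex_bot_left] at hidx
      rcases k with _ | k
      · rwa [pow_zero, orderOf_eq_one_iff] at hk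
      · exact absurd ((dvd_pow_self p (Nat.succ_ne_zero k)).trans (hk ▸ X.orderOf_dvd_natCard hx)) hidx
    refine le_antisymm ((closure_le _).mpr fun x hx => ?_) ((closure_le _).mpr fun x hx => ?_) <;>
    · obtain ⟨⟨hxX, -⟩, hk⟩ := hx
      rw [SetLike.mem_coe, h1 x hxX hk]
      exact one_mem _
  · rw [centralizer_omegaZ_local hH T hX hne]

theorem pointStabilizer_sup (hH : Cfsg.IsOfLocalCharacteristic p G) (T : Sylow p G)
    {L₁ L₂ : Subgroup G} (h₁ : L₁.IsSubnormal) (h₂ : L₂.IsSubnormal) :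
    Cfsg.pointStabilizer p (L₁ ⊔ L₂) ((T : Subgroup G) ⊓ (L₁ ⊔ L₂)) =
      Cfsg.pointStabilizer p L₁ ((T : Subgroup G) ⊓ L₁) ⊔
        Cfsg.pointStabilizer p L₂ ((T : Subgroup G) ⊓ L₂) := by
  have h12 := Layer.isSubnormal_sup h₁ h₂
  rw [pointStabilizer_eq hH T h12, pointStabilizer_eq hH T h₁, pointStabilizer_eq hH T h₂]
  set C := centralizer (omegaZ p (T : Subgroup G) : Set G) with hC
  set P : Subgroup G → Subgroup G := fun X =>
    closure {x : G | x ∈ X ⊓ C ∧ ∃ k : ℕ, orderOf x = p ^ k} with hP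
  show P (L₁ ⊔ L₂) = P L₁ ⊔ P L₂
  have mono : ∀ X X' : Subgroup G, X ≤ X' → P X ≤ P X' := fun X X' h =>
    closure_mono fun x hx => ⟨⟨h hx.1.1, hx.1.2⟩, hx.2⟩
  refine le_antisymm ?_ (sup_le (mono _ _ le_sup_left) (mono _ _ le_sup_right))
  have hTC : (T : Subgroup G) ≤ C := le_centralizer_iff.mp (omegaZ_le_centralizer _)
  set L := L₁ ⊔ L₂ with hL
  set K := L ⊓ C with hK
  set R := P L₁ ⊔ P L₂ with hR
  have hPle : ∀ X, P X ≤ X ⊓ C := fun X => (closure_le _).mpr fun x hx => hx.1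
  have hTP : ∀ X, (T : Subgroup G) ⊓ X ≤ P X := fun X x hx => subset_closure ⟨⟨hx.2, hTC hx.1⟩, by
    obtain ⟨k, hk⟩ := T.2 ⟨x, hx.1⟩
    obtain ⟨j, -, hj⟩ := (Nat.dvd_prime_pow hp.out).mp
      (orderOf_dvd_of_pow_eq_one (show x ^ p ^ k = 1 from congrArg Subtype.val hk))
    exact ⟨j, hj⟩⟩
  have hTR : (T : Subgroup G) ⊓ L ≤ R := by
    rw [hL, sylow_inf_sup_subnormal T h₁ h₂]
    exact sup_le_sup (hTP _) (hTP _)
  have hPn : ∀ X : Subgroup G, (X ⊓ C) ≤ normalizer ((P X : Subgroup G) : Set G) := by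
    intro X g hg
    have key : ∀ g ∈ X ⊓ C, (P X).map (MulAut.conj g).toMonoidHom ≤ P X := by
      intro g hg
      rw [hP]
      dsimp only
      rw [MonoidHom.map_closure]
      refine closure_mono ?_
      rintro _ ⟨x, ⟨hx, k, hk⟩, rfl⟩
      exact ⟨mul_mem (mul_mem hg hx) (inv_mem hg), k, by
        show orderOf ((MulAut.conj g) x) = _
        rw [MulEquiv.orderOf_eq]; exact hk⟩
    rw [mem_normalizer_iff]
    refine fun y => ⟨fun hy => key g hg (mem_map_of_mem _ hy), fun hy => ?_⟩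
    have := key g⁻¹ (inv_mem hg) (mem_map_of_mem _ hy)
    simpa [mul_assoc] using this
  have hRK : R ≤ K := sup_le ((hPle _).trans (inf_le_inf_right _ le_sup_left))
    ((hPle _).trans (inf_le_inf_right _ le_sup_right))
  have hsub : ∀ X : Subgroup G, X.IsSubnormal → X ≤ L → ((P X).subgroupOf K).IsSubnormal := by
    intro X hX hXL
    have e : X.subgroupOf K = (X ⊓ C).subgroupOf K := by
      ext z
      simp only [mem_subgroupOf, mem_inf]
      exact ⟨fun h => ⟨h, z.2.2⟩, fun h => h.1⟩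
    have h' : ((X ⊓ C).subgroupOf K).IsSubnormal := e ▸ hX.subgroupOf
    have hPX : (P X).subgroupOf K ≤ (X ⊓ C).subgroupOf K := comap_mono (hPle X)
    refine IsSubnormal.step _ _ hPX h' ((normal_subgroupOf_iff_le_normalizer hPX).mpr ?_)
    intro z hz
    rw [mem_normalizer_iff]
    exact fun w => mem_normalizer_iff.mp (hPn X hz) w
  have hRsub : (R.subgroupOf K).IsSubnormal := by
    rw [hR, subgroupOf_sup ((hPle _).trans (inf_le_inf_right _ le_sup_left))
      ((hPle _).trans (inf_le_inf_right _ le_sup_right))]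
    exact Layer.isSubnormal_sup (hsub _ h₁ le_sup_left) (hsub _ h₂ le_sup_right)
  have hidxK : ¬ p ∣ ((T : Subgroup G).subgroupOf K).index := by
    intro hd
    have h := not_dvd_relIndex_subnormal (T.subtype hTC) h12.subgroupOf
    rw [Sylow.coe_subtype, subgroupOf, relIndex_comap, subgroupOf_map_subtype] at h
    exact h hd
  have hR' : ¬ p ∣ (R.subgroupOf K).index := fun hd => hidxK (hd.trans (index_dvd_of_le
    (fun z hz => hTR ⟨hz, z.2.1⟩)))
  refine (closure_le _).mpr ?_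
  rintro x ⟨hxK, k, hk⟩
  obtain ⟨S, hS⟩ := (show IsPGroup p (zpowers (⟨x, hxK⟩ : K)) from
    IsPGroup.of_card (n := k) (by rw [Nat.card_zpowers, Subgroup.orderOf_mk, hk])).exists_le_sylow
  have h2 : ¬ p ∣ ((S : Subgroup K) ⊓ R.subgroupOf K).index := by
    have hSR := not_dvd_relIndex_subnormal S hRsub
    rw [← inf_relIndex_right] at hSR
    rw [← relIndex_mul_index (inf_le_right : (S : Subgroup K) ⊓ R.subgroupOf K ≤ R.subgroupOf K)]
    exact fun hd => (hp.out.dvd_mul.mp hd).elim hSR hR'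
  exact (le_of_isPGroup_of_not_dvd (M := (S : Subgroup K) ⊓ R.subgroupOf K) inf_le_left le_top S.2
    (by rwa [relIndex_top_right]) (hS (mem_zpowers _))).2

end Cfsg.Agent.LocalStructure
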