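import Mathlib
import Cfsg.Agent.LocalStructure.PIrreducible
import Cfsg.Agent.LocalStructure.ThreeSubgroup
import Cfsg.Agent.LocalStructure.WeaklyClosed

/-!
# `O^p` of weak closures in the two factors of a product with small commutator
-/

set_option autoImplicit false
set_option linter.all false

namespace Cfsg.Agent.LocalStructure

open Subgroup
open scoped commutatorElement Pointwise

variable {G : Type*} [Group G] [Finite G] {p : ℕ} [hp : Fact p.Prime]

theorem mem_of_coprime_of_mem_sup' {N D : Subgroup G} (hDN : D ≤ normalizer (N : Set G))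
    (hD : IsPGroup p D) {g : G} (hg : g ∈ N ⊔ D) (hc : (orderOf g).Coprime p) : g ∈ N := by
  set X : Subgroup G := N ⊔ D with hX
  haveI : (N.subgroupOf X).Normal :=
    normal_subgroupOf_of_le_normalizer (sup_le Subgroup.le_normalizer hDN)
  have h : (⟨g, hg⟩ : X) ∈ N.subgroupOf X ⊔ D.subgroupOf X := by
    rw [← subgroupOf_sup le_sup_left le_sup_right]
    exact hg
  exact mem_of_coprime_of_mem_sup (hD.comap_of_injective X.subtype X.subtype_injective) h
    (by rwa [Subgroup.orderOf_mk])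

/-- The properties of the weak closure of `Q` in `X` used below. -/
structure WProp (Q X W : Subgroup G) : Prop where
  le : Q ≤ W
  leX : W ≤ X
  normal : X ≤ normalizer (W : Set G)
  minimal : ∀ M : Subgroup G, Q ≤ M → W ≤ normalizer (M : Set G) → W ≤ M

theorem WProp.eq_sup {Q X W : Subgroup G} (hW : WProp Q X W) : resOf p W ⊔ Q = W := by
  classical
  refine le_antisymm (sup_le (resOf_le _ _) hW.le) ?_
  set f := QuotientGroup.mk' (Cfsg.pResidual p W) with hf
  haveI := Fusion.pResidual_characteristic (p := p) (G := W)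
  have hP : IsPGroup p (W ⧸ Cfsg.pResidual p W) := Fusion.isPGroup_quotient_pResidual
  set S := (Q.subgroupOf W).map f with hS
  have htop : S = ⊤ := by
    by_contra hne
    obtain hmax | ⟨M, hM, hSM⟩ := eq_top_or_exists_le_coatom S
    · exact hne hmax
    haveI := hP.isNilpotent
    have hn : M.Normal := (normalizerCondition_of_isNilpotent).normal_of_coatom M hM
    set M' : Subgroup G := (M.comap f).map W.subtype with hM'
    have hQM : Q ≤ M' := fun x hx => ⟨⟨x, hW.le hx⟩, hSM ⟨⟨x, hW.le hx⟩, hx, rfl⟩, rfl⟩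
    have hWM : W ≤ normalizer (M' : Set G) := by
      refine le_normalizer_map_of_normal W _
    have h1 := hW.minimal M' hQM hWM
    refine hM.1 (eq_top_iff.mpr fun u _ => ?_)
    obtain ⟨x, rfl⟩ := QuotientGroup.mk'_surjective (Cfsg.pResidual p W) u
    obtain ⟨y, hy, hxy⟩ := h1 x.2
    have : y = x := Subtype.ext hxy
    exact this ▸ hy
  intro x hx
  obtain ⟨q, hq, hqx⟩ := (htop.ge (mem_top (f ⟨x, hx⟩)))
  have h2 : (⟨x, hx⟩ : W) * q⁻¹ ∈ Cfsg.pResidual p W := by
    rw [← QuotientGroup.ker_mk' (Cfsg.pResidual p W), MonoidHom.mem_ker, map_mul, map_inv, hqx, mul_inv_cancel]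
  have h3 : x * (q : G)⁻¹ ∈ resOf p W := ⟨_, h2, rfl⟩
  have := mul_mem (mem_sup_left (T := Q) h3) (mem_sup_right (S := resOf p W) hq)
  simpa [mul_assoc] using this

theorem WProp.commutator_eq {Q X W : Subgroup G} (hQ : IsPGroup p Q) (hW : WProp Q X W) :
    ⁅resOf p W, Q⁆ = resOf p W := by
  have hWK : W ≤ normalizer ((resOf p W : Subgroup G) : Set G) := le_normalizer_resOf p le_normalizer
  have hle : ⁅resOf p W, Q⁆ ≤ resOf p W := by
    rw [commutator_comm]
    exact commutator_le.mpr fun q hq k hk => by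
      rw [commutatorElement_def]
      exact mul_mem ((mem_normalizer_iff.mp (hWK (hW.le hq)) k).mp hk) (inv_mem hk)
  refine le_antisymm hle ?_
  set N := ⁅resOf p W, Q⁆ with hN
  have hKN : resOf p W ≤ normalizer (N : Set G) := normalizer_commutator_ge_left _ _
  have hQN : Q ≤ normalizer (N : Set G) := normalizer_commutator_ge_right _ _
  have hstab : ∀ k ∈ resOf p W, ∀ m ∈ N ⊔ Q, k * m * k⁻¹ ∈ N ⊔ Q := by
    intro k hk
    suffices N ⊔ Q ≤ (N ⊔ Q).comap (MulAut.conj k).toMonoidHom from fun m hm => this hm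
    refine sup_le (fun m hm => mem_sup_left ((mem_normalizer_iff.mp (hKN hk) m).mp hm)) fun q hq => ?_
    show k * q * k⁻¹ ∈ N ⊔ Q
    rw [show k * q * k⁻¹ = ⁅k, q⁆ * q by rw [commutatorElement_def]; group]
    exact mul_mem (mem_sup_left (commutator_mem_commutator hk hq)) (mem_sup_right hq)
  have hWle : W ≤ N ⊔ Q := by
    refine hW.minimal _ le_sup_right ?_
    rw [← hW.eq_sup (p := p)]
    refine sup_le (fun k hk => mem_normalizer_iff.mpr fun m => ⟨hstab k hk m, fun hm => ?_⟩)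
      (le_sup_right.trans le_normalizer)
    simpa [mul_assoc] using hstab k⁻¹ (inv_mem hk) _ hm
  rw [resOf_le_iff]
  exact fun g hg hc => mem_of_coprime_of_mem_sup' hQN hQ (hWle hg) hc

variable {Q H₁ H₂ W : Subgroup G}

theorem commutator_le_core [H₁.Normal] [H₂.Normal] (hQ : IsPGroup p Q)
    (hgen : ∀ M : Subgroup G, M.Normal → Q ≤ M → M = ⊤) (hcomm : ⁅H₁, H₂⁆ ≤ normalizer (Q : Set G)) :
    ⁅⁅H₁, H₂⁆, (⊤ : Subgroup G)⁆ ≤ ⁅H₁, H₂⁆ ⊓ Cfsg.pCore p G := by
  set C := ⁅H₁, H₂⁆ with hC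
  set P := C ⊓ Cfsg.pCore p G with hP
  have hCQ : C ⊓ Q ≤ P := by
    refine le_inf inf_le_left ?_
    refine Layer.subnormal_le_pCore ?_ (hQ.to_le inf_le_right)
    refine IsSubnormal.step _ C inf_le_left (Subgroup.Normal.isSubnormal inferInstance) ?_
    refine normal_subgroupOf_of_le_normalizer ?_
    exact Coprime.le_normalizer_inf le_normalizer hcomm
  set f := QuotientGroup.mk' P with hf
  have hQc : Q ≤ (centralizer ((C.map f : Subgroup (G ⧸ P)) : Set (G ⧸ P))).comap f := by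
    intro q hq
    rw [mem_comap, mem_centralizer_iff]
    rintro _ ⟨c, hc, rfl⟩
    rw [← commutatorElement_eq_one_iff_mul_comm, ← map_commutatorElement, ← MonoidHom.mem_ker,
      QuotientGroup.ker_mk']
    refine hCQ ⟨?_, ?_⟩
    · rw [commutatorElement_def, mul_assoc, mul_assoc]
      exact C.mul_mem hc (by rw [← mul_assoc]; exact (inferInstance : C.Normal).conj_mem _ (inv_mem hc) q)
    · rw [commutatorElement_def]
      exact Q.mul_mem ((mem_normalizer_iff.mp (hcomm hc) q).mp hq) (Q.inv_mem hq)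
  haveI : (C.map f).Normal := Normal.map inferInstance f (QuotientGroup.mk'_surjective P)
  have htop := hgen _ inferInstance hQc
  rw [commutator_le]
  intro c hc x _
  rw [← QuotientGroup.ker_mk' P, MonoidHom.mem_ker, map_commutatorElement,
    commutatorElement_eq_one_iff_mul_comm]
  exact mem_centralizer_iff.mp (htop.ge (mem_top x)) _ ⟨c, hc, rfl⟩

theorem derived_commutator_le [H₁.Normal] [H₂.Normal] (hQ : IsPGroup p Q)
    (hgen : ∀ M : Subgroup G, M.Normal → Q ≤ M → M = ⊤) (hcomm : ⁅H₁, H₂⁆ ≤ normalizer (Q : Set G)) :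
    ⁅⁅H₁, H₁⁆, H₂⁆ ≤ ⁅H₁, H₂⁆ ⊓ Cfsg.pCore p G := by
  have h : ⁅⁅H₁, H₂⁆, H₁⁆ ≤ ⁅H₁, H₂⁆ ⊓ Cfsg.pCore p G := (commutator_mono le_rfl le_top).trans (commutator_le_core (H₁ := H₁) (H₂ := H₂) hQ hgen hcomm)
  refine commutator_commutator_le_of_rotate (fun x _ => ?_) (fun x _ => ?_) (fun x _ => ?_) h ?_
  any_goals (rw [normalizer_eq_top]; exact mem_top x)
  rw [commutator_comm H₂ H₁]
  exact h

theorem weakClosure_factor [H₁.Normal] [H₂.Normal] (hQ : IsPGroup p Q)
    (hgen : ∀ M : Subgroup G, M.Normal → Q ≤ M → M = ⊤) (hprod : H₁ ⊔ H₂ = ⊤)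
    (hcomm : ⁅H₁, H₂⁆ ≤ normalizer (Q : Set G)) (hW : WProp Q (H₁ ⊔ Q) W) :
    ⁅resOf p W, H₁⁆ = resOf p W ∧ resOf p W ≤ ⁅H₁, H₁⁆ ∧
      (⊤ : Subgroup G) ≤ normalizer ((resOf p W : Subgroup G) : Set G) ∧ resOf p W ≤ H₁ := by
  classical
  set C := ⁅H₁, H₂⁆ with hC
  set P := C ⊓ Cfsg.pCore p G with hP
  set K := resOf p W with hK
  have hCtop : ⁅C, (⊤ : Subgroup G)⁆ ≤ P := commutator_le_core hQ hgen hcomm
  have hPp : IsPGroup p P := Core.pCore_isPGroup.to_le inf_le_right
  have hPH : P ≤ H₁ := inf_le_left.trans (commutator_le_left _ _)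
  have hKH : K ≤ H₁ := resOf_le_iff.mpr fun g hg hc => mem_of_coprime_of_mem_sup hQ (hW.leX hg) hc
  have hHW : H₁ ≤ normalizer (W : Set G) := le_sup_left.trans hW.normal
  have hQW : Q ≤ normalizer (W : Set G) := le_sup_right.trans hW.normal
  have hHK : H₁ ≤ normalizer (K : Set G) := le_normalizer_resOf p hHW
  have hQK : Q ≤ normalizer (K : Set G) := le_normalizer_resOf p hQW
  have hKd : K ≤ ⁅H₁, H₁⁆ := by
    set M := ⁅H₁, H₁⁆ ⊔ P with hM
    set f := QuotientGroup.mk' M with hf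
    set Z := Cfsg.pCore p (G ⧸ M) with hZ
    set M' := (Q.map f ⊔ Z).comap f with hM'
    have hQM : Q ≤ M' := fun q hq => mem_sup_left (mem_map_of_mem f hq)
    have hHc : ⁅H₁, (⊤ : Subgroup G)⁆ ≤ ⁅H₁, H₁⁆ ⊔ C := by
      rw [← hprod, commutator_comm]
      refine commutator_sup_le (fun x _ => ?_) (fun x _ => ?_) (fun x _ => ?_) ?_ ?_
      any_goals (rw [normalizer_eq_top]; exact mem_top x)
      · exact le_sup_left
      · rw [commutator_comm]; exact le_sup_right
    have hcen : ∀ u ∈ ⁅H₁, H₁⁆ ⊔ C, ∀ y, Commute (f u) y := by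
      intro u hu y
      obtain ⟨y, rfl⟩ := QuotientGroup.mk'_surjective M y
      have hle : ⁅⁅H₁, H₁⁆ ⊔ C, (⊤ : Subgroup G)⁆ ≤ M := by
        refine commutator_sup_le (fun x _ => ?_) (fun x _ => ?_) (fun x _ => ?_) ?_ ?_
        any_goals (rw [normalizer_eq_top]; exact mem_top x)
        · exact (commutator_le_left _ _).trans le_sup_left
        · exact hCtop.trans le_sup_right
      show f u * f y = f y * f u
      rw [← commutatorElement_eq_one_iff_mul_comm, ← map_commutatorElement, ← MonoidHom.mem_ker,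
        QuotientGroup.ker_mk']
      exact hle (commutator_mem_commutator hu (mem_top y))
    have hconj : ∀ h ∈ H₁, ∀ m ∈ M', h * m * h⁻¹ ∈ M' := by
      intro h hh
      suffices Q.map f ⊔ Z ≤ (Q.map f ⊔ Z).comap (MulAut.conj (f h)).toMonoidHom from fun m hm => by
        have := this hm
        simpa [hM'] using this
      refine sup_le ?_ fun z hz => mem_sup_right ((inferInstance : Z.Normal).conj_mem z hz _)
      rintro _ ⟨q, hq, rfl⟩
      show f h * f q * (f h)⁻¹ ∈ Q.map f ⊔ Z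
      set z := f ⁅h, q⁆ with hz
      have hzc : ∀ y, Commute z y := hcen _ (hHc (commutator_mem_commutator hh (mem_top q)))
      have he : f h * f q * (f h)⁻¹ = z * f q := by
        rw [hz, map_commutatorElement, commutatorElement_def]; group
      rw [he]
      refine mul_mem (mem_sup_right ?_) (mem_sup_left (mem_map_of_mem f hq))
      obtain ⟨k, hk⟩ := IsPGroup.iff_orderOf.mp hQ ⟨q, hq⟩
      rw [Subgroup.orderOf_mk] at hk
      have h1 : z ^ p ^ k = 1 := by
        have h2 := congrArg (· ^ p ^ k) he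
        simp only [conj_pow, (hzc (f q)).mul_pow, ← map_pow, ← hk, pow_orderOf_eq_one, map_one, mul_one,
          mul_inv_cancel] at h2
        rw [← hk]; exact h2.symm
      haveI : (zpowers z).Normal := ⟨fun x hx y => by
        obtain ⟨i, rfl⟩ := mem_zpowers_iff.mp hx
        rw [← ((hzc y).zpow_left i).eq, mul_inv_cancel_right]; exact hx⟩
      refine Core.le_pCore ?_ (mem_zpowers z)
      intro x
      obtain ⟨i, hi⟩ := mem_zpowers_iff.mp x.2
      exact ⟨k, Subtype.ext (by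
        rw [SubgroupClass.coe_pow, ← hi, ← zpow_natCast, ← zpow_mul, mul_comm, zpow_mul, zpow_natCast, h1,
          one_zpow, OneMemClass.coe_one])⟩
    have hXM : H₁ ⊔ Q ≤ normalizer (M' : Set G) := by
      refine sup_le (fun h hh => mem_normalizer_iff.mpr fun m => ⟨hconj h hh m, fun hm => ?_⟩)
        (hQM.trans le_normalizer)
      simpa [mul_assoc] using hconj h⁻¹ (inv_mem hh) _ hm
    have hWM : W ≤ M' := hW.minimal M' hQM (hW.leX.trans hXM)
    have hp' : IsPGroup p (Q.map f ⊔ Z : Subgroup (G ⧸ M)) :=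
      (hQ.map f).to_sup_of_normal_right Core.pCore_isPGroup
    refine resOf_le_iff.mpr fun g hg hc => ?_
    obtain ⟨k, hk⟩ := IsPGroup.iff_orderOf.mp hp' ⟨f g, hWM hg⟩
    rw [← Subgroup.orderOf_coe] at hk
    have h1 : orderOf (f g) = 1 :=
      Nat.eq_one_of_dvd_coprimes (hc.pow_right k) (orderOf_map_dvd f g) hk.dvd
    rw [orderOf_eq_one_iff, ← MonoidHom.mem_ker, QuotientGroup.ker_mk'] at h1
    exact mem_of_coprime_of_mem_sup hPp h1 hc
  refine ⟨?_, hKd, ?_, hKH⟩
  · set N := ⁅K, H₁⁆ with hN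
    have hle : N ≤ K := by
      rw [hN, commutator_comm]
      exact commutator_le.mpr fun h hh k hk => by
        rw [commutatorElement_def]
        exact mul_mem ((mem_normalizer_iff.mp (hHK hh) k).mp hk) (inv_mem hk)
    refine le_antisymm hle ?_
    set L := W ⊓ H₁ with hL
    have hHL : H₁ ≤ normalizer (L : Set G) := Coprime.le_normalizer_inf hHW le_normalizer
    have hQL : Q ≤ normalizer (L : Set G) :=
      Coprime.le_normalizer_inf hQW (by rw [normalizer_eq_top]; exact le_top)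
    have hHQ : ⁅H₁, Q⁆ ≤ L := by
      refine le_inf ?_ (commutator_le_left _ _)
      exact commutator_le.mpr fun h hh q hq => by
        rw [commutatorElement_def]
        exact mul_mem ((mem_normalizer_iff.mp (hHW hh) q).mp (hW.le hq)) (inv_mem (hW.le hq))
    have hKL : K ≤ ⁅L, H₁⁆ := by
      have hnH : H₁ ≤ normalizer ((⁅L, H₁⁆ : Subgroup G) : Set G) := normalizer_commutator_ge_right _ _
      have hnQ : Q ≤ normalizer ((⁅L, H₁⁆ : Subgroup G) : Set G) :=
        le_normalizer_commutator_of_le hQL (by rw [normalizer_eq_top]; exact le_top)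
      refine (WProp.commutator_eq hQ hW).ge.trans ((commutator_mono hKd le_rfl).trans ?_)
      refine commutator_commutator_le_of_rotate hnH hnH hnQ (commutator_mono hHQ le_rfl) ?_
      rw [commutator_comm Q H₁]
      exact commutator_mono hHQ le_rfl
    haveI : (N.subgroupOf H₁).Normal :=
      normal_subgroupOf_of_le_normalizer (normalizer_commutator_ge_right _ _)
    set f := QuotientGroup.mk' (N.subgroupOf H₁) with hf
    set Z := Cfsg.pCore p (H₁ ⧸ N.subgroupOf H₁) with hZ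
    set Kq := (K.subgroupOf H₁).map f with hKq
    set D := ((Q ⊓ H₁).subgroupOf H₁).map f with hD
    set Lq := (L.subgroupOf H₁).map f with hLq
    have hKcen : ⁅Kq, (⊤ : Subgroup (H₁ ⧸ N.subgroupOf H₁))⁆ = ⊥ := by
      rw [eq_bot_iff, commutator_le]
      rintro _ ⟨k, hk, rfl⟩ y -
      obtain ⟨y, rfl⟩ := QuotientGroup.mk'_surjective (N.subgroupOf H₁) y
      rw [mem_bot, ← map_commutatorElement, ← MonoidHom.mem_ker, QuotientGroup.ker_mk']
      exact commutator_mem_commutator hk y.2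
    have hLsup : L.subgroupOf H₁ = K.subgroupOf H₁ ⊔ (Q ⊓ H₁).subgroupOf H₁ := by
      rw [← subgroupOf_sup hKH inf_le_right]
      congr 1
      refine le_antisymm ?_ (sup_le (le_inf (resOf_le _ _) hKH) (inf_le_inf_right H₁ hW.le))
      rintro x ⟨hxW, hxH⟩
      rw [← hW.eq_sup (p := p)] at hxW
      have hx2 : x ∈ ((K ⊔ Q : Subgroup G) : Set G) := hxW
      rw [coe_mul_of_right_le_normalizer_left _ _ hQK] at hx2
      obtain ⟨k, hk, q, hq, rfl⟩ := hx2
      exact mul_mem (mem_sup_left hk) (mem_sup_right ⟨hq, (H₁.mul_mem_cancel_left (hKH hk)).mp hxH⟩)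
    have hLq' : Lq = Kq ⊔ D := by rw [hLq, hLsup, Subgroup.map_sup]
    haveI : Lq.Normal := Normal.map (normal_subgroupOf_of_le_normalizer hHL) f (QuotientGroup.mk'_surjective _)
    have hDZ : D ≤ Z := by
      refine Layer.subnormal_le_pCore ?_ (((hQ.to_le inf_le_left).comap_of_injective H₁.subtype
        H₁.subtype_injective).map f)
      refine IsSubnormal.step _ Lq (hLq' ▸ le_sup_right) (Subgroup.Normal.isSubnormal inferInstance) ?_
      refine normal_subgroupOf_of_le_normalizer ?_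
      rw [hLq']
      refine sup_le ?_ le_normalizer
      exact (commutator_eq_bot_iff_le_centralizer.mp
        (le_bot_iff.mp ((commutator_mono le_rfl le_top).trans hKcen.le))).trans (centralizer_le_normalizer _)
    have hLc : ⁅Lq, (⊤ : Subgroup (H₁ ⧸ N.subgroupOf H₁))⁆ ≤ Z := by
      rw [hLq']
      refine commutator_sup_le (fun x _ => ?_) (fun x _ => ?_) (fun x _ => ?_) (hKcen.le.trans bot_le) ?_
      any_goals (rw [normalizer_eq_top]; exact mem_top x)
      exact (commutator_mono hDZ le_rfl).trans (commutator_le_left _ _)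
    refine resOf_le_iff.mpr fun g hg hc => ?_
    have hgK : g ∈ K := mem_resOf hg hc
    have h1 : f ⟨g, hKH hgK⟩ ∈ Z := by
      have h2 : ⁅L, H₁⁆ ≤ (Z.comap f).map H₁.subtype := by
        rw [commutator_le]
        intro l hl h hh
        refine ⟨⁅(⟨l, hl.2⟩ : H₁), ⟨h, hh⟩⁆, ?_, rfl⟩
        rw [SetLike.mem_coe, mem_comap, map_commutatorElement]
        exact hLc (commutator_mem_commutator (mem_map_of_mem f hl) (mem_top _))
      obtain ⟨y, hy, hyg⟩ := h2 (hKL hgK)
      have : y = ⟨g, hKH hgK⟩ := Subtype.ext hyg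
      exact this ▸ hy
    obtain ⟨k, hk⟩ := IsPGroup.iff_orderOf.mp Core.pCore_isPGroup (⟨_, h1⟩ : Z)
    rw [Subgroup.orderOf_mk] at hk
    have h3 : orderOf (f ⟨g, hKH hgK⟩) = 1 := by
      refine Nat.eq_one_of_dvd_coprimes (hc.pow_right k) ?_ hk.dvd
      have := orderOf_map_dvd f (⟨g, hKH hgK⟩ : H₁)
      rwa [Subgroup.orderOf_mk] at this
    rw [orderOf_eq_one_iff, ← MonoidHom.mem_ker, QuotientGroup.ker_mk'] at h3
    exact h3
  · have hd := derived_commutator_le (H₁ := H₁) (H₂ := H₂) hQ hgen hcomm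
    have key : ∀ x ∈ H₂, ∀ y ∈ K, x * y * x⁻¹ ∈ K := by
      intro x hx
      suffices K ≤ K.comap (MulAut.conj x).toMonoidHom from fun y hy => this hy
      refine resOf_le_iff.mpr fun g hg hc => ?_
      show x * g * x⁻¹ ∈ K
      have hgK : g ∈ K := mem_resOf hg hc
      have h1 : ⁅x, g⁆ ∈ P := by
        rw [← commutatorElement_inv]
        exact inv_mem (hd (commutator_mem_commutator (hKd hgK) hx))
      refine mem_of_coprime_of_mem_sup' (hPH.trans hHK) hPp ?_ (by rwa [orderOf_conj])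
      rw [show x * g * x⁻¹ = ⁅x, g⁆ * g by rw [commutatorElement_def]; group]
      exact mul_mem (mem_sup_right h1) (mem_sup_left hgK)
    rw [← hprod]
    refine sup_le hHK fun x hx => mem_normalizer_iff.mpr fun y => ⟨key x hx y, fun hy => ?_⟩
    simpa [mul_assoc] using key x⁻¹ (inv_mem hx) _ hy

/-- The two factors together. -/
theorem weakClosure_product [H₁.Normal] [H₂.Normal] {W₁ W₂ : Subgroup G} (hQ : IsPGroup p Q)
    (hgen : ∀ M : Subgroup G, M.Normal → Q ≤ M → M = ⊤) (hprod : H₁ ⊔ H₂ = ⊤)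
    (hcomm : ⁅H₁, H₂⁆ ≤ normalizer (Q : Set G)) (hW₁ : WProp Q (H₁ ⊔ Q) W₁) (hW₂ : WProp Q (H₂ ⊔ Q) W₂) :
    resOf p W₁ ⊔ resOf p W₂ = Cfsg.pResidual p G ∧ ⁅resOf p W₁, resOf p W₂⁆ ≤ Cfsg.pCore p G := by
  obtain ⟨-, hd1, hn1, h1H⟩ := weakClosure_factor (H₁ := H₁) (H₂ := H₂) hQ hgen hprod hcomm hW₁
  obtain ⟨-, hd2, hn2, h2H⟩ := weakClosure_factor (H₁ := H₂) (H₂ := H₁) hQ hgen ((sup_comm _ _).trans hprod)
    ((commutator_comm _ _).le.trans hcomm) hW₂
  haveI : (resOf p W₁).Normal := normalizer_eq_top_iff.mp (top_le_iff.mp hn1)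
  haveI : (resOf p W₂).Normal := normalizer_eq_top_iff.mp (top_le_iff.mp hn2)
  refine ⟨le_antisymm ?_ ?_, ?_⟩
  · rw [← resOf_top p]
    exact sup_le (resOf_mono p le_top) (resOf_mono p le_top)
  · set N := resOf p W₁ ⊔ resOf p W₂ with hN
    have htop : N ⊔ Q = ⊤ := by
      refine hgen _ (normalizer_eq_top_iff.mp (top_le_iff.mp ?_)) le_sup_right
      have hstab : ∀ {H W : Subgroup G}, WProp Q (H ⊔ Q) W → resOf p W ≤ N →
          ∀ h ∈ H, ∀ m ∈ N ⊔ Q, h * m * h⁻¹ ∈ N ⊔ Q := by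
        intro H W hW hWN h hh
        suffices N ⊔ Q ≤ (N ⊔ Q).comap (MulAut.conj h).toMonoidHom from fun m hm => this hm
        refine sup_le (fun m hm => mem_sup_left ((inferInstance : N.Normal).conj_mem m hm h)) fun q hq => ?_
        have := (mem_normalizer_iff.mp (hW.normal (mem_sup_left hh)) q).mp (hW.le hq)
        rw [← hW.eq_sup (p := p)] at this
        exact (sup_le_sup_right hWN Q) this
      rw [← hprod]
      refine sup_le (fun h hh => mem_normalizer_iff.mpr fun m => ⟨hstab hW₁ le_sup_left h hh m, fun hm => ?_⟩)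
        (fun h hh => mem_normalizer_iff.mpr fun m => ⟨hstab hW₂ le_sup_right h hh m, fun hm => ?_⟩)
      · simpa [mul_assoc] using hstab hW₁ le_sup_left h⁻¹ (inv_mem hh) _ hm
      · simpa [mul_assoc] using hstab hW₂ le_sup_right h⁻¹ (inv_mem hh) _ hm
    exact pResidual_le_of_sup_eq_top hQ htop
  · exact (commutator_mono hd1 h2H).trans
      ((derived_commutator_le hQ hgen hcomm).trans inf_le_right)

end Cfsg.Agent.LocalStructure

namespace Cfsg.Agent.LocalStructure

open Subgroup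

variable {G : Type*} [Group G]

theorem WProp.subgroupOf {Q X W H : Subgroup G} (hW : WProp Q X W) (hX : X ≤ H) :
    WProp (Q.subgroupOf H) (X.subgroupOf H) (W.subgroupOf H) := by
  refine ⟨comap_mono hW.le, comap_mono hW.leX, ?_, fun M hQM hWM x hx => ?_⟩
  · rw [← subgroupOf_normalizer_eq (hW.leX.trans hX)]
    exact comap_mono hW.normal
  · have hQH : Q ≤ H := (hW.le.trans hW.leX).trans hX
    have h := hW.minimal (M.map H.subtype) (fun q hq => ⟨⟨q, hQH hq⟩, hQM hq, rfl⟩) ?_ hx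
    · obtain ⟨y, hy, hxy⟩ := h
      exact Subtype.ext hxy ▸ hy
    · intro w hw
      exact le_normalizer_map H.subtype ⟨⟨w, hX (hW.leX hw)⟩, hWM (show w ∈ W from hw), rfl⟩

theorem resOf_subgroupOf {p : ℕ} {W H : Subgroup G} (hW : W ≤ H) :
    (resOf p (W.subgroupOf H)).map H.subtype = resOf p W := by
  rw [resOf_eq_closure, resOf_eq_closure, MonoidHom.map_closure]
  congr 1
  ext g
  constructor
  · rintro ⟨⟨x, hx⟩, ⟨hxW, hc⟩, rfl⟩
    exact ⟨hxW, by simpa [Subgroup.orderOf_mk] using hc⟩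
  · rintro ⟨hg, hc⟩
    exact ⟨⟨g, hW hg⟩, ⟨hg, by simpa [Subgroup.orderOf_mk] using hc⟩, rfl⟩

theorem wprop_weakClosure [Finite G] {p : ℕ} [Fact p.Prime] {Q X : Subgroup G} (hQ : IsPGroup p Q)
    (hwc : Cfsg.IsWeaklyClosedSubgroup p Q) (hX : Q ≤ X) : WProp Q X (Cfsg.weakClosure Q X) := by
  have hle : Cfsg.weakClosure Q X ≤ X := iSup_le fun g => g.2
  have hQW : Q ≤ Cfsg.weakClosure Q X :=
    le_trans (cmap_one Q).ge (le_iSup (fun g : {g : G // cmap g Q ≤ X} => cmap (g : G) Q) ⟨1, by rwa [cmap_one]⟩)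
  refine ⟨hQW, hle, ?_, fun M hQM hWM => iSup_le fun g => ?_⟩
  · have key : ∀ x ∈ X, cmap x (Cfsg.weakClosure Q X) ≤ Cfsg.weakClosure Q X := by
      intro x hx
      show Subgroup.map _ (⨆ g : {g : G // cmap g Q ≤ X}, cmap (g : G) Q) ≤ _
      rw [Subgroup.map_iSup]
      refine iSup_le fun g => ?_
      have h : cmap (x * g) Q ≤ X := (cmap_mul x g Q).le.trans ((cmap_mono g.2).trans (cmap_eq_self_of_mem hx).le)
      exact (cmap_mul x g Q).ge.trans (le_iSup (fun g : {g : G // cmap g Q ≤ X} => cmap (g : G) Q) ⟨x * g, h⟩)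
    refine fun x hx => cmap_eq_iff.mp (le_antisymm (key x hx) ?_)
    have := cmap_mono (g := x) (key x⁻¹ (inv_mem hx))
    rwa [cmap_cmap_inv] at this
  · obtain ⟨k, hk, hgk⟩ := wc_exists_conj hQ hwc hQW
      (le_iSup (fun g : {g : G // cmap g Q ≤ X} => cmap (g : G) Q) g)
    show cmap (g : G) Q ≤ M
    rw [hgk]
    exact (cmap_mono hQM).trans (cmap_eq_iff.mpr (hWM hk)).le

end Cfsg.Agent.LocalStructure
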