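import Mathlib
import Cfsg.Agent.LocalStructure.WeakClosureProduct
import Cfsg.Agent.Layer.Components
import Cfsg.Agent.S2815

/-!
# `O^p` of a weak closure acting with quasisimple image
-/

set_option autoImplicit false
set_option linter.all false

namespace Cfsg.Agent.LocalStructure

open Subgroup
open scoped commutatorElement Pointwise

variable {H : Type*} [Group H] [Finite H] {p : ℕ} [hp : Fact p.Prime] {C Q W : Subgroup H}

theorem commutator_weakClosure_le [C.Normal] [W.Normal] (hQ : IsPGroup p Q) (hW : WProp Q ⊤ W)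
    (hCQ : C ≤ normalizer (Q : Set H)) : ⁅C, W⁆ ≤ Cfsg.pCore p H := by
  have hCQ' : C ⊓ Q ≤ Cfsg.pCore p H := by
    refine Layer.subnormal_le_pCore ?_ (hQ.to_le inf_le_right)
    refine IsSubnormal.step _ C inf_le_left (Subgroup.Normal.isSubnormal inferInstance) ?_
    exact normal_subgroupOf_of_le_normalizer (Coprime.le_normalizer_inf le_normalizer hCQ)
  set f := QuotientGroup.mk' (Cfsg.pCore p H) with hf
  set M := (centralizer ((C.map f : Subgroup (H ⧸ Cfsg.pCore p H)) : Set (H ⧸ Cfsg.pCore p H))).comap f with hM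
  haveI : (C.map f).Normal := Normal.map inferInstance f (QuotientGroup.mk'_surjective _)
  have hQM : Q ≤ M := by
    intro q hq
    rw [hM, mem_comap, mem_centralizer_iff]
    rintro _ ⟨c, hc, rfl⟩
    rw [← commutatorElement_eq_one_iff_mul_comm, ← map_commutatorElement, ← MonoidHom.mem_ker,
      QuotientGroup.ker_mk']
    refine hCQ' ⟨?_, ?_⟩
    · rw [commutatorElement_def, mul_assoc, mul_assoc]
      exact C.mul_mem hc (by rw [← mul_assoc]; exact (inferInstance : C.Normal).conj_mem _ (inv_mem hc) q)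
    · rw [commutatorElement_def]
      exact Q.mul_mem ((mem_normalizer_iff.mp (hCQ hc) q).mp hq) (Q.inv_mem hq)
  have hWM : W ≤ M := hW.minimal M hQM (by rw [normalizer_eq_top]; exact le_top)
  rw [commutator_le]
  intro c hc x hx
  rw [← QuotientGroup.ker_mk' (Cfsg.pCore p H), MonoidHom.mem_ker, map_commutatorElement,
    commutatorElement_eq_one_iff_mul_comm]
  exact mem_centralizer_iff.mp (hWM hx) _ ⟨c, hc, rfl⟩

/-- The main facts about `R = O^p(W)` when the action has quasisimple `O^p`. -/
theorem quasisimple_residual [C.Normal] [W.Normal] (hQ : IsPGroup p Q) (hW : WProp Q ⊤ W)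
    (hCQ : C ≤ normalizer (Q : Set H)) (hQC : ¬ Q ≤ C) (hred : Cfsg.pCore p (H ⧸ C) = ⊥)
    (hqs : Cfsg.IsQuasisimple ↥(Cfsg.pResidual p (H ⧸ C))) :
    Cfsg.pResidual p H ⊔ C = resOf p W ⊔ C ∧ ⁅resOf p W, resOf p W⁆ = resOf p W ∧
      Cfsg.IsQuasisimple (↥(resOf p W) ⧸ C.subgroupOf (resOf p W)) ∧
      Cfsg.IsQuasisimple (↥(resOf p W) ⧸ Cfsg.pCore p ↥(resOf p W)) ∧
      ∀ Y : Subgroup H, IsPGroup p Y → ¬ Y ≤ C → ⁅resOf p W, Y⁆ = resOf p W := by
  classical
  set R := resOf p W with hR
  set f := QuotientGroup.mk' C with hf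
  have hfs : Function.Surjective f := QuotientGroup.mk'_surjective C
  set K := Cfsg.pResidual p (H ⧸ C) with hK
  haveI : K.Normal := by
    haveI := Fusion.pResidual_characteristic (p := p) (G := H ⧸ C)
    exact normal_of_characteristic _
  have hKres : (Cfsg.pResidual p H).map f = K := Fusion.map_pResidual_of_surjective f hfs
  have hne : ∀ Y : Subgroup H, ¬ Y ≤ C → Y.map f ≠ ⊥ := fun Y hY h => hY (by
    rwa [Subgroup.map_eq_bot_iff, hf, QuotientGroup.ker_mk'] at h)
  have hdvd : p ∣ Nat.card (H ⧸ C) := by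
    obtain ⟨n, hn⟩ := IsPGroup.iff_card.mp (hQ.map f)
    rcases n with _ | n
    · rw [pow_zero] at hn
      exact absurd (card_eq_one.mp hn) (hne Q hQC)
    · exact (hn ▸ dvd_pow_self p n.succ_ne_zero).trans (card_subgroup_dvd_card _)
  obtain ⟨-, hY, -, -⟩ := Cfsg.Agent.S2815.result hdvd hred hqs
  have hRH : R ≤ Cfsg.pResidual p H := by rw [← resOf_top p]; exact resOf_mono p le_top
  haveI : (R.map f).Normal := Normal.map inferInstance f hfs
  have hRK : R.map f = K := by
    refine le_antisymm ((map_mono hRH).trans hKres.le) (pResidual_le_of_le_sup (hQ.map f) ?_)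
    rw [← Subgroup.map_sup, hW.eq_sup]
    refine (hY _ (hQ.map f) (hne Q hQC)).2.trans (iSup_le fun k => ?_)
    haveI : (W.map f).Normal := Normal.map inferInstance f hfs
    rintro _ ⟨q, hq, rfl⟩
    exact (inferInstance : (W.map f).Normal).conj_mem _ (map_mono hW.le hq) _
  have hCW := commutator_weakClosure_le hQ hW hCQ
  have key : ∀ M T : Subgroup H, M ≤ R → T ≤ W → R ≤ normalizer (M : Set H) → T ≤ normalizer (M : Set H) →
      ⁅M, T⁆ ≤ M → R.map f ≤ M.map f → R ≤ ⁅R, T⁆ → R ≤ M := by
    intro M T hMR hTW hRM hTM hMT hmap hRT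
    set D := Cfsg.pCore p H ⊓ R with hD
    set N := M ⊔ D with hN
    have hnormN : ∀ A : Subgroup H, A ≤ normalizer (M : Set H) → A ≤ normalizer (N : Set H) := fun A hA =>
      le_trans (le_inf hA (by rw [normalizer_eq_top (H := D)]; exact le_top))
        (normalizer_inf_normalizer_le_normalizer_sup M D)
    have hdec : R ≤ M ⊔ C ⊓ R := by
      intro r hr
      obtain ⟨m, hm, hmr⟩ := hmap (mem_map_of_mem f hr)
      have hc : m⁻¹ * r ∈ C := QuotientGroup.eq.mp hmr
      have := mul_mem (mem_sup_left (T := C ⊓ R) hm) (mem_sup_right (S := M) (show m⁻¹ * r ∈ C ⊓ R from ⟨hc, R.mul_mem (R.inv_mem (hMR hm)) hr⟩))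
      simpa using this
    have hle : R ≤ N := by
      refine hRT.trans ((commutator_mono hdec le_rfl).trans ?_)
      refine commutator_sup_le (hnormN _ le_normalizer) (hnormN _ (inf_le_right.trans hRM)) (hnormN _ hTM)
        (hMT.trans le_sup_left) (le_trans (le_inf ?_ ?_) le_sup_right)
      · exact (commutator_mono inf_le_left hTW).trans hCW
      · exact (commutator_mono inf_le_right le_rfl).trans (commutator_le_left _ _)
    rw [hR, resOf_le_iff]
    exact fun g hg hc => mem_of_coprime_of_mem_sup' (inf_le_right.trans hRM) (Core.pCore_isPGroup.to_le inf_le_left)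
      (hle (mem_resOf hg hc)) hc
  have hRW : R ≤ W := resOf_le _ _
  have hperf : ⁅R, R⁆ = R := by
    refine le_antisymm (commutator_le_left _ _) (key _ Q (commutator_le_left _ _) hW.le ?_ ?_ ?_ ?_
      (hW.commutator_eq hQ).ge)
    · rw [normalizer_eq_top]; exact le_top
    · rw [normalizer_eq_top]; exact le_top
    · exact commutator_le_left _ _
    · rw [map_commutator, hRK, Layer.qs_subgroup_perfect hqs]
  have hactY : ∀ Y : Subgroup H, IsPGroup p Y → ¬ Y ≤ C → ⁅R, Y⁆ = R := by
    intro Y hYp hYC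
    have hnR : R ≤ normalizer ((⁅R, Y⁆ : Subgroup H) : Set H) := normalizer_commutator_ge_left _ _
    refine le_antisymm (commutator_le_left _ _) (key _ R (commutator_le_left _ _) hRW hnR hnR ?_ ?_ hperf.ge)
    · rw [commutator_comm]
      exact commutator_le.mpr fun r hr n hn => by
        rw [commutatorElement_def]
        exact mul_mem ((mem_normalizer_iff.mp (hnR hr) n).mp hn) (inv_mem hn)
    · rw [map_commutator, hRK]
      exact (hY _ (hYp.map f) (hne Y hYC)).1.ge
  -- the quotient by `C`
  set g : R →* K := ((f.comp R.subtype).codRestrict K fun r => hRK.le (mem_map_of_mem f r.2)) with hg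
  have hgs : Function.Surjective g := by
    rintro ⟨k, hk⟩
    obtain ⟨r, hr, hrk⟩ := hRK.ge hk
    exact ⟨⟨r, hr⟩, Subtype.ext hrk⟩
  have hgker : g.ker = C.subgroupOf R := by
    rw [hg, MonoidHom.ker_codRestrict, ← MonoidHom.comap_ker, hf, QuotientGroup.ker_mk']
    rfl
  have hq1 : Cfsg.IsQuasisimple (↥R ⧸ C.subgroupOf R) :=
    Layer.isQuasisimple_congr (((QuotientGroup.quotientMulEquivOfEq hgker.symm).trans
      (QuotientGroup.quotientKerEquivOfSurjective g hgs)).symm) hqs
  refine ⟨?_, hperf, hq1, ?_, hactY⟩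
  · have h := congrArg (Subgroup.comap f) (hKres.trans hRK.symm)
    simpa [Subgroup.comap_map_eq, hf] using h
  -- the quotient by the core
  · have hOC : Cfsg.pCore p ↥R ≤ C.subgroupOf R := by
      intro r hr
      have h1 : (r : H) ∈ (Cfsg.pCore p R).map R.subtype := mem_map_of_mem _ hr
      rw [pCoreOf_subnormal_eq (Subgroup.Normal.isSubnormal inferInstance)] at h1
      have h2 : (Cfsg.pCore p H).map f ≤ Cfsg.pCore p (H ⧸ C) := Core.le_pCore
        (hN := Normal.map inferInstance f hfs) (Core.pCore_isPGroup.map f)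
      have := h2 (mem_map_of_mem f h1.2)
      rw [hred, mem_bot, ← MonoidHom.mem_ker, hf, QuotientGroup.ker_mk'] at this
      exact this
    set π := QuotientGroup.mk' (Cfsg.pCore p ↥R) with hπ
    set h := QuotientGroup.lift (Cfsg.pCore p ↥R) g (hgker ▸ hOC) with hh
    have hhs : Function.Surjective h := fun k => by
      obtain ⟨r, hr⟩ := hgs k
      exact ⟨π r, hr⟩
    have hcen : h.ker ≤ center (↥R ⧸ Cfsg.pCore p ↥R) := by
      intro x hx
      obtain ⟨c, rfl⟩ := QuotientGroup.mk'_surjective _ x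
      have hc : c ∈ C.subgroupOf R := by rw [← hgker]; exact hx
      rw [mem_center_iff]
      intro y
      obtain ⟨r, rfl⟩ := QuotientGroup.mk'_surjective _ y
      refine (commutatorElement_eq_one_iff_mul_comm.mp ?_).symm
      rw [← map_commutatorElement, ← MonoidHom.mem_ker, QuotientGroup.ker_mk']
      refine Core.le_pCore (N := (Cfsg.pCore p H).subgroupOf R) (hN := normal_subgroupOf)
        (Core.pCore_isPGroup.comap_of_injective R.subtype R.subtype_injective) ?_
      exact hCW (commutator_mem_commutator hc (hRW r.2))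
    haveI : Nontrivial K := Layer.qs_nontrivial hqs
    haveI : Nontrivial (↥R ⧸ Cfsg.pCore p ↥R) := hhs.nontrivial
    haveI hRperf : Group.IsPerfect R := Subgroup.isPerfect_iff.mpr hperf
    have hXperf : Group.IsPerfect (↥R ⧸ Cfsg.pCore p ↥R) :=
      Group.IsPerfect.ofSurjective (QuotientGroup.mk'_surjective _)
    refine Layer.isQuasisimple_of_normal_cases hXperf fun N hN => ?_
    rcases Layer.qs_normal_cases hqs (hN.map h hhs) with ht | hc
    · left
      have hsup : N ⊔ h.ker = ⊤ := by
        rw [← Subgroup.comap_map_eq, ht, Subgroup.comap_top]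
      haveI : IsMulCommutative h.ker := ⟨⟨fun a b => Subtype.ext ((mem_center_iff.mp (hcen a.2) b).symm)⟩⟩
      have := hN.commutator_le_of_self_sup_commutative_eq_top hsup inferInstance
      rw [hXperf.commutator_eq_top] at this
      exact top_le_iff.mp this
    · right
      have hNc : ⁅N, (⊤ : Subgroup (↥R ⧸ Cfsg.pCore p ↥R))⁆ ≤ h.ker := by
        rw [commutator_le]
        intro n hn y _
        rw [MonoidHom.mem_ker, map_commutatorElement, commutatorElement_eq_one_iff_mul_comm]
        exact (mem_center_iff.mp (hc (mem_map_of_mem h hn)) (h y)).symm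
      have h0 : ⁅h.ker, (⊤ : Subgroup (↥R ⧸ Cfsg.pCore p ↥R))⁆ = ⊥ :=
        commutator_eq_bot_iff_le_centralizer.mpr (hcen.trans (by rw [coe_top, centralizer_univ]))
      have h1 : ⁅⁅(⊤ : Subgroup (↥R ⧸ Cfsg.pCore p ↥R)), (⊤ : Subgroup (↥R ⧸ Cfsg.pCore p ↥R))⁆, N⁆ = ⊥ := by
        refine commutator_commutator_eq_bot_of_rotate ?_ ?_
        · rw [commutator_comm ⊤ N]
          exact le_bot_iff.mp ((commutator_mono hNc le_rfl).trans h0.le)
        · exact le_bot_iff.mp ((commutator_mono hNc le_rfl).trans h0.le)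
      rw [← _root_.commutator_def, hXperf.commutator_eq_top, commutator_comm,
        commutator_eq_bot_iff_le_centralizer, coe_top, centralizer_univ] at h1
      exact h1

end Cfsg.Agent.LocalStructure
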