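import Mathlib
import Cfsg.Agent.LocalStructure.PReduced
import Cfsg.Agent.LocalStructure.CharP
import Cfsg.Agent.LocalStructure.ThreeSubgroup
import Cfsg.Agent.LocalStructure.WeaklyClosed

/-!
# `Y_L` for subnormal subgroups
-/

set_option autoImplicit false
set_option linter.all false

namespace Cfsg.Agent.LocalStructure

open Subgroup
open scoped commutatorElement

variable {G : Type*} [Group G] [Finite G] {p : ℕ} [hp : Fact p.Prime]

theorem ReducedIn.le_centralizer_of_subnormal {L V : Subgroup G} (hV : ReducedIn p L V)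
    {K : Subgroup G} (hKL : K ≤ L) (hK : (K.subgroupOf L).IsSubnormal)
    (h : ∀ g ∈ K, (orderOf g).Coprime p → g ∈ centralizer (V : Set G)) :
    K ≤ centralizer (V : Set G) := by
  intro k hk
  have := LocalStructure.le_centralizer_of_subnormal ((reducedIn_iff hV.le).mp hV) hK
    (fun g hg hgc => (mem_centralizer_subgroupOf hV.le).mpr
      (h g hg (by rwa [Subgroup.orderOf_coe]))) (show (⟨k, hKL hk⟩ : L) ∈ K.subgroupOf L from hk)
  exact (mem_centralizer_subgroupOf hV.le).mp this

theorem le_normalizer_largestOf {L A : Subgroup G} (hA : A ≤ normalizer (L : Set G)) :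
    A ≤ normalizer ((Cfsg.largestPReducedOf p L : Subgroup G) : Set G) := by
  intro t ht
  set Y := Cfsg.largestPReducedOf p L with hY
  have hY' := reducedIn_largest (p := p) L
  have hL : cmap t L = L := cmap_eq_iff.mpr (hA ht)
  have key : ReducedIn p L (cmap t Y) := by
    refine ⟨(cmap_mono hY'.le).trans hL.le, ?_, Thompson.ea_map hY'.ea _, fun K hKL hLK hg => ?_⟩
    · rw [normalizer_cmap]
      exact hL.ge.trans (cmap_mono hY'.le_normalizer)
    · have hK' : L ≤ normalizer ((cmap t⁻¹ K : Subgroup G) : Set G) := by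
        rw [normalizer_cmap]
        conv_lhs => rw [← cmap_inv_cmap t L, hL]
        exact cmap_mono hLK
      have h1 : cmap t⁻¹ K ≤ centralizer (Y : Set G) := by
        refine hY'.reduced _ ((cmap_mono hKL).trans ?_) hK' ?_
        · exact (cmap_eq_iff.mpr (inv_mem (hA ht))).le
        · intro g hg' hgc
          rw [mem_cmap] at hg'
          have h2 := hg _ hg' (by
            rwa [show t⁻¹⁻¹ * g * t⁻¹ = t * g * t⁻¹ by group, orderOf_conj])
          rw [centralizer_cmap, mem_cmap] at h2
          simpa [mul_assoc] using h2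
      rw [centralizer_cmap]
      calc K = cmap t (cmap t⁻¹ K) := (cmap_cmap_inv t K).symm
        _ ≤ _ := cmap_mono h1
  exact Layer.mem_normalizer_of_conj_mem fun x hx =>
    le_largestOf key (show t * x * t⁻¹ ∈ cmap t Y from ⟨x, hx, rfl⟩)

/-- `Y_G ∩ L` for subnormal `L`. -/
theorem reducedIn_inf_of_subnormal {L : Subgroup G} (hL : L.IsSubnormal) :
    ReducedIn p L (Cfsg.largestPReduced p G ⊓ L) ∧
      L ⊓ centralizer ((Cfsg.largestPReduced p G ⊓ L : Subgroup G) : Set G) ≤
        centralizer (Cfsg.largestPReduced p G : Set G) := by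
  set Y := Cfsg.largestPReduced p G with hY
  have hY' : Cfsg.IsPReducedNormal p Y := pReduced_largest
  have hYp : IsPGroup p Y := Thompson.ea_isPGroup hY'.2.1
  haveI := hY'.1
  have hLY : L ≤ normalizer ((Y ⊓ L : Subgroup G) : Set G) :=
    Coprime.le_normalizer_inf Subgroup.le_normalizer_of_normal Subgroup.le_normalizer
  have hW : ⁅Y, resOf p L⁆ ≤ Y ⊓ L := le_inf (Subgroup.commutator_le_left Y _)
    ((commutator_resOf_le hY'.1.isSubnormal hYp hL).trans (resOf_le p L))
  have key : ∀ N : Subgroup G, N ≤ L → L ≤ normalizer (N : Set G) →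
      (∀ g ∈ N, (orderOf g).Coprime p → g ∈ centralizer ((Y ⊓ L : Subgroup G) : Set G)) →
      N ≤ centralizer (Y : Set G) := by
    intro N hNL hLN hg
    refine le_centralizer_of_subnormal hY' (IsSubnormal.trans hNL
      (Subgroup.Normal.isSubnormal (normal_subgroupOf_of_le_normalizer hLN)) hL) fun g hgN hgc => ?_
    refine commute_of_double_commutator hYp (by rw [normalizer_eq_top]; exact mem_top g) hgc fun v hv => ?_
    have h1 : ⁅v, g⁆ ∈ Y ⊓ L := hW (commutator_mem_commutator hv (mem_resOf (hNL hgN) hgc))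
    rw [← commutatorElement_inv v g]
    exact Commute.inv_right (show Commute g ⁅v, g⁆ from (mem_centralizer_iff.mp (hg g hgN hgc) _ h1).symm)
  refine ⟨⟨inf_le_right, hLY, Thompson.ea_mono hY'.2.1 inf_le_left, fun N hNL hLN hg =>
    (key N hNL hLN hg).trans (centralizer_le (SetLike.coe_subset_coe.mpr inf_le_left))⟩, ?_⟩
  exact key _ inf_le_left (Coprime.le_normalizer_inf Subgroup.le_normalizer
    (Coprime.le_normalizer_centralizer hLY)) fun g hg _ => hg.2

theorem centralizer_largestOf_step {L L1 : Subgroup G} (hLL1 : L ≤ L1)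
    (hL1 : L1 ≤ normalizer (L : Set G)) :
    L ⊓ centralizer (Cfsg.largestPReducedOf p L1 : Set G) ≤
      centralizer (Cfsg.largestPReducedOf p L : Set G) := by
  suffices h : ∀ V : Subgroup G, Cfsg.IsElementaryAbelian p V → V ≤ L1 → L1 ≤ normalizer (V : Set G) →
      (∀ N : Subgroup G, N ≤ L → L ≤ normalizer (N : Set G) →
        (∀ g ∈ N, (orderOf g).Coprime p → g ∈ centralizer (V : Set G)) → N ≤ centralizer (V : Set G)) →
      L ⊓ centralizer (Cfsg.largestPReducedOf p L1 : Set G) ≤ centralizer (V : Set G) from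
    have hV := reducedIn_largest (p := p) L
    h _ hV.ea (hV.le.trans hLL1) (le_normalizer_largestOf hL1) hV.reduced
  intro V
  induction V using WellFoundedLT.induction with
  | _ V ih =>
  intro hea hVL hLV hred
  by_cases hR : ReducedIn p L1 V
  · exact inf_le_right.trans (centralizer_le (SetLike.coe_subset_coe.mpr (le_largestOf hR)))
  obtain ⟨K, hKL, hLK, hKg, hKn⟩ : ∃ K : Subgroup G, K ≤ L1 ∧ L1 ≤ normalizer (K : Set G) ∧
      (∀ g ∈ K, (orderOf g).Coprime p → g ∈ centralizer (V : Set G)) ∧
      ¬ K ≤ centralizer (V : Set G) := by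
    by_contra hne
    push Not at hne
    exact hR ⟨hVL, hLV, hea, hne⟩
  set V1 : Subgroup G := V ⊓ centralizer (K : Set G) with hV1
  have hlt : V1 < V := lt_of_le_of_ne inf_le_left fun e =>
    hKn (le_centralizer_iff.mp (e.ge.trans inf_le_right))
  have hLV1 : L1 ≤ normalizer (V1 : Set G) :=
    Coprime.le_normalizer_inf hLV (Coprime.le_normalizer_centralizer hLK)
  have hVp : IsPGroup p V := Thompson.ea_isPGroup hea
  haveI := hea.1
  have hKLC : K ⊓ L ≤ centralizer (V : Set G) :=
    hred _ inf_le_right (Coprime.le_normalizer_inf (hLL1.trans hLK) Subgroup.le_normalizer)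
      fun g hg hgc => hKg g hg.1 hgc
  have hKn' : L1 ≤ normalizer ((centralizer (V : Set G) : Subgroup G) : Set G) :=
    Coprime.le_normalizer_centralizer hLV
  have main : ∀ g ∈ L, (orderOf g).Coprime p → g ∈ centralizer (V1 : Set G) →
      g ∈ centralizer (V : Set G) := by
    intro g hgL hgc hg1
    set A : Subgroup G := zpowers g with hA
    have hAV : A ≤ normalizer (V : Set G) := zpowers_le.mpr (hLV (hLL1 hgL))
    obtain ⟨n, hn⟩ := IsPGroup.iff_card.mp hVp
    have hcop : (Nat.card A).Coprime (Nat.card V) := by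
      rw [hA, Nat.card_zpowers, hn]; exact hgc.pow_right n
    obtain ⟨hbot, hsup⟩ := Coprime.abelian_decomposition hAV hcop
    set X : Subgroup G := ⁅V, A⁆ with hX
    have hXV : X ≤ V := Coprime.commutator_le_of_le_normalizer hAV
    have hKX : K ≤ normalizer (X : Set G) := by
      intro k hk
      refine Layer.mem_normalizer_of_conj_mem fun x hx => ?_
      suffices X ≤ X.comap (MulAut.conj k).toMonoidHom from this hx
      rw [hX, commutator_le]
      intro v hv a ha
      show k * ⁅v, a⁆ * k⁻¹ ∈ X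
      have haL : a ∈ L := zpowers_le.mpr hgL ha
      have hc : ⁅k, a⁆ ∈ centralizer (V : Set G) := by
        refine hKLC ⟨?_, ?_⟩
        · rw [show ⁅k, a⁆ = k * (a * k⁻¹ * a⁻¹) by simp only [commutatorElement_def]; group]
          exact K.mul_mem hk ((mem_normalizer_iff.mp (hLK (hLL1 haL)) _).mp (K.inv_mem hk))
        · rw [show ⁅k, a⁆ = k * a * k⁻¹ * a⁻¹ from rfl]
          exact L.mul_mem ((mem_normalizer_iff.mp (hL1 (hKL hk)) a).mp haL) (L.inv_mem haL)
      have hv' : k * v * k⁻¹ ∈ V := (mem_normalizer_iff.mp (hLV (hKL hk)) v).mp hv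
      have hy : a * (k * v * k⁻¹)⁻¹ * a⁻¹ ∈ V :=
        (mem_normalizer_iff.mp (hAV ha) _).mp (V.inv_mem hv')
      have hcy := mem_centralizer_iff.mp hc _ hy
      have e : k * ⁅v, a⁆ * k⁻¹ = ⁅k * v * k⁻¹, a⁆ := by
        calc k * ⁅v, a⁆ * k⁻¹ = (k * v * k⁻¹) * (⁅k, a⁆ * (a * (k * v * k⁻¹)⁻¹ * a⁻¹)) * ⁅k, a⁆⁻¹ := by
              simp only [commutatorElement_def]; group
          _ = (k * v * k⁻¹) * ((a * (k * v * k⁻¹)⁻¹ * a⁻¹) * ⁅k, a⁆) * ⁅k, a⁆⁻¹ := by rw [hcy]
          _ = ⁅k * v * k⁻¹, a⁆ := by simp only [commutatorElement_def]; group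
      rw [e]
      exact commutator_mem_commutator hv' ha
    obtain ⟨S⟩ := (inferInstance : Nonempty (Sylow p ↥K))
    have hXbot : X = ⊥ := by
      by_contra hne
      refine inf_centralizer_ne_bot (S.2.map K.subtype) (hVp.to_le hXV)
        ((map_subtype_le _).trans hKX) hne (eq_bot_iff.mpr ?_)
      rintro x ⟨hxX, hxS⟩
      have hxK : x ∈ centralizer (K : Set G) := by
        have hcov : K ≤ resOf p K ⊔ (S : Subgroup K).map K.subtype :=
          le_resOf_sup (map_subtype_le _) (S.2.map _) (by
            rw [relIndex, subgroupOf, comap_map_eq_self_of_injective K.subtype_injective]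
            exact S.not_dvd_index)
        refine centralizer_le (SetLike.coe_subset_coe.mpr hcov) ?_
        rw [centralizer_sup_eq]
        exact ⟨le_centralizer_iff.mp (resOf_le_iff.mpr hKg) (hXV hxX), hxS⟩
      have hxA : x ∈ centralizer (A : Set G) := by
        refine le_centralizer_iff.mp (zpowers_le.mpr hg1) ⟨hXV hxX, hxK⟩
      exact hbot.le ⟨⟨hXV hxX, hxA⟩, hxX⟩
    rw [hXbot, sup_bot_eq] at hsup
    exact le_centralizer_iff.mp (hsup.ge.trans inf_le_right) (mem_zpowers g)
  refine le_trans ?_ (hred (L ⊓ centralizer (V1 : Set G)) inf_le_left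
    (Coprime.le_normalizer_inf Subgroup.le_normalizer
      (Coprime.le_normalizer_centralizer (hLL1.trans hLV1)))
    fun g hg hgc => main g hg.1 hgc hg.2)
  refine le_inf inf_le_left (ih V1 hlt (Thompson.ea_mono hea inf_le_left) (inf_le_left.trans hVL) hLV1 ?_)
  intro N hNL hLN hg
  exact (hred N hNL hLN fun g hgN hgc => main g (hNL hgN) hgc (hg g hgN hgc)).trans
    (centralizer_le (SetLike.coe_subset_coe.mpr inf_le_left))

theorem largestOf_top : Cfsg.largestPReducedOf p (⊤ : Subgroup G) = Cfsg.largestPReduced p G := by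
  refine le_antisymm (le_largest (reducedIn_top_iff.mp (reducedIn_largest ⊤))) ?_
  exact le_largestOf (reducedIn_top_iff.mpr pReduced_largest)

theorem centralizer_largest_le {L : Subgroup G} (hL : L.IsSubnormal) :
    L ⊓ centralizer (Cfsg.largestPReduced p G : Set G) ≤
      centralizer (Cfsg.largestPReducedOf p L : Set G) := by
  induction hL with
  | top => rw [largestOf_top]; exact inf_le_right
  | step A B hle _ hN ih =>
    exact le_trans (le_inf inf_le_left ((inf_le_inf_right _ hle).trans ih))
      (centralizer_largestOf_step hle ((normal_subgroupOf_iff_le_normalizer hle).mp hN))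

end Cfsg.Agent.LocalStructure
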