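import Cfsg.Agent.LocalStructure.SL2QuadModule

/-!
A module in characteristic 2 for SL(2, 2^n) on which elements of order 3 act without fixed points is a
direct sum of natural modules.
-/

set_option autoImplicit false
set_option linter.all false

namespace Cfsg.Agent.LocalStructure.SL2FPFThree

open Matrix Cfsg.Agent.Chev Cfsg.Agent.Chev.SL2Data Cfsg.Agent.LocalStructure.SL2QuadModule

variable {F : Type*} [Field F] [CharP F 2]

local notation "SG" => Matrix.SpecialLinearGroup (Fin 2) F

theorem mono_eq (t : F) (ht : t ≠ 0) : (mono t ht : SG) = upper t * lower t⁻¹ * upper t := by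
  apply Subtype.ext; simp only [Matrix.SpecialLinearGroup.coe_mul]; ext i j
  fin_cases i <;> fin_cases j <;> simp [upper, lower, mono, Matrix.mul_apply, ht, CharTwo.neg_eq, CharTwo.add_self_eq_zero]

theorem dil_upper (t s : F) (ht : t ≠ 0) :
    upper (t ^ 2 * s) * (mono t ht * weyl) = (mono t ht * weyl : SG) * upper s := by
  apply Subtype.ext; simp only [Matrix.SpecialLinearGroup.coe_mul]; ext i j
  fin_cases i <;> fin_cases j <;> simp [upper, mono, weyl, Matrix.mul_apply, CharTwo.neg_eq] <;> field_simp <;> ring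

theorem lower_weyl (t : F) : (lower t : SG) * weyl = weyl * upper t := by
  apply Subtype.ext; simp only [Matrix.SpecialLinearGroup.coe_mul]; ext i j
  fin_cases i <;> fin_cases j <;> simp [upper, lower, weyl, Matrix.mul_apply, CharTwo.neg_eq]

theorem weyl_mul_weyl : (weyl : SG) * weyl = 1 := by
  apply Subtype.ext; simp only [Matrix.SpecialLinearGroup.coe_mul]; ext i j
  fin_cases i <;> fin_cases j <;> simp [weyl, Matrix.mul_apply, CharTwo.neg_eq]

theorem mono_mul_mono (t : F) (ht : t ≠ 0) : (mono t ht : SG) * mono t ht = 1 := by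
  apply Subtype.ext; simp only [Matrix.SpecialLinearGroup.coe_mul]; ext i j
  fin_cases i <;> fin_cases j <;> simp [mono, Matrix.mul_apply, CharTwo.neg_eq, ht]

theorem upper_sq (t : F) : (upper t : SG) * upper t = 1 := by
  rw [← upper_add, CharTwo.add_self_eq_zero, upper_zero]

variable [Fintype F] {M : Type*} [AddCommGroup M]

/-- Quadratic action and the splitting into the fixed points of two opposite root groups. -/
theorem quad_and_decomp (ρ : SG →* AddMonoid.End M) (h2 : ∀ m : M, m + m = 0)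
    (hrel : ∀ t : F, t ≠ 0 → ∀ m : M,
      ρ (upper t * lower t⁻¹) m + ρ (lower t⁻¹ * upper t) m + m = 0) :
    (∀ (t s : F) (m : M), ρ (upper t) (ρ (upper s) m - m) = ρ (upper s) m - m) ∧
      ∀ m : M, ∃ a b : M, (∀ t, ρ (upper t) a = a) ∧ (∀ t, ρ (lower t) b = b) ∧ m = a + b := by
  classical
  have hmul : ∀ (g h : SG) (m : M), ρ (g * h) m = ρ g (ρ h m) := fun g h m => by rw [map_mul]; rfl
  have hone : ∀ m : M, ρ 1 m = m := fun m => by rw [map_one]; rfl
  have neg : ∀ m : M, -m = m := fun m => neg_eq_of_add_eq_zero_left (h2 m)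
  have hsub : ∀ a b : M, a - b = a + b := fun a b => by rw [sub_eq_add_neg, neg]
  let N : F → M →+ M := fun t => AddMonoidHom.mk' (fun m => ρ (upper t) m + m) (fun a b => by rw [map_add]; abel)
  let L : F → M →+ M := fun t => AddMonoidHom.mk' (fun m => ρ (lower t) m + m) (fun a b => by rw [map_add]; abel)
  let W : M →+ M := ρ weyl
  have eN : ∀ t m, N t m = ρ (upper t) m + m := fun _ _ => rfl
  have eL : ∀ t m, L t m = ρ (lower t) m + m := fun _ _ => rfl
  have eU : ∀ t m, ρ (upper t) m = m + N t m := fun t m => by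
    rw [eN, add_comm (ρ (upper t) m), ← add_assoc, h2, zero_add]
  have eLo : ∀ t m, ρ (lower t) m = m + L t m := fun t m => by
    rw [eL, add_comm (ρ (lower t) m), ← add_assoc, h2, zero_add]
  have e0 : ∀ m, N 0 m = 0 := fun m => by rw [eN, upper_zero, hone, h2]
  have f4 : ∀ s t m, N (s + t) m = N s m + N t m + N s (N t m) := fun s t m => by
    rw [eN, upper_add, hmul, eU t, map_add, eU s m, eU s (N t m)]
    have := h2 m
    linear_combination (norm := abel) this
  have f1 : ∀ t m, N t (N t m) = 0 := fun t m => by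
    have := f4 t t m
    rw [CharTwo.add_self_eq_zero, e0, h2, zero_add] at this
    exact this.symm
  have f2 : ∀ s t m, N s (N t m) = N t (N s m) := fun s t m => by
    have h1 := f4 s t m
    rw [add_comm s t, f4 t s m, add_comm (N t m) (N s m)] at h1
    exact (add_left_cancel h1).symm
  have f3 : ∀ t, t ≠ 0 → ∀ m, N t (L t⁻¹ m) + L t⁻¹ (N t m) = m := by
    intro t ht m
    have h := hrel t ht m
    rw [hmul, hmul, eLo, eU t m, eU, eLo, map_add, map_add] at h
    have k1 := h2 (L t⁻¹ m); have k2 := h2 (N t m); have k3 := h2 m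
    rw [← sub_eq_zero, hsub]
    linear_combination (norm := abel) h - k1 - k2 - k3
  have hW : ∀ (t : F) (ht : t ≠ 0) m, ρ (mono t ht) m = N t m + L t⁻¹ m := by
    intro t ht m
    rw [mono_eq, hmul, hmul, eU t m, eLo, eU]
    simp only [map_add]
    have k1 : N t (L t⁻¹ (N t m)) = N t m := by
      conv_rhs => rw [← f3 t ht m, map_add, f1, zero_add]
    rw [k1, f1]
    have k2 := f3 t ht m; have k3 := h2 (N t m); have k4 := h2 m
    linear_combination (norm := abel) k2 + k3 + k4
  have hW1 : ∀ m, W m = N 1 m + L 1 m := fun m => by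
    show ρ weyl m = _
    rw [weyl_eq_mono, hW, inv_one]
  have hWW : ∀ m, W (W m) = m := fun m => by
    show ρ weyl (ρ weyl m) = m
    rw [← hmul, weyl_mul_weyl, hone]
  have f5 : ∀ t m, L t m = W (N t (W m)) := fun t m => by
    show _ = ρ weyl (N t (ρ weyl m))
    rw [eN, map_add, ← hmul, ← hmul, ← lower_weyl, hmul, show ρ weyl (ρ weyl m) = m from hWW m,
      ← hmul, mul_assoc, weyl_mul_weyl, mul_one, eL]
  have f7 : ∀ m, N 1 (L 1 m) + L 1 (N 1 m) = m := fun m => by simpa using f3 1 one_ne_zero m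
  -- on the kernel of N 1
  have hI : ∀ a, N 1 a = 0 → N 1 (L 1 a) = a ∧ W a = L 1 a ∧ W (L 1 a) = a := fun a ha => by
    have h1 := f7 a
    rw [ha, map_zero, add_zero] at h1
    have h2' : W a = L 1 a := by rw [hW1, ha, zero_add]
    exact ⟨h1, h2', by rw [← h2', hWW]⟩
  have huniq : ∀ a b, N 1 a = 0 → N 1 b = 0 → a + L 1 b = 0 → a = 0 ∧ b = 0 := fun a b ha hb h => by
    have h1 := congrArg (N 1) h
    rw [map_add, ha, (hI b hb).1, zero_add, map_zero] at h1
    rw [h1, map_zero, add_zero] at h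
    exact ⟨h, h1⟩
  let R : F → M → M := fun t a => N 1 (L 1 (N t (L 1 a)))
  have hR : ∀ t a, N 1 (R t a) = 0 := fun t a => f1 1 _
  have hP : ∀ t a, N 1 a = 0 → N 1 (N t a) = 0 := fun t a ha => by rw [f2, ha, map_zero]
  have g1 : ∀ t a, N 1 a = 0 → N t (L 1 a) = R t a + L 1 (N t a) := fun t a ha => by
    conv_lhs => rw [← f7 (N t (L 1 a))]
    rw [f2 1 t, (hI a ha).1]
  have g2 : ∀ s a, N 1 a = 0 → L s a = L 1 (R s a) + N s a := fun s a ha => by
    rw [f5, (hI a ha).2.1, g1 s a ha, map_add, (hI _ (hR s a)).2.1, (hI _ (hP s a ha)).2.2]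
  have g2' : ∀ s a, N 1 a = 0 → L s (L 1 a) = L 1 (N s a) := fun s a ha => by
    rw [f5, (hI a ha).2.2, (hI _ (hP s a ha)).2.1]
  have g3 : ∀ (t : F) (ht : t ≠ 0) a, N 1 a = 0 →
      ρ (mono t ht) a = (N t a + N t⁻¹ a) + L 1 (R t⁻¹ a) ∧
      ρ (mono t ht) (L 1 a) = R t a + L 1 (N t a + N t⁻¹ a) := fun t ht a ha => by
    rw [hW, hW, g2 _ a ha, g2' _ a ha, g1 t a ha, map_add]
    constructor <;> abel
  have g4 : ∀ (t : F), t ≠ 0 → ∀ a, N 1 a = 0 → R t (R t⁻¹ a) = a ∧
      R t⁻¹ (N t a + N t⁻¹ a) = N t (R t⁻¹ a) + N t⁻¹ (R t⁻¹ a) := by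
    intro t ht a ha
    have hE : ∀ x, N 1 x = 0 → N 1 (N t x + N t⁻¹ x) = 0 := fun x hx => by
      rw [map_add, hP t x hx, hP t⁻¹ x hx, add_zero]
    have hEE : N t (N t a + N t⁻¹ a) + N t⁻¹ (N t a + N t⁻¹ a) = 0 := by
      rw [map_add, map_add, f1, f1, zero_add, add_zero, f2 t⁻¹ t, h2]
    have h := hone a
    rw [← mono_mul_mono t ht, hmul, (g3 t ht a ha).1, map_add, (g3 t ht _ (hE a ha)).1,
      (g3 t ht _ (hR _ a)).2, hEE, zero_add] at h
    have h' : (R t (R t⁻¹ a) + a) + L 1 (R t⁻¹ (N t a + N t⁻¹ a) + (N t (R t⁻¹ a) + N t⁻¹ (R t⁻¹ a))) = 0 := by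
      rw [map_add]
      have := h2 a
      linear_combination (norm := abel) h + this
    obtain ⟨h1, h3⟩ := huniq _ _ (by rw [map_add, hR, ha, add_zero])
      (by rw [map_add, hR, hE _ (hR _ a), add_zero]) h'
    exact ⟨sub_eq_zero.1 (by rw [hsub]; exact h1), sub_eq_zero.1 (by rw [hsub]; exact h3)⟩
  have g5 : ∀ (t : F), t ≠ 0 → ∀ a, N 1 a = 0 →
      R (t ^ 2) a = R t (R t a) ∧ N (t ^ 2) a = N t (R t a) + N t⁻¹ (R t a) := by
    intro t ht a ha
    have hDN : ∀ m, N (t ^ 2) (ρ (mono t ht) (W m)) = ρ (mono t ht) (W (N 1 m)) := fun m => by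
      show N (t ^ 2) (ρ (mono t ht) (ρ weyl m)) = ρ (mono t ht) (ρ weyl (N 1 m))
      rw [eN, eN, map_add, map_add, ← hmul (mono t ht) weyl, ← hmul, ← hmul (mono t ht) weyl, ← hmul]
      have := dil_upper t 1 ht
      rw [mul_one] at this
      rw [this]
    have hE : ∀ x, N 1 x = 0 → N 1 (N t x + N t⁻¹ x) = 0 := fun x hx => by
      rw [map_add, hP t x hx, hP t⁻¹ x hx, add_zero]
    have k1 : ∀ x, N 1 x = 0 → N (t ^ 2) (R t x + L 1 (N t x + N t⁻¹ x)) = 0 := fun x hx => by
      have := hDN x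
      rw [hx, map_zero, map_zero, (hI x hx).2.1, (g3 t ht x hx).2] at this
      exact this
    have k2 : ∀ x, N 1 x = 0 → N (t ^ 2) (N t x + N t⁻¹ x) = 0 := fun x hx => by
      have := k1 x hx
      rw [map_add, g1 _ _ (hE x hx), ← add_assoc] at this
      exact (huniq _ _ (by rw [map_add, hP _ _ (hR t x), hR, add_zero]) (hP _ _ (hE x hx)) this).2
    have k3 : ∀ x, N 1 x = 0 → R t x = R (t ^ 2) (R t⁻¹ x) ∧ N t x + N t⁻¹ x = N (t ^ 2) (R t⁻¹ x) := fun x hx => by
      have := hDN (L 1 x)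
      rw [(hI x hx).1, (hI x hx).2.2, (hI x hx).2.1, (g3 t ht x hx).1, (g3 t ht x hx).2, map_add,
        g1 _ _ (hR _ x), k2 x hx, zero_add] at this
      have h' : (R t x + R (t ^ 2) (R t⁻¹ x)) + L 1 ((N t x + N t⁻¹ x) + N (t ^ 2) (R t⁻¹ x)) = 0 := by
        have e1 := h2 (R t x + L 1 (N t x + N t⁻¹ x))
        rw [map_add (L 1) (N t x + N t⁻¹ x)]
        nth_rewrite 2 [← this] at e1
        linear_combination (norm := abel) e1
      obtain ⟨h1, h3⟩ := huniq _ _ (by rw [map_add, hR, hR, add_zero])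
        (by rw [map_add, hE x hx, hP _ _ (hR _ x), add_zero]) h'
      exact ⟨sub_eq_zero.1 (by rw [hsub]; exact h1), sub_eq_zero.1 (by rw [hsub]; exact h3)⟩
    obtain ⟨k4, k5⟩ := k3 (R t a) (hR t a)
    have e : R t⁻¹ (R t a) = a := by simpa using (g4 t⁻¹ (inv_ne_zero ht) a ha).1
    rw [e] at k4 k5
    exact ⟨k4.symm, k5.symm⟩
  have g6 : ∀ (t : F), t ≠ 0 → ∀ a, N 1 a = 0 → R t (N t⁻¹ a) = N t a := by
    intro u hu a ha
    obtain ⟨t, rfl⟩ : ∃ t, u = t ^ 2 := by
      obtain ⟨t, ht⟩ := FiniteField.isSquare_of_char_two (F := F) (ringChar.eq F 2) u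
      exact ⟨t, by rw [ht, pow_two]⟩
    have ht : t ≠ 0 := fun h => hu (by rw [h, zero_pow two_ne_zero])
    rw [← inv_pow, (g5 t⁻¹ (inv_ne_zero ht) a ha).2, inv_inv, (g5 t ht _ (by rw [map_add, hP _ _ (hR _ a), hP _ _ (hR _ a), add_zero])).1,
      (g5 t ht a ha).2]
    have hE : N 1 (N t a + N t⁻¹ a) = 0 := by rw [map_add, hP t a ha, hP t⁻¹ a ha, add_zero]
    have e1 : N t⁻¹ (R t⁻¹ a) + N t (R t⁻¹ a) = R t⁻¹ (N t a + N t⁻¹ a) := by rw [(g4 t ht a ha).2, add_comm]
    rw [e1, (g4 t ht _ hE).1]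
    have e2 := (g4 t⁻¹ (inv_ne_zero ht) a ha).2
    rw [inv_inv, add_comm (N t⁻¹ a) (N t a)] at e2
    rw [e2, add_comm]
  have hzero : ∀ t a, N 1 a = 0 → N t a = 0 := by
    intro t a ha
    by_cases ht : t = 0
    · rw [ht, e0]
    by_cases ht1 : t + 1 = 0
    · rw [show t = 1 from CharTwo.add_eq_zero.1 ht1, ha]
    have key : ∀ (v : F), v ≠ 0 → ∀ x, N 1 x = 0 → N (v ^ 2) x = R v (N v x) + N v x := fun v hv x hx => by
      rw [(g5 v hv x hx).2]
      have e2 := (g4 v⁻¹ (inv_ne_zero hv) x hx).2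
      rw [inv_inv] at e2
      rw [add_comm (N v (R v x)), ← e2]
      have hlin : R v (N v⁻¹ x + N v x) = R v (N v⁻¹ x) + R v (N v x) := by simp only [R, map_add]
      rw [hlin, g6 v hv x hx, add_comm]
    have hu : ∀ x, N 1 x = 0 → N (t + 1) x = N t x := fun x hx => by rw [f4, hx, map_zero, add_zero, add_zero]
    have hRu : ∀ x, N 1 x = 0 → R (t + 1) x = R t x + x + N t x := fun x hx => by
      show N 1 (L 1 (N (t + 1) (L 1 x))) = _
      rw [f4, (hI x hx).1, map_add, map_add, map_add, map_add, (hI x hx).1, (hI _ (hP t x hx)).1]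
    have h1 := key t ht a ha
    have h3 := key (t + 1) ht1 a ha
    rw [hu a ha, hRu _ (hP t a ha), f1, add_zero, show (t + 1) ^ 2 = t ^ 2 + 1 by rw [CharTwo.add_sq, one_pow], f4, ha, map_zero,
      add_zero, add_zero, h1] at h3
    have k := h2 (N t a)
    linear_combination (norm := abel) h3 + k
  have hquad : ∀ t s m, N t (N s m) = 0 := by
    intro t s m
    by_cases hs : s = 0
    · rw [hs, e0, map_zero]
    obtain ⟨c, rfl⟩ : ∃ c, s = c ^ 2 := by
      obtain ⟨c, hc⟩ := FiniteField.isSquare_of_char_two (F := F) (ringChar.eq F 2) s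
      exact ⟨c, by rw [hc, pow_two]⟩
    have hc : c ≠ 0 := fun h => hs (by rw [h, zero_pow two_ne_zero])
    have hconj : ∀ r x, N (c ^ 2 * r) (ρ (mono c hc * weyl) x) = ρ (mono c hc * weyl) (N r x) := fun r x => by
      rw [eN, eN, map_add, ← hmul, ← hmul, dil_upper]
    obtain ⟨m', rfl⟩ : ∃ m', m = ρ (mono c hc * weyl) m' :=
      ⟨ρ (weyl * mono c hc) m, by rw [← hmul, mul_assoc, ← mul_assoc weyl, weyl_mul_weyl, one_mul, mono_mul_mono, hone]⟩
    have e1 := hconj 1 m'
    rw [mul_one] at e1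
    rw [e1, show t = c ^ 2 * (t / c ^ 2) by field_simp, hconj, hzero _ _ (f1 1 m'), map_zero]
  refine ⟨fun t s m => ?_, fun m => ⟨N 1 (L 1 m), L 1 (N 1 m), fun t => ?_, fun t => ?_, (f7 m).symm⟩⟩
  · rw [hsub, ← eN s m, eU, hquad, add_zero]
  · rw [eU, hquad, add_zero]
  · rw [eLo, g2' t _ (f1 1 m), hquad, map_zero, add_zero]

/-- The module is a sum of natural ones. -/
theorem exists_basis [Finite M] (ρ : SG →* AddMonoid.End M) (h2 : ∀ m : M, m + m = 0)
    (hrel : ∀ t : F, t ≠ 0 → ∀ m : M,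
      ρ (upper t * lower t⁻¹) m + ρ (lower t⁻¹ * upper t) m + m = 0) :
    ∃ (k : ℕ) (Φ : M ≃+ (Fin k → Fin 2 → F)), ∀ (g : SG) (m : M) (i : Fin k),
      Φ (ρ g m) i = (g : Matrix (Fin 2) (Fin 2) F) *ᵥ Φ m i := by
  classical
  obtain ⟨hq, hdec⟩ := quad_and_decomp ρ h2 hrel
  have hmul : ∀ (g h : SG) (m : M), ρ (g * h) m = ρ g (ρ h m) := fun g h m => by rw [map_mul]; rfl
  have hone : ∀ m : M, ρ 1 m = m := fun m => by rw [map_one]; rfl
  have hinv : ∀ (g : SG) (m : M), ρ g (ρ g⁻¹ m) = m := fun g m => by rw [← hmul, mul_inv_cancel, hone]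
  have hdisj : ∀ m, (∀ t, ρ (upper t) m = m) → (∀ t, ρ (lower t) m = m) → m = 0 := by
    intro m h0 h1
    have := hrel 1 one_ne_zero m
    rwa [hmul, hmul, h1, h0, h1, h2, zero_add] at this
  let V0 : AddSubgroup M :=
    { carrier := {m | ∀ t : F, ρ (upper t) m = m}
      add_mem' := fun {a b} ha hb t => by rw [map_add, ha, hb]
      zero_mem' := fun t => map_zero _
      neg_mem' := fun {a} ha t => by rw [map_neg, ha] }
  have h01 : ∀ (t : F) (ht : t ≠ 0), ∀ a ∈ V0, ∀ s, ρ (lower s) (ρ (mono t ht) a) = ρ (mono t ht) a := fun t ht a ha s => by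
    rw [← hmul, lower_mono, hmul, ha]
  set w' : SG := weyl⁻¹ with hw'
  have hw1 : ∀ a ∈ V0, ∀ s, ρ (lower s) (ρ w' a) = ρ w' a := fun a ha => by rw [hw', weyl_inv]; exact h01 _ _ a ha
  let S : F → M → M := fun t a => ρ (upper t) (ρ w' a) - ρ w' a
  have hSmem : ∀ t, ∀ a ∈ V0, S t a ∈ V0 := fun t a ha u => hq u t _
  have hS : ∀ (t : F) (ht : t ≠ 0), ∀ a ∈ V0, S t a = ρ (mono t ht * w') a := fun t ht a ha => by
    set b := ρ w' a
    set y := ρ (mono t ht) b with hy
    rw [hmul]
    have hy0 : ∀ s, ρ (upper s) y = y := fun s => by rw [hy, ← hmul, upper_mono, hmul, hw1 a ha]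
    have e1 : ρ (upper t) b = ρ (lower t⁻¹) y := by rw [upper_eq t ht, hmul, hmul, hw1 a ha]
    -- the lower transvection moves y by an element fixed by the lower group
    have e2 : ∀ s, ρ (lower s) (ρ (lower t⁻¹) y - y) = ρ (lower t⁻¹) y - y := fun s => by
      have e3 : ∀ r, ρ (lower r) y = ρ weyl (ρ (upper r) (ρ weyl y)) := fun r => by
        rw [← hmul weyl (upper r), ← lower_weyl r, hmul, ← hmul weyl weyl, weyl_mul_weyl, hone]
      have e5 : ρ weyl (ρ weyl y) = y := by rw [← hmul, weyl_mul_weyl, hone]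
      rw [e3 t⁻¹]
      conv_lhs => arg 2; arg 2; rw [← e5]
      rw [← map_sub, ← hmul, lower_weyl, hmul, hq s t⁻¹, map_sub, e5]
    have e : S t a - y = (ρ (lower t⁻¹) y - y) - b := by show (ρ (upper t) b - b) - y = _; rw [e1]; abel
    refine sub_eq_zero.1 (hdisj _ (fun s => by rw [map_sub, hSmem t a ha s, hy0]) fun s => ?_)
    rw [e, map_sub, e2, hw1 a ha]
  have hS0 : ∀ a : M, S 0 a = 0 := fun a => by simp only [S, upper_zero, hone, sub_self]
  letI : SMul F V0 := ⟨fun t a => ⟨S t a.1, hSmem t _ a.2⟩⟩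
  have hsc : ∀ (t : F) (a : V0), ((t • a : V0) : M) = S t a.1 := fun _ _ => rfl
  letI : Module F V0 :=
    { one_smul := fun a => Subtype.ext (by
        rw [hsc, hS 1 one_ne_zero _ a.2, ← weyl_eq_mono, hw', mul_inv_cancel, hone])
      mul_smul := fun t s a => Subtype.ext (by
        rw [hsc, hsc, hsc]
        rcases eq_or_ne t 0 with rfl | ht
        · rw [zero_mul, hS0, hS0]
        rcases eq_or_ne s 0 with rfl | hs
        · rw [mul_zero, hS0]; simp [S]
        rw [hS _ (mul_ne_zero ht hs) _ a.2, hS t ht _ (hSmem s _ a.2), hS s hs _ a.2, ← hmul, mono_mul])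
      smul_zero := fun t => Subtype.ext (by rw [hsc]; simp [S])
      smul_add := fun t a b => Subtype.ext (by
        simp only [hsc, AddSubgroup.coe_add, S, map_add]; abel)
      add_smul := fun t s a => Subtype.ext (by
        simp only [hsc, AddSubgroup.coe_add]
        show ρ (upper (t + s)) (ρ w' a.1) - ρ w' a.1 = S t a.1 + S s a.1
        have h1 : ρ (upper s) (ρ w' a.1) = ρ w' a.1 + S s a.1 := by simp only [S]; abel
        rw [upper_add, hmul, h1, map_add, hSmem s _ a.2 t]
        simp only [S]; abel)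
      zero_smul := fun a => Subtype.ext (by rw [hsc]; exact hS0 _) }
  haveI : Module.Finite F V0 := Module.Finite.of_finite
  let B := Module.finBasis F V0
  let k := Module.finrank F V0
  let cs : (Fin k → Fin 2 → F) → Fin 2 → V0 := fun v j => B.equivFun.symm fun i => v i j
  have hw0 : ∀ m : V0, ρ w' (m : M) = ρ weyl (m : M) := fun m => by
    rw [hw', inv_eq_of_mul_eq_one_right (weyl_mul_weyl (F := F))]
  let Ψ : (Fin k → Fin 2 → F) →+ M :=
    { toFun := fun v => ((cs v 0 : V0) : M) + ρ w' ((cs v 1 : V0) : M)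
      map_zero' := by
        have e : ∀ j, cs 0 j = 0 := fun j => map_zero B.equivFun.symm
        simp [e]
      map_add' := fun u v => by
        have e : ∀ j, cs (u + v) j = cs u j + cs v j := fun j => map_add B.equivFun.symm (fun i => u i j) (fun i => v i j)
        simp only [e, AddSubgroup.coe_add, map_add]; abel }
  have hup : ∀ t v, ρ (upper t) (Ψ v) = Ψ fun i => ((upper t : SG) : Matrix (Fin 2) (Fin 2) F) *ᵥ v i := by
    intro t v
    set v' : Fin k → Fin 2 → F := fun i => ((upper t : SG) : Matrix (Fin 2) (Fin 2) F) *ᵥ v i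
    show ρ (upper t) (((cs v 0 : V0) : M) + ρ w' ((cs v 1 : V0) : M)) = ((cs v' 0 : V0) : M) + ρ w' ((cs v' 1 : V0) : M)
    have e0' : cs v' 0 = cs v 0 + t • cs v 1 := by
      simp only [cs, ← map_smul, ← map_add]; congr 1; funext i
      simp [v', upper, Matrix.mulVec, dotProduct]
    have e1' : cs v' 1 = cs v 1 := by
      simp only [cs]; congr 1; funext i
      simp [v', upper, Matrix.mulVec, dotProduct]
    rw [map_add, (cs v 0).2 t, e0', e1', AddSubgroup.coe_add, hsc]
    simp only [S]; abel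
  have hwe : ∀ v, ρ weyl (Ψ v) = Ψ fun i => ((weyl : SG) : Matrix (Fin 2) (Fin 2) F) *ᵥ v i := by
    intro v
    set v' : Fin k → Fin 2 → F := fun i => ((weyl : SG) : Matrix (Fin 2) (Fin 2) F) *ᵥ v i
    show ρ weyl (((cs v 0 : V0) : M) + ρ w' ((cs v 1 : V0) : M)) = ((cs v' 0 : V0) : M) + ρ w' ((cs v' 1 : V0) : M)
    have e0' : cs v' 0 = cs v 1 := by
      simp only [cs]; congr 1; funext i
      simp [v', weyl, Matrix.mulVec, dotProduct]
    have e1' : cs v' 1 = cs v 0 := by
      simp only [cs]; congr 1; funext i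
      simp [v', weyl, Matrix.mulVec, dotProduct, CharTwo.neg_eq]
    rw [map_add, e0', e1', hw', hinv, add_comm, ← hw', hw0]
  have hequiv : ∀ g v, ρ g (Ψ v) = Ψ fun i => (g : Matrix (Fin 2) (Fin 2) F) *ᵥ v i := by
    intro g
    have hg : g ∈ Submonoid.closure (Set.range (upper (F := F)) ∪ {weyl}) := by
      rw [closure_generators]; trivial
    induction hg using Submonoid.closure_induction with
    | mem x hx => rcases hx with ⟨t, rfl⟩ | rfl; exacts [hup t, hwe]
    | one => intro v; rw [hone]; simp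
    | mul x y _ _ ihx ihy =>
      intro v; rw [hmul, ihy, ihx]
      simp only [Matrix.mulVec_mulVec, Matrix.SpecialLinearGroup.coe_mul]
  have hinj : Function.Injective Ψ := (injective_iff_map_eq_zero Ψ).2 fun v hv => by
    have e : ((cs v 0 : V0) : M) = -ρ w' ((cs v 1 : V0) : M) := eq_neg_of_add_eq_zero_left hv
    have h0 : ((cs v 0 : V0) : M) = 0 :=
      hdisj _ (cs v 0).2 fun s => by rw [e, map_neg, hw1 _ (cs v 1).2]
    have h1 : ((cs v 1 : V0) : M) = 0 := by
      have : ρ w' ((cs v 1 : V0) : M) = 0 := by rw [h0] at e; exact neg_eq_zero.1 e.symm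
      rw [← hinv weyl ((cs v 1 : V0) : M), ← hw', this, map_zero]
    funext i j
    have h' : cs v j = 0 := by fin_cases j <;> apply Subtype.ext <;> assumption
    exact congrFun ((map_eq_zero_iff _ B.equivFun.symm.injective).1 h') i
  have hsurj : Function.Surjective Ψ := by
    intro m
    obtain ⟨a, b, ha, hb, rfl⟩ := hdec m
    have hb0 : ρ weyl b ∈ V0 := fun s => by
      rw [← hmul, weyl_eq_mono, upper_mono, hmul, hb]
    refine ⟨fun i => ![B.equivFun ⟨a, ha⟩ i, B.equivFun ⟨ρ weyl b, hb0⟩ i], ?_⟩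
    show ((B.equivFun.symm _ : V0) : M) + ρ w' ((B.equivFun.symm _ : V0) : M) = _
    simp only [Matrix.cons_val_zero, Matrix.cons_val_one, LinearEquiv.symm_apply_apply]
    rw [hw', ← hmul, inv_mul_cancel, hone]
  let E := AddEquiv.ofBijective Ψ ⟨hinj, hsurj⟩
  refine ⟨k, E.symm, fun g m i => ?_⟩
  have h : E.symm (ρ g m) = fun i => (g : Matrix (Fin 2) (Fin 2) F) *ᵥ E.symm m i := by
    apply E.injective
    rw [AddEquiv.apply_symm_apply]
    show ρ g m = Ψ _
    rw [← hequiv]
    congr 1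
    exact (E.apply_symm_apply m).symm
  rw [h]

/-- No abelian group of exponent 4 has the natural module as both layers. -/
theorem no_homocyclic {A : Type*} [AddCommGroup A] (hF : 4 ≤ Fintype.card F) (ρ : SG →* AddMonoid.End A)
    (π : A →+ (Fin 2 → F)) (hπ : Function.Surjective π)
    (hπρ : ∀ (g : SG) (v : A), π (ρ g v) = (g : Matrix (Fin 2) (Fin 2) F) *ᵥ π v)
    (h4 : ∀ v : A, (v + v) + (v + v) = 0) (hker : ∀ v : A, π v = 0 → ∃ w, v = w + w)
    (hinj : ∀ v : A, v + v = 0 → π v = 0) : False := by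
  classical
  letI : Algebra (ZMod 2) F := ZMod.algebra F 2
  have hmul : ∀ (g h : SG) (m : A), ρ (g * h) m = ρ g (ρ h m) := fun g h m => by rw [map_mul]; rfl
  have hone : ∀ m : A, ρ 1 m = m := fun m => by rw [map_one]; rfl
  have hinv2 : ∀ t m, ρ (upper t) (ρ (upper t) m) = m := fun t m => by rw [← hmul, upper_sq, hone]
  have h22 : ∀ x : A, π (x + x) = 0 := fun x => by rw [map_add]; funext i; simp [CharTwo.add_self_eq_zero]
  have hπU : ∀ t v, π (ρ (upper t) v) = ![π v 0 + t * π v 1, π v 1] := fun t v => by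
    rw [hπρ]; funext i; fin_cases i <;> simp [upper, Matrix.mulVec, dotProduct]
  have hdbl : ∀ x y : A, x + x = y + y → π x = π y := fun x y h => by
    have := hinj (x - y) (by rw [show x - y + (x - y) = (x + x) - (y + y) by abel, h, sub_self])
    rw [map_sub, sub_eq_zero] at this
    exact this
  have hv : ∀ s : F, ∃ v, π v = ![0, s] := fun s => hπ _
  choose v hv using hv
  set y : F → A := fun s => ρ (upper 1) (v s) - v s with hy
  have hπy : ∀ s, π (y s) = ![s, 0] := fun s => by
    rw [hy, map_sub, hπU, hv]; funext i; fin_cases i <;> simp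
  have hneg : ∀ s, ρ (upper 1) (y s) = -y s := fun s => by rw [hy, map_sub, hinv2, neg_sub]
  have hw : ∀ r s, ∃ w, ρ (upper r) (y s) + y s = w + w := fun r s => hker _ (by
    rw [map_add, hπU, hπy]; funext i; fin_cases i <;> simp [CharTwo.add_self_eq_zero])
  choose w hw using hw
  set p : F → F → F := fun r s => π (w r s) 0 with hp
  have hp0 : ∀ r s, π (w r s) = ![p r s, 0] := fun r s => by
    have h1 : ρ (upper 1) (w r s) + ρ (upper 1) (w r s) = w r s + w r s := by
      rw [← map_add, ← hw, map_add, hneg, ← hmul, ← upper_add, add_comm (1 : F) r, upper_add, hmul, hneg,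
        map_neg, ← neg_add, hw]
      exact neg_eq_of_add_eq_zero_left (h4 _)
    have h2' := hdbl _ _ h1
    rw [hπU] at h2'
    have h3 := congrFun h2' 0
    simp at h3
    funext i; fin_cases i <;> simp [hp, h3]
  have hwe : ∀ r s, ∃ z, ρ (upper r) (v s) = v s + y (r * s) + (z + z) := fun r s => by
    obtain ⟨z, hz⟩ := hker (ρ (upper r) (v s) - v s - y (r * s)) (by
      rw [map_sub, map_sub, hπU, hv, hπy]; funext i; fin_cases i <;> simp)
    exact ⟨z, by rw [← hz]; abel⟩
  choose z hz using hwe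
  -- squares of the involutions
  have heq1 : ∀ r s, p r (r * s) = r * π (z r s) 1 := fun r s => by
    have h1 := hinv2 r (v s)
    rw [hz, map_add, map_add, hz, map_add] at h1
    have h2' : ρ (upper r) (y (r * s)) = w r (r * s) + w r (r * s) - y (r * s) := by rw [← hw]; abel
    rw [h2'] at h1
    have h3 : (z r s + w r (r * s) + ρ (upper r) (z r s)) + (z r s + w r (r * s) + ρ (upper r) (z r s)) = 0 := by
      linear_combination (norm := abel) h1
    have h4' := congrFun (hinj _ h3) 0
    rw [map_add, map_add, hp0, hπU] at h4'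
    simp [Matrix.vecHead, Matrix.vecTail] at h4'
    linear_combination h4' - (π (z r s) 0 + r * π (z r s) 1) * (CharTwo.two_eq_zero (R := F))
  have hadd : ∀ r s s', p r (s + s') = p r s + p r s' := fun r s s' => by
    obtain ⟨x, hx⟩ := hker (y (s + s') - y s - y s') (by
      rw [map_sub, map_sub, hπy, hπy, hπy]; funext i; fin_cases i <;> simp)
    have e : y (s + s') = y s + y s' + (x + x) := by rw [← hx]; abel
    have h1 : (w r (s + s') + (ρ (upper r) x + x) + w r s + w r s') + (w r (s + s') + (ρ (upper r) x + x) + w r s + w r s') = 0 := by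
      have e' := hw r (s + s')
      rw [e, map_add, map_add, map_add] at e'
      have a1 := hw r s; have a2 := hw r s'
      have k1 := h4 (w r s); have k2 := h4 (w r s'); have k3 := h4 x; have k4 := h4 (ρ (upper r) x)
      have k5 : ρ (upper r) x + ρ (upper r) x + (x + x) + (w r s + w r s) + (w r s' + w r s') = w r (s + s') + w r (s + s') := by
        rw [← a1, ← a2, ← e']; abel
      linear_combination (norm := abel) (-1 : ℤ) • k5 + k1 + k2 + k3 + k4
    have h2' := congrFun (hinj _ h1) 0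
    have hx0 : π x 1 = 0 := by
      have h5 : (ρ (upper 1) x + x) + (ρ (upper 1) x + x) = 0 := by
        have n1 := hneg (s + s')
        rw [e, map_add, map_add, map_add, hneg, hneg] at n1
        linear_combination (norm := abel) n1
      have := congrFun (hinj _ h5) 0
      rw [map_add, hπU] at this
      simp [Matrix.vecHead, Matrix.vecTail] at this
      linear_combination this - π x 0 * CharTwo.two_eq_zero (R := F)
    rw [map_add, map_add, map_add, map_add, hp0, hp0, hp0, hπU] at h2'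
    simp [hx0, Matrix.vecHead, Matrix.vecTail] at h2'
    linear_combination h2' - (π x 0 + p r s + p r s') * (CharTwo.two_eq_zero (R := F))
  obtain ⟨u, hu, hu1⟩ : ∃ u : F, Algebra.trace (ZMod 2) F u ≠ 0 ∧ u ≠ 1 := by
    by_contra hcon
    push Not at hcon
    obtain ⟨u₀, hu₀⟩ := Algebra.trace_surjective (ZMod 2) F 1
    have hu₀1 : u₀ = 1 := hcon u₀ (by rw [hu₀]; exact one_ne_zero)
    have hcard : Fintype.card F ≤ 2 := by
      have hall : ∀ x : F, x = 0 ∨ x = 1 := fun x => by
        by_cases hx : Algebra.trace (ZMod 2) F x = 0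
        · refine Or.inl ?_
          have := hcon (x + u₀) (by rw [map_add, hx, hu₀, zero_add]; exact one_ne_zero)
          rw [hu₀1] at this
          simpa using this
        · exact Or.inr (hcon x hx)
      calc Fintype.card F = (Finset.univ : Finset F).card := rfl
        _ ≤ ({0, 1} : Finset F).card := Finset.card_le_card fun x _ => by simpa using hall x
        _ ≤ 2 := Finset.card_le_two
    omega
  have hu0 : u ≠ 0 := fun h => hu (by rw [h, map_zero])
  obtain ⟨r, hr0, hru⟩ : ∃ r : F, r ≠ 0 ∧ r + 1 = u :=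
    ⟨u + 1, fun h => hu1 (CharTwo.add_eq_zero.1 h), by rw [add_assoc, CharTwo.add_self_eq_zero, add_zero]⟩
  have hpu : ∀ s, p u s = s + p r s := fun s => by
    have h1 : ρ (upper u) (y s) + y s = (y s - w r s) + (y s - w r s) := by
      rw [← hru, upper_add, hmul, hneg, map_neg]
      have := hw r s
      linear_combination (norm := abel) (-1 : ℤ) • this
    rw [hw] at h1
    have := congrFun (hdbl _ _ h1) 0
    rw [map_sub, hπy, hp0, hp0] at this
    simpa [CharTwo.sub_eq_add] using this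
  have hδ : ∀ s, π (z u s) 1 = π (z r s) 1 := fun s => by
    obtain ⟨x, hx⟩ := hker (y (u * s) - y (r * s) - y s) (by
      rw [map_sub, map_sub, hπy, hπy, hπy, ← hru]; funext i; fin_cases i <;> simp [add_mul])
    have e : y (u * s) = y (r * s) + y s + (x + x) := by rw [← hx]; abel
    have h1 : ρ (upper u) (v s) = ρ (upper r) (v s) + (-y s + (w r s + w r s)) := by
      rw [← hru, upper_add, hmul, ← hw, show ρ (upper 1) (v s) = v s + y s from (add_sub_cancel _ _).symm, map_add]
      abel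
    rw [hz, hz, e] at h1
    have h3 : (z r s + w r s - y s - x - z u s) + (z r s + w r s - y s - x - z u s) = 0 := by
      linear_combination (norm := abel) (-1 : ℤ) • h1
    have hx1 : π x 1 = 0 := by
      have h5 : (ρ (upper 1) x + x) + (ρ (upper 1) x + x) = 0 := by
        have n1 := hneg (u * s)
        rw [e, map_add, map_add, map_add, hneg, hneg] at n1
        linear_combination (norm := abel) n1
      have := congrFun (hinj _ h5) 0
      rw [map_add, hπU] at this
      simp [Matrix.vecHead, Matrix.vecTail] at this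
      linear_combination this - π x 0 * CharTwo.two_eq_zero (R := F)
    have := congrFun (hinj _ h3) 1
    rw [map_sub, map_sub, map_sub, map_add, hp0, hπy] at this
    simp [hx1, CharTwo.sub_eq_add, Matrix.vecHead, Matrix.vecTail] at this
    exact (CharTwo.add_eq_zero.1 this).symm
  have hkey : ∀ s, r⁻¹ * p r (r * s) + p r s = u * s := fun s => by
    have a1 := heq1 r s
    have a2 := heq1 u s
    rw [hpu, hδ, show u * s = r * s + s by rw [← hru]; ring, hadd] at a2
    have e : r⁻¹ * p r (r * s) = π (z r s) 1 := by rw [a1, inv_mul_cancel_left₀ hr0]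
    rw [e, show u * s = r * s + s by rw [← hru]; ring]
    rw [a1] at a2
    rw [← hru] at a2
    linear_combination a2 - (r * s + s - π (z r s) 1) * CharTwo.two_eq_zero (R := F)
  -- traces over the prime field
  let P : F →ₗ[ZMod 2] F := AddMonoidHom.toZModLinearMap 2 (AddMonoidHom.mk' (p r) (hadd r))
  let e : F ≃ₗ[ZMod 2] F := LinearEquiv.ofBijective (LinearMap.mulLeft (ZMod 2) r⁻¹)
    ⟨mul_right_injective₀ (inv_ne_zero hr0), fun x => ⟨r * x, inv_mul_cancel_left₀ hr0 x⟩⟩
  have hc : e.conj P + P = LinearMap.mulLeft (ZMod 2) u := LinearMap.ext fun s => by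
    have hes : e.symm s = r * s := by
      rw [LinearEquiv.symm_apply_eq]
      exact (inv_mul_cancel_left₀ hr0 s).symm
    rw [LinearMap.add_apply, LinearEquiv.conj_apply_apply, hes]
    exact hkey s
  have ht := congrArg (LinearMap.trace (ZMod 2) F) hc
  rw [map_add, LinearMap.trace_conj', CharTwo.add_self_eq_zero] at ht
  exact hu (by rw [Algebra.trace_apply]; exact ht.symm)

end Cfsg.Agent.LocalStructure.SL2FPFThree
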