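import Mathlib
import Cfsg.Agent.Chev.SL2Hom

/-!
An irreducible non-trivial module in characteristic p for SL(2, p^n) on which a Sylow p-subgroup acts
quadratically, or has fixed points of at least square-root order, is natural.
-/

set_option autoImplicit false
set_option linter.all false

namespace Cfsg.Agent.LocalStructure.SL2QuadModule

open Matrix Cfsg.Agent.Chev Cfsg.Agent.Chev.SL2Data

variable {F : Type*} [Field F]

local notation "SG" => Matrix.SpecialLinearGroup (Fin 2) F

/-- Lower transvection. -/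
def lower (t : F) : SG := ⟨!![1, 0; t, 1], by simp [det_fin_two]⟩

/-- The monomial element of parameter `t`. -/
def mono (t : F) (ht : t ≠ 0) : SG := ⟨!![0, t; -t⁻¹, 0], by simp [det_fin_two, ht]⟩

theorem upper_add (s t : F) : (upper (s + t) : SG) = upper s * upper t := by
  apply Subtype.ext; simp only [Matrix.SpecialLinearGroup.coe_mul, Matrix.SpecialLinearGroup.coe_inv]; ext i j; fin_cases i <;> fin_cases j <;> simp [upper, Matrix.mul_apply, add_comm]

theorem upper_zero : (upper (0 : F) : SG) = 1 := by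
  apply Subtype.ext; ext i j; fin_cases i <;> fin_cases j <;> simp [upper]

theorem weyl_eq_mono : (weyl : SG) = mono 1 one_ne_zero := by
  apply Subtype.ext; ext i j; fin_cases i <;> fin_cases j <;> simp [weyl, mono]

theorem upper_eq (t : F) (ht : t ≠ 0) : (upper t : SG) = lower t⁻¹ * mono t ht * lower t⁻¹ := by
  apply Subtype.ext; simp only [Matrix.SpecialLinearGroup.coe_mul, Matrix.SpecialLinearGroup.coe_inv]; ext i j; fin_cases i <;> fin_cases j <;> simp [upper, lower, mono, Matrix.mul_apply, ht]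

theorem upper_mono (t : F) (ht : t ≠ 0) (s : F) : upper s * mono t ht = mono t ht * lower (-(s / (t * t))) := by
  apply Subtype.ext; simp only [Matrix.SpecialLinearGroup.coe_mul, Matrix.SpecialLinearGroup.coe_inv]; ext i j; fin_cases i <;> fin_cases j <;> simp [upper, lower, mono, Matrix.mul_apply] <;> field_simp <;> ring

theorem lower_mono (t : F) (ht : t ≠ 0) (s : F) : lower s * mono t ht = mono t ht * upper (-(s * (t * t))) := by
  apply Subtype.ext; simp only [Matrix.SpecialLinearGroup.coe_mul, Matrix.SpecialLinearGroup.coe_inv]; ext i j; fin_cases i <;> fin_cases j <;> simp [upper, lower, mono, Matrix.mul_apply] <;> field_simp <;> ring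

theorem mono_mul (t s : F) (ht : t ≠ 0) (hs : s ≠ 0) :
    mono t ht * weyl⁻¹ * (mono s hs * weyl⁻¹) = mono (t * s) (mul_ne_zero ht hs) * weyl⁻¹ := by
  apply Subtype.ext; simp only [Matrix.SpecialLinearGroup.coe_mul, Matrix.SpecialLinearGroup.coe_inv]; ext i j
  fin_cases i <;> fin_cases j <;>
    simp [mono, weyl, Matrix.mul_apply, adjugate_fin_two] <;> ring

theorem weyl_inv : (weyl : SG)⁻¹ = mono (-1) (neg_ne_zero.2 one_ne_zero) := by
  apply Subtype.ext; simp only [Matrix.SpecialLinearGroup.coe_mul, Matrix.SpecialLinearGroup.coe_inv]; ext i j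
  fin_cases i <;> fin_cases j <;> simp [mono, weyl, adjugate_fin_two]

theorem mono_neg_one : (mono (-1 : F) (neg_ne_zero.2 one_ne_zero) : SG) * weyl⁻¹ = weyl⁻¹ * weyl⁻¹ := by
  rw [weyl_inv]

variable [Fintype F] {p : ℕ} [hp : Fact p.Prime] [CharP F p] {M : Type*} [AddCommGroup M] [Finite M]

/-- The natural-module coordinates. -/
theorem exists_natural (ρ : SG →* AddMonoid.End M) (hM : ∀ m : M, p • m = 0)
    (hirr : ∀ U : AddSubgroup M, (∀ g, ∀ m ∈ U, ρ g m ∈ U) → U = ⊥ ∨ U = ⊤) (hnt : ∃ g m, ρ g m ≠ m)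
    (hyp : (∀ (t s : F) (m : M), ρ (upper t) (ρ (upper s) m - m) = ρ (upper s) m - m) ∨
      Nat.card M ≤ Nat.card {m : M // ∀ t : F, ρ (upper t) m = m} ^ 2) :
    ∃ Φ : M ≃+ (Fin 2 → F), ∀ (g : SG) (m : M), Φ (ρ g m) = (g : Matrix (Fin 2) (Fin 2) F) *ᵥ Φ m := by
  classical
  have hmul : ∀ (g h : SG) (m : M), ρ (g * h) m = ρ g (ρ h m) := fun g h m => by rw [map_mul]; rfl
  have hone : ∀ m : M, ρ 1 m = m := fun m => by rw [map_one]; rfl
  have hinv : ∀ (g : SG) (m : M), ρ g (ρ g⁻¹ m) = m := fun g m => by rw [← hmul, mul_inv_cancel, hone]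
  have hinv' : ∀ (g : SG) (m : M), ρ g⁻¹ (ρ g m) = m := fun g m => by rw [← hmul, inv_mul_cancel, hone]
  -- a set invariant under the upper transvections and the Weyl element
  have hgen : ∀ U : AddSubgroup M, (∀ t, ∀ m ∈ U, ρ (upper t) m ∈ U) → (∀ m ∈ U, ρ weyl m ∈ U) →
      ∀ g, ∀ m ∈ U, ρ g m ∈ U := by
    intro U h1 h2 g
    have hg : g ∈ Submonoid.closure (Set.range (upper (F := F)) ∪ {weyl}) := by
      rw [closure_generators]; trivial
    induction hg using Submonoid.closure_induction with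
    | mem x hx => rcases hx with ⟨t, rfl⟩ | rfl; exacts [h1 t, h2]
    | one => intro m hm; rwa [hone]
    | mul x y _ _ ihx ihy => intro m hm; rw [hmul]; exact ihx _ (ihy m hm)
  let V0 : AddSubgroup M :=
    { carrier := {m | ∀ t : F, ρ (upper t) m = m}
      add_mem' := fun {a b} ha hb t => by rw [map_add, ha, hb]
      zero_mem' := fun t => map_zero _
      neg_mem' := fun {a} ha t => by rw [map_neg, ha] }
  let V1 : AddSubgroup M :=
    { carrier := {m | ∀ t : F, ρ (lower t) m = m}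
      add_mem' := fun {a b} ha hb t => by rw [map_add, ha, hb]
      zero_mem' := fun t => map_zero _
      neg_mem' := fun {a} ha t => by rw [map_neg, ha] }
  have h01 : ∀ (t : F) (ht : t ≠ 0), ∀ a ∈ V0, ρ (mono t ht) a ∈ V1 := fun t ht a ha s => by
    rw [← hmul, lower_mono, hmul, ha]
  have h10 : ∀ (t : F) (ht : t ≠ 0), ∀ b ∈ V1, ρ (mono t ht) b ∈ V0 := fun t ht b hb s => by
    rw [← hmul, upper_mono, hmul, hb]
  have hdisj : ∀ m, m ∈ V0 → m ∈ V1 → m = 0 := by
    intro m h0 h1
    by_contra hm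
    let U : AddSubgroup M :=
      { carrier := {a | ∀ g, ρ g a = a}
        add_mem' := fun {a b} ha hb g => by rw [map_add, ha, hb]
        zero_mem' := fun g => map_zero _
        neg_mem' := fun {a} ha g => by rw [map_neg, ha] }
    have hwm : ρ weyl m = m := by
      have e := upper_eq (1 : F) one_ne_zero
      have e' : (weyl : SG) = (lower (1 : F)⁻¹)⁻¹ * upper 1 * (lower (1 : F)⁻¹)⁻¹ := by
        rw [e, weyl_eq_mono]; group
      have hl : ρ (lower (1 : F)⁻¹)⁻¹ m = m := by
        conv_lhs => rw [← h1 (1 : F)⁻¹]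
        rw [hinv']
      rw [e', hmul, hmul, hl, h0, hl]
    have hmU : m ∈ U := by
      intro g
      have hg : g ∈ Submonoid.closure (Set.range (upper (F := F)) ∪ {weyl}) := by
        rw [closure_generators]; trivial
      induction hg using Submonoid.closure_induction with
      | mem x hx => rcases hx with ⟨t, rfl⟩ | rfl; exacts [h0 t, hwm]
      | one => exact hone m
      | mul x y _ _ ihx ihy => rw [hmul, ihy, ihx]
    rcases hirr U (fun g a ha => by rw [ha g]; exact ha) with h | h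
    · rw [h] at hmU; exact hm hmU
    · obtain ⟨g, a, ha⟩ := hnt
      exact ha ((h ▸ AddSubgroup.mem_top a : a ∈ U) g)
  -- the p-group of upper transvections
  have hF : IsPGroup p (Multiplicative F) := fun x => ⟨1, by
    rw [pow_one]
    apply Multiplicative.toAdd.injective
    rw [toAdd_pow, toAdd_one, nsmul_eq_mul, CharP.cast_eq_zero, zero_mul]⟩
  have hcardp : ∀ (N : Type _) [AddCommGroup N] [Finite N], (∀ m : N, p • m = 0) → (∃ m : N, m ≠ 0) → p ∣ Nat.card N := by
    intro N _ _ hN ⟨m, hm⟩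
    have := addOrderOf_dvd_natCard m
    rw [addOrderOf_eq_prime (hN m) hm] at this
    exact this
  have hV0ne : ∃ a ∈ V0, a ≠ 0 := by
    letI : MulAction (Multiplicative F) M :=
      { smul := fun t m => ρ (upper t.toAdd) m
        one_smul := fun m => by show ρ (upper (0 : F)) m = m; rw [upper_zero, hone]
        mul_smul := fun s t m => by show ρ (upper (s.toAdd + t.toAdd)) m = _; rw [upper_add, hmul]; rfl }
    obtain ⟨g, m, hgm⟩ := hnt
    obtain ⟨a, ha, ha0⟩ := hF.exists_fixed_point_of_prime_dvd_card_of_fixed_point M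
      (hcardp M hM ⟨ρ g m - m, sub_ne_zero.2 hgm⟩) (a := (0 : M)) (fun t => map_zero _)
    exact ⟨a, fun t => ha (Multiplicative.ofAdd t), ha0.symm⟩
  have hdecomp : ∀ m, ∃ a ∈ V0, ∃ b ∈ V1, m = a + b := by
    suffices h : V0 ⊔ V1 = ⊤ by
      intro m
      obtain ⟨a, ha, b, hb, e⟩ := AddSubgroup.mem_sup.1 (h ▸ AddSubgroup.mem_top m : m ∈ V0 ⊔ V1)
      exact ⟨a, ha, b, hb, e.symm⟩
    rcases hyp with hq | hc
    · obtain ⟨a, ha, ha0⟩ := hV0ne
      refine (hirr _ (hgen _ (fun t m hm => ?_) (fun m hm => ?_))).resolve_left fun h => ha0 (by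
        have : a ∈ V0 ⊔ V1 := AddSubgroup.mem_sup_left ha
        rw [h] at this; exact this)
      · have e : ρ (upper t) m = m + (ρ (upper t) m - m) := by abel
        rw [e]
        exact add_mem hm (AddSubgroup.mem_sup_left fun s => hq s t m)
      · obtain ⟨a, ha, b, hb, rfl⟩ := AddSubgroup.mem_sup.1 hm
        rw [map_add, weyl_eq_mono, add_comm]
        exact AddSubgroup.mem_sup.2 ⟨_, h10 1 one_ne_zero b hb, _, h01 1 one_ne_zero a ha, rfl⟩
    · let f : V0 × V0 → (V0 ⊔ V1 : AddSubgroup M) := fun x =>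
        ⟨x.1.1 + ρ weyl x.2.1, add_mem (AddSubgroup.mem_sup_left x.1.2)
          (AddSubgroup.mem_sup_right (by rw [weyl_eq_mono]; exact h01 1 one_ne_zero _ x.2.2))⟩
      have hf : Function.Injective f := by
        intro x y hxy
        have e : x.1.1 + ρ weyl x.2.1 = y.1.1 + ρ weyl y.2.1 := congrArg Subtype.val hxy
        have e2 : x.1.1 - y.1.1 = ρ weyl (y.2.1 - x.2.1) := by
          rw [map_sub, eq_sub_iff_add_eq, sub_add_eq_add_sub, e, add_sub_cancel_left]
        have h0 := hdisj _ (sub_mem x.1.2 y.1.2) (by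
          rw [e2, weyl_eq_mono]; exact h01 1 one_ne_zero _ (sub_mem y.2.2 x.2.2))
        have h2 : y.2.1 - x.2.1 = 0 := by rw [← hinv' weyl (y.2.1 - x.2.1), ← e2, h0, map_zero]
        exact Prod.ext (Subtype.ext (sub_eq_zero.1 h0)) (Subtype.ext (sub_eq_zero.1 h2).symm)
      have h1 := Nat.card_le_card_of_injective f hf
      rw [Nat.card_prod, ← pow_two] at h1
      have hc' : Nat.card M ≤ Nat.card V0 ^ 2 := hc
      exact AddSubgroup.eq_top_of_le_card _ (hc'.trans h1)
  -- upper transvections move V1 into V0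
  have hrel : ∀ (t : F) (ht : t ≠ 0), ∀ b ∈ V1, ρ (upper t) b = ρ (lower t⁻¹) (ρ (mono t ht) b) := by
    intro t ht b hb
    rw [upper_eq t ht, hmul, hmul, hb]
  let W1 : AddSubgroup M :=
    { carrier := {b | b ∈ V1 ∧ ∀ t : F, ρ (upper t) b - b ∈ V0}
      add_mem' := fun {a b} ha hb => ⟨add_mem ha.1 hb.1, fun t => by
        rw [map_add, add_sub_add_comm]; exact add_mem (ha.2 t) (hb.2 t)⟩
      zero_mem' := ⟨zero_mem _, fun t => by rw [map_zero, sub_zero]; exact zero_mem _⟩
      neg_mem' := fun {a} ha => ⟨neg_mem ha.1, fun t => by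
        rw [map_neg, ← neg_add', ← sub_eq_add_neg]; exact neg_mem (ha.2 t)⟩ }
  let W0 : AddSubgroup M :=
    { carrier := {a | a ∈ V0 ∧ ∀ t : F, ρ (lower t) a - a ∈ V1}
      add_mem' := fun {a b} ha hb => ⟨add_mem ha.1 hb.1, fun t => by
        rw [map_add, add_sub_add_comm]; exact add_mem (ha.2 t) (hb.2 t)⟩
      zero_mem' := ⟨zero_mem _, fun t => by rw [map_zero, sub_zero]; exact zero_mem _⟩
      neg_mem' := fun {a} ha => ⟨neg_mem ha.1, fun t => by
        rw [map_neg, ← neg_add', ← sub_eq_add_neg]; exact neg_mem (ha.2 t)⟩ }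
  have hW10 : ∀ (t : F) (ht : t ≠ 0), ∀ b ∈ W1, ρ (mono t ht) b ∈ W0 := fun t ht b hb =>
    ⟨h10 t ht b hb.1, fun s => by rw [← hmul, lower_mono, hmul, ← map_sub]; exact h01 t ht _ (hb.2 _)⟩
  have hW01 : ∀ (t : F) (ht : t ≠ 0), ∀ a ∈ W0, ρ (mono t ht) a ∈ W1 := fun t ht a ha =>
    ⟨h01 t ht a ha.1, fun s => by rw [← hmul, upper_mono, hmul, ← map_sub]; exact h10 t ht _ (ha.2 _)⟩
  have hshift : ∀ (t : F) (ht : t ≠ 0), ∀ b ∈ W1, ρ (upper t) b - b = ρ (mono t ht) b := by
    intro t ht b hb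
    have hy := hW10 t ht b hb
    have h1 := hrel t ht b hb.1
    set y := ρ (mono t ht) b
    have e : (ρ (upper t) b - b) - y = (ρ (lower t⁻¹) y - y) - b := by rw [h1]; abel
    exact sub_eq_zero.1 (hdisj _ (sub_mem (hb.2 t) hy.1) (by rw [e]; exact sub_mem (hy.2 _) hb.1))
  have hW1top : ∀ b ∈ V1, b ∈ W1 := by
    have hW1ne : ∃ b ∈ W1, b ≠ 0 := by
      let π := QuotientAddGroup.mk' V0
      have hstab : ∀ t : F, V0 ≤ V0.comap (ρ (upper t)) := fun t a ha => by
        show ρ (upper t) a ∈ V0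
        rw [ha t]; exact ha
      letI : MulAction (Multiplicative F) (M ⧸ V0) :=
        { smul := fun t x => QuotientAddGroup.map V0 V0 (ρ (upper t.toAdd)) (hstab _) x
          one_smul := fun x => by
            obtain ⟨m, rfl⟩ := QuotientAddGroup.mk_surjective x
            show QuotientAddGroup.map V0 V0 (ρ (upper (0 : F))) (hstab _) _ = _
            show ((ρ (upper (0 : F)) m : M) : M ⧸ V0) = _
            rw [upper_zero, hone]
          mul_smul := fun s t x => by
            obtain ⟨m, rfl⟩ := QuotientAddGroup.mk_surjective x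
            show ((ρ (upper (s.toAdd + t.toAdd)) m : M) : M ⧸ V0) = ((ρ (upper s.toAdd) (ρ (upper t.toAdd) m) : M) : M ⧸ V0)
            rw [upper_add, hmul] }
      obtain ⟨a, ha, ha0⟩ := hV0ne
      have hq : ∀ x : M ⧸ V0, p • x = 0 := fun x => by
        obtain ⟨m, rfl⟩ := QuotientAddGroup.mk_surjective x
        rw [← QuotientAddGroup.mk_nsmul, hM]; rfl
      have hne : ∃ x : M ⧸ V0, x ≠ 0 := by
        refine ⟨((ρ weyl a : M) : M ⧸ V0), fun e => ha0 ?_⟩
        rw [QuotientAddGroup.eq_zero_iff] at e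
        have := hdisj _ e (by rw [weyl_eq_mono]; exact h01 1 one_ne_zero a ha)
        rw [← hinv' weyl a, this, map_zero]
      obtain ⟨x, hx, hx0⟩ := hF.exists_fixed_point_of_prime_dvd_card_of_fixed_point (M ⧸ V0)
        (hcardp _ hq hne) (a := (0 : M ⧸ V0)) (fun t => map_zero _)
      obtain ⟨m, rfl⟩ := QuotientAddGroup.mk_surjective x
      obtain ⟨a', ha', b, hb, rfl⟩ := hdecomp m
      refine ⟨b, ⟨hb, fun t => ?_⟩, fun e => hx0 ?_⟩
      · have h := hx (Multiplicative.ofAdd t)
        have h' : ((ρ (upper t) (a' + b) : M) : M ⧸ V0) = ((a' + b : M) : M ⧸ V0) := h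
        rw [QuotientAddGroup.eq, map_add, ha' t] at h'
        have := neg_mem h'
        rwa [show -(-(a' + ρ (upper t) b) + (a' + b)) = ρ (upper t) b - b by abel] at this
      · exact ((QuotientAddGroup.eq_zero_iff _).2 (by rw [e, add_zero]; exact ha')).symm
    have htop : W0 ⊔ W1 = ⊤ := by
      obtain ⟨b0, hb0, hb00⟩ := hW1ne
      refine (hirr _ (hgen _ (fun t m hm => ?_) (fun m hm => ?_))).resolve_left fun h => hb00 (by
        have : b0 ∈ W0 ⊔ W1 := AddSubgroup.mem_sup_right hb0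
        rw [h] at this; exact this)
      · obtain ⟨a, ha, b, hb, rfl⟩ := AddSubgroup.mem_sup.1 hm
        rcases eq_or_ne t 0 with rfl | ht
        · rw [upper_zero, hone]; exact hm
        · rw [map_add, ha.1 t, show a + ρ (upper t) b = (a + ρ (mono t ht) b) + b by
            rw [← hshift t ht b hb]; abel]
          exact AddSubgroup.mem_sup.2 ⟨_, add_mem ha (hW10 t ht b hb), b, hb, rfl⟩
      · obtain ⟨a, ha, b, hb, rfl⟩ := AddSubgroup.mem_sup.1 hm
        rw [map_add, weyl_eq_mono, add_comm]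
        exact AddSubgroup.mem_sup.2 ⟨_, hW10 1 one_ne_zero b hb, _, hW01 1 one_ne_zero a ha, rfl⟩
    intro b hb
    obtain ⟨a, ha, b', hb', e⟩ := AddSubgroup.mem_sup.1 (htop ▸ AddSubgroup.mem_top b : b ∈ W0 ⊔ W1)
    have e' : a = b - b' := eq_sub_of_add_eq e
    have ha0 := hdisj a ha.1 (by rw [e']; exact sub_mem hb hb'.1)
    rw [ha0, zero_add] at e
    exact e ▸ hb'
  -- the field action on V0
  set w' : SG := weyl⁻¹ with hw'
  have hw1 : ∀ a ∈ V0, ρ w' a ∈ V1 := fun a ha => by rw [hw', weyl_inv]; exact h01 _ _ a ha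
  let S : F → M → M := fun t a => ρ (upper t) (ρ w' a) - ρ w' a
  have hS : ∀ (t : F) (ht : t ≠ 0), ∀ a ∈ V0, S t a = ρ (mono t ht * w') a := fun t ht a ha => by
    rw [hmul]; exact hshift t ht _ (hW1top _ (hw1 a ha))
  have hSmem : ∀ t, ∀ a ∈ V0, S t a ∈ V0 := fun t a ha => (hW1top _ (hw1 a ha)).2 t
  have hS0 : ∀ a : M, S 0 a = 0 := fun a => by simp only [S, upper_zero, hone, sub_self]
  letI : SMul F V0 := ⟨fun t a => ⟨S t a.1, hSmem t _ a.2⟩⟩
  have hsc : ∀ (t : F) (a : V0), ((t • a : V0) : M) = S t a.1 := fun _ _ => rfl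
  letI : Module F V0 :=
    { one_smul := fun a => Subtype.ext (by
        rw [hsc, hS 1 one_ne_zero _ a.2, ← weyl_eq_mono, hw', mul_inv_cancel, hone])
      mul_smul := fun t s a => Subtype.ext (by
        rw [hsc, hsc, hsc]
        rcases eq_or_ne t 0 with rfl | ht
        · rw [zero_mul, hS0, hS0]
        rcases eq_or_ne s 0 with rfl | hs
        · rw [mul_zero, hS0]; simp [S]
        rw [hS _ (mul_ne_zero ht hs) _ a.2, hS t ht _ (hSmem s _ a.2), hS s hs _ a.2, ← hmul, mono_mul])
      smul_zero := fun t => Subtype.ext (by rw [hsc]; simp [S])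
      smul_add := fun t a b => Subtype.ext (by
        simp only [hsc, AddSubgroup.coe_add, S, map_add]; abel)
      add_smul := fun t s a => Subtype.ext (by
        simp only [hsc, AddSubgroup.coe_add]
        show ρ (upper (t + s)) (ρ w' a.1) - ρ w' a.1 = S t a.1 + S s a.1
        have h1 : ρ (upper s) (ρ w' a.1) = ρ w' a.1 + S s a.1 := by simp only [S]; abel
        rw [upper_add, hmul, h1, map_add, hSmem s _ a.2 t]
        simp only [S]; abel)
      zero_smul := fun a => Subtype.ext (by rw [hsc]; exact hS0 _) }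
  obtain ⟨a0, ha0, ha00⟩ := hV0ne
  set A : F → M := fun x => ((x • (⟨a0, ha0⟩ : V0) : V0) : M) with hA
  have hAmem : ∀ x, A x ∈ V0 := fun x => ((x • (⟨a0, ha0⟩ : V0) : V0)).2
  have hA0 : ∀ x, A x = 0 → x = 0 := fun x hx => by
    rcases smul_eq_zero.1 (show x • (⟨a0, ha0⟩ : V0) = 0 from Subtype.ext hx) with h | h
    · exact h
    · exact absurd (congrArg Subtype.val h) ha00
  let Ψ : (Fin 2 → F) →+ M :=
    { toFun := fun v => A (v 0) + ρ w' (A (v 1))
      map_zero' := by simp [A]
      map_add' := fun u v => by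
        simp only [A, Pi.add_apply, add_smul, AddSubgroup.coe_add, map_add]; abel }
  have hSA : ∀ t x, S t (A x) = A (t * x) := fun t x =>
    (congrArg Subtype.val (mul_smul t x (⟨a0, ha0⟩ : V0))).symm
  have hneg : ∀ a ∈ V0, ρ w' (ρ w' a) = -a := fun a ha => by
    have h1 := hS (-1) (neg_ne_zero.2 one_ne_zero) a ha
    rw [mono_neg_one, ← hw', hmul] at h1
    rw [← h1]
    have := neg_one_smul F (⟨a, ha⟩ : V0)
    exact congrArg Subtype.val this
  have hup : ∀ t v, ρ (upper t) (Ψ v) = Ψ (((upper t : SG) : Matrix (Fin 2) (Fin 2) F) *ᵥ v) := by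
    intro t v
    show ρ (upper t) (A (v 0) + ρ w' (A (v 1))) = A _ + ρ w' (A _)
    have h1 : ρ (upper t) (ρ w' (A (v 1))) = ρ w' (A (v 1)) + A (t * v 1) := by
      rw [← hSA]; simp only [S]; abel
    rw [map_add, hAmem _ t, h1]
    simp [upper, Matrix.mulVec, dotProduct, A, add_smul]
    abel
  have hwe : ∀ v, ρ weyl (Ψ v) = Ψ (((weyl : SG) : Matrix (Fin 2) (Fin 2) F) *ᵥ v) := by
    intro v
    show ρ weyl (A (v 0) + ρ w' (A (v 1))) = A _ + ρ w' (A _)
    have h1 : ρ weyl (A (v 0)) = ρ w' (A (-v 0)) := by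
      rw [show A (-v 0) = -A (v 0) by simp [A], ← hneg _ (hAmem (v 0)), ← hmul w' w', ← hmul]
      have hw4 : (weyl : SG) = w' * (w' * w') := by
        rw [hw']
        apply Subtype.ext
        simp only [Matrix.SpecialLinearGroup.coe_mul, Matrix.SpecialLinearGroup.coe_inv]
        ext i j
        fin_cases i <;> fin_cases j <;>
          simp [weyl, Matrix.mul_apply, adjugate_fin_two]
      rw [mul_assoc, ← hw4]
    rw [map_add, h1, hw', hinv]
    simp [weyl, Matrix.mulVec, dotProduct]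
    abel
  have hequiv : ∀ g v, ρ g (Ψ v) = Ψ ((g : Matrix (Fin 2) (Fin 2) F) *ᵥ v) := by
    intro g
    have hg : g ∈ Submonoid.closure (Set.range (upper (F := F)) ∪ {weyl}) := by
      rw [closure_generators]; trivial
    induction hg using Submonoid.closure_induction with
    | mem x hx => rcases hx with ⟨t, rfl⟩ | rfl; exacts [hup t, hwe]
    | one => intro v; rw [hone]; simp
    | mul x y _ _ ihx ihy =>
      intro v; rw [hmul, ihy, ihx, Matrix.mulVec_mulVec, Matrix.SpecialLinearGroup.coe_mul]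
  have hinj : Function.Injective Ψ := (injective_iff_map_eq_zero Ψ).2 fun v hv => by
    have e : A (v 0) = -ρ w' (A (v 1)) := eq_neg_of_add_eq_zero_left hv
    have h0 := hdisj _ (hAmem (v 0)) (by rw [e]; exact neg_mem (hw1 _ (hAmem _)))
    have h1 : A (v 1) = 0 := by
      have : ρ w' (A (v 1)) = 0 := by rw [h0] at e; exact neg_eq_zero.1 e.symm
      rw [← hinv weyl (A (v 1)), ← hw', this, map_zero]
    funext i
    fin_cases i
    · exact hA0 _ h0
    · exact hA0 _ h1
  have hsurj : Function.Surjective Ψ := by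
    rw [← AddMonoidHom.range_eq_top]
    refine (hirr Ψ.range fun g m => ?_).resolve_left fun h => ha00 ?_
    · rintro ⟨v, rfl⟩; exact ⟨_, (hequiv g v).symm⟩
    · have hm : a0 ∈ Ψ.range := ⟨![1, 0], by simp [Ψ, A]⟩
      rw [h] at hm; exact hm
  let E := AddEquiv.ofBijective Ψ ⟨hinj, hsurj⟩
  refine ⟨E.symm, fun g m => E.injective ?_⟩
  rw [AddEquiv.apply_symm_apply]
  show ρ g m = Ψ _
  rw [← hequiv]
  congr 1
  exact (E.apply_symm_apply m).symm

end Cfsg.Agent.LocalStructure.SL2QuadModule
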