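import Mathlib
import Cfsg.Agent.LocalStructure.PIrreducible
import Cfsg.Agent.LocalStructure.WeaklyClosed
import Cfsg.Agent.LocalStructure.WeakClosureProduct
import Cfsg.Agent.LocalStructure.FrakMExists

/-!
# A transitive family of subgroups generating `O^p`
-/

set_option autoImplicit false
set_option linter.all false

namespace Cfsg.Agent.LocalStructure

open Subgroup
open scoped commutatorElement Pointwise

variable {H : Type*} [Group H] [Finite H] {p : ℕ} [hp : Fact p.Prime]

/-- The hypotheses on the family. -/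
structure TransFamily (p : ℕ) (𝒦 : Set (Subgroup H)) : Prop where
  nonempty : 𝒦.Nonempty
  inv : ∀ h : H, ∀ E ∈ 𝒦, cmap h E ∈ 𝒦
  trans : ∀ E ∈ 𝒦, ∀ K ∈ 𝒦, ∃ h : H, K = cmap h E
  res : Cfsg.pResidual p H ≤ sSup 𝒦
  norm : ∀ E ∈ 𝒦, sSup 𝒦 ⊔ Cfsg.pCore p H ≤ normalizer ((E ⊔ Cfsg.pCore p H : Subgroup H) : Set H)

theorem cmap_pCore (h : H) : cmap h (Cfsg.pCore p H) = Cfsg.pCore p H :=
  Core.map_pCore (MulAut.conj h)

theorem cmap_inf' (g : H) (A B : Subgroup H) : cmap g (A ⊓ B) = cmap g A ⊓ cmap g B :=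
  Subgroup.map_inf A B (MulAut.conj g).toMonoidHom (MulAut.conj g).injective

theorem cmap_sup_core (h : H) (E : Subgroup H) :
    cmap h (E ⊔ Cfsg.pCore p H) = cmap h E ⊔ Cfsg.pCore p H := by
  rw [cmap, Subgroup.map_sup]
  congr 1
  exact cmap_pCore h

theorem TransFamily.base_normal {𝒦 : Set (Subgroup H)} (h𝒦 : TransFamily p 𝒦) :
    (sSup 𝒦 ⊔ Cfsg.pCore p H).Normal := by
  haveI : (sSup 𝒦).Normal := by
    refine ⟨fun x hx g => ?_⟩
    have hle : sSup 𝒦 ≤ (sSup 𝒦).comap (MulAut.conj g).toMonoidHom :=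
      sSup_le fun E hE => map_le_iff_le_comap.mp (le_sSup (h𝒦.inv g E hE))
    exact hle hx
  infer_instance

theorem TransFamily.base_sup {𝒦 : Set (Subgroup H)} (h𝒦 : TransFamily p 𝒦) (T : Sylow p H) :
    (T : Subgroup H) ⊔ (sSup 𝒦 ⊔ Cfsg.pCore p H) = ⊤ :=
  top_le_iff.mp ((Fusion.sylow_sup_pResidual T).ge.trans (sup_le_sup_left (h𝒦.res.trans le_sup_left) _))

theorem TransFamily.subnormal {𝒦 : Set (Subgroup H)} (h𝒦 : TransFamily p 𝒦) {E : Subgroup H} (hE : E ∈ 𝒦) :
    (E ⊔ Cfsg.pCore p H).IsSubnormal := by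
  haveI := h𝒦.base_normal
  exact IsSubnormal.step _ _ (sup_le_sup_right (le_sSup hE) _) (Subgroup.Normal.isSubnormal inferInstance)
    (normal_subgroupOf_of_le_normalizer (h𝒦.norm E hE))

/-- The largest proper overgroup of `T ⊓ Y` in `Y`, if there is one. -/
def properOver (T Y : Subgroup H) : Subgroup H := sSup {X | T ⊓ Y ≤ X ∧ X < Y}

theorem properOver_spec {𝒦 : Set (Subgroup H)} (h𝒦 : TransFamily p 𝒦) {E : Subgroup H} (hE : E ∈ 𝒦)
    (hmin : ∀ T : Sylow p ↥E, Cfsg.IsMinimalOver (T : Subgroup ↥E)) (T : Sylow p H) :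
    (T : Subgroup H) ⊓ (E ⊔ Cfsg.pCore p H) ≤ properOver (T : Subgroup H) (E ⊔ Cfsg.pCore p H) ∧
      properOver (T : Subgroup H) (E ⊔ Cfsg.pCore p H) < E ⊔ Cfsg.pCore p H ∧
      ∃ T0 : Sylow p ↥E, (T0 : Subgroup ↥E).map E.subtype ≤ (T : Subgroup H) := by
  set U := Cfsg.pCore p H with hU
  set Y := E ⊔ U with hY
  have hUT : U ≤ (T : Subgroup H) := Core.pCore_le_sylow T
  have hdec : ∀ x ∈ (T : Subgroup H) ⊓ Y, ∃ e ∈ E, e ∈ (T : Subgroup H) ∧ ∃ u ∈ U, x = e * u := by
    intro x hx
    obtain ⟨e, he, u, hu, rfl⟩ := Subgroup.mem_sup_of_normal_right.mp hx.2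
    exact ⟨e, he, (mul_mem_cancel_right (hUT hu)).mp hx.1, u, hu, rfl⟩
  obtain ⟨T0, hT0⟩ := (((T.isPGroup'.to_le inf_le_left : IsPGroup p ((T : Subgroup H) ⊓ E : Subgroup H))
    ).comap_of_injective E.subtype E.subtype_injective).exists_le_sylow
  have hTT0 : (T : Subgroup H) ⊓ Y ≤ (T0 : Subgroup ↥E).map E.subtype ⊔ U := by
    intro x hx
    obtain ⟨e, he, heT, u, hu, rfl⟩ := hdec x hx
    exact mul_mem (mem_sup_left ⟨⟨e, he⟩, hT0 ⟨heT, he⟩, rfl⟩) (mem_sup_right hu)
  have hT0T : (T0 : Subgroup ↥E).map E.subtype ≤ (T : Subgroup H) := by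
    refine le_sup_left.trans ((le_of_not_dvd_relIndex ((T0.isPGroup'.map E.subtype).to_sup_of_normal_right
      Core.pCore_isPGroup) (sup_le_sup_right (map_subtype_le _) U) hTT0 ?_).trans inf_le_left)
    rw [inf_relIndex_right]
    exact not_dvd_relIndex_subnormal T (h𝒦.subnormal hE)
  obtain ⟨M, ⟨hM, hTM⟩, -⟩ := (hmin T0).2
  set B := M.map E.subtype ⊔ U with hB
  have hTB : (T : Subgroup H) ⊓ Y ≤ B := hTT0.trans (sup_le_sup_right (map_mono hTM) U)
  have hBY : B < Y := by
    refine lt_of_le_of_ne (sup_le_sup_right (map_subtype_le _) U) fun h => hM.1 (eq_top_iff.mpr fun e _ => ?_)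
    have he : (e : H) ∈ B := h.ge (mem_sup_left e.2)
    obtain ⟨_, ⟨m, hm, rfl⟩, u, hu, hmu⟩ := Subgroup.mem_sup_of_normal_right.mp he
    have huE : u ∈ E := (mul_mem_cancel_left m.2).mp (hmu ▸ e.2)
    have huM : (⟨u, huE⟩ : E) ∈ M := hTM ((le_trans (Core.le_pCore (N := U.subgroupOf E) (hN := normal_subgroupOf)
      (Core.pCore_isPGroup.comap_of_injective E.subtype E.subtype_injective)) (Core.pCore_le_sylow T0)) hu)
    have : e = m * ⟨u, huE⟩ := Subtype.ext hmu.symm
    exact this ▸ mul_mem hm huM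
  have hle : properOver (T : Subgroup H) Y ≤ B := by
    refine sSup_le fun X hX => fun x hx => ?_
    obtain ⟨hTX, hXY⟩ := hX
    have hUX : U ≤ X := le_trans (le_inf hUT le_sup_right) hTX
    have hXM : X.subgroupOf E ≤ M := by
      refine isMinimalOver_le (hmin T0) hM hTM (fun t ht => hTX ⟨hT0T ⟨t, ht, rfl⟩, mem_sup_left t.2⟩) fun h => ?_
      exact not_le_of_gt hXY (sup_le (subgroupOf_eq_top.mp h) hUX)
    obtain ⟨e, he, u, hu, rfl⟩ := Subgroup.mem_sup_of_normal_right.mp (hXY.le hx)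
    exact mul_mem (mem_sup_left ⟨⟨e, he⟩, hXM ((mul_mem_cancel_right (hUX hu)).mp hx), rfl⟩) (mem_sup_right hu)
  exact ⟨hTB.trans (le_sSup (s := {X | (T : Subgroup H) ⊓ Y ≤ X ∧ X < Y}) ⟨hTB, hBY⟩),
    lt_of_le_of_lt hle hBY, T0, hT0T⟩

/-- If the members are `p`-minimal, so is the group. -/
theorem TransFamily.minimalOver {𝒦 : Set (Subgroup H)} (h𝒦 : TransFamily p 𝒦)
    (hmin : ∀ E ∈ 𝒦, ∀ T : Sylow p ↥E, Cfsg.IsMinimalOver (T : Subgroup ↥E)) (T : Sylow p H) :
    Cfsg.IsMinimalOver (T : Subgroup H) := by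
  classical
  set U := Cfsg.pCore p H with hU
  set J := sSup 𝒦 ⊔ U with hJ
  haveI : J.Normal := h𝒦.base_normal
  have hUT : U ≤ (T : Subgroup H) := Core.pCore_le_sylow T
  have htop : (T : Subgroup H) ⊔ J = ⊤ := h𝒦.base_sup T
  set P : Subgroup H → Subgroup H := fun E => properOver (T : Subgroup H) (E ⊔ U) with hP
  have hspec := fun E (hE : E ∈ 𝒦) => properOver_spec h𝒦 hE (hmin E hE) T
  refine ⟨?_, ?_⟩
  · set N := normalClosure ((T : Subgroup H) : Set H) with hN
    have hTN : (T : Subgroup H) ≤ N := le_normalClosure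
    refine top_le_iff.mp (htop.ge.trans (sup_le hTN (sup_le (sSup_le fun E hE => ?_) (hUT.trans hTN))))
    obtain ⟨-, -, T0, hT0⟩ := hspec E hE
    have h1 := (hmin E hE T0).1
    have h2 : normalClosure ((T0 : Subgroup ↥E) : Set ↥E) ≤ N.subgroupOf E :=
      normalClosure_le_normal fun t ht => hTN (hT0 ⟨t, ht, rfl⟩)
    rw [h1, top_le_iff, subgroupOf_eq_top] at h2
    exact h2
  have hPconj : ∀ t ∈ (T : Subgroup H), ∀ E ∈ 𝒦, cmap t (P E) = P (cmap t E) := by
    have key : ∀ t ∈ (T : Subgroup H), ∀ E ∈ 𝒦, cmap t (P E) ≤ P (cmap t E) := by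
      intro t ht E hE
      refine le_sSup ⟨?_, ?_⟩
      · rw [← cmap_sup_core, ← cmap_eq_self_of_mem ht, ← cmap_inf']
        exact cmap_mono (hspec E hE).1
      · rw [← cmap_sup_core]
        exact map_lt_map_iff_of_injective (MulAut.conj t).injective |>.mpr (hspec E hE).2.1
    intro t ht E hE
    refine le_antisymm (key t ht E hE) ?_
    have := cmap_mono (g := t) (key t⁻¹ (inv_mem ht) (cmap t E) (h𝒦.inv t E hE))
    rwa [cmap_cmap_inv, cmap_inv_cmap] at this
  set R := J ⊓ ⨅ E ∈ 𝒦, normalizer ((P E : Subgroup H) : Set H) with hR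
  have hRmem : ∀ {x : H}, x ∈ R → ∀ E ∈ 𝒦, x ∈ normalizer ((P E : Subgroup H) : Set H) := by
    intro x hx E hE
    exact (mem_iInf.mp ((mem_iInf.mp hx.2) E)) hE
  have hbound : ∀ X : Subgroup H, (T : Subgroup H) ≤ X → X ≠ ⊤ → X ≤ (T : Subgroup H) ⊔ R := by
    intro X hTX hX x hx
    obtain ⟨t, ht, j, hj, rfl⟩ := Subgroup.mem_sup_of_normal_right.mp (htop.ge (mem_top x))
    refine mul_mem (mem_sup_left ht) (mem_sup_right ⟨hj, mem_iInf.mpr fun E => mem_iInf.mpr fun hE => ?_⟩)
    have hjX : j ∈ X := (mul_mem_cancel_left (hTX ht)).mp hx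
    have hnot : ¬ E ⊔ U ≤ X := by
      intro h
      refine hX (top_le_iff.mp (htop.ge.trans (sup_le hTX (sup_le (sSup_le fun K hK => ?_) (hUT.trans hTX)))))
      obtain ⟨g, rfl⟩ := h𝒦.trans E hE K hK
      obtain ⟨s, hs, i, hi, rfl⟩ := Subgroup.mem_sup_of_normal_right.mp (htop.ge (mem_top g))
      refine (cmap_mono (le_sup_left : E ≤ E ⊔ U)).trans ?_
      rw [cmap_mul, cmap_eq_iff.mpr (h𝒦.norm E hE hi)]
      exact (cmap_mono h).trans (cmap_eq_self_of_mem (hTX hs)).le
    have hlt : X ⊓ (E ⊔ U) < E ⊔ U := lt_of_le_of_ne inf_le_right fun e => hnot (e ▸ inf_le_left)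
    have hAP : X ⊓ (E ⊔ U) ≤ P E := le_sSup ⟨inf_le_inf_right _ hTX, hlt⟩
    have hjY : cmap j (E ⊔ U) = E ⊔ U := cmap_eq_iff.mpr (h𝒦.norm E hE hj)
    have hle : cmap j (P E) ≤ P E := by
      refine le_sSup ⟨?_, ?_⟩
      · refine le_trans (le_of_le_of_eq (inf_le_inf_right _ hTX) ?_) (cmap_mono hAP)
        rw [cmap_inf', cmap_eq_self_of_mem hjX, hjY]
      · exact hjY ▸ (map_lt_map_iff_of_injective (MulAut.conj j).injective).mpr (hspec E hE).2.1
    exact cmap_eq_iff.mp (eq_of_le_of_card_ge hle (card_map_of_injective (MulAut.conj j).injective).ge)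
  have hTR : (T : Subgroup H) ≤ normalizer (R : Set H) := by
    have key : ∀ t ∈ (T : Subgroup H), ∀ r ∈ R, t * r * t⁻¹ ∈ R := by
      intro t ht r hr
      refine ⟨(inferInstance : J.Normal).conj_mem r hr.1 t, mem_iInf.mpr fun E => mem_iInf.mpr fun hE => ?_⟩
      have h1 := hPconj t ht (cmap t⁻¹ E) (h𝒦.inv t⁻¹ E hE)
      rw [cmap_cmap_inv] at h1
      rw [← h1, normalizer_cmap]
      exact mem_cmap.mpr (by simpa [mul_assoc] using hRmem hr _ (h𝒦.inv t⁻¹ E hE))
    intro t ht
    refine mem_normalizer_iff.mpr fun r => ⟨key t ht r, fun h => ?_⟩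
    simpa [mul_assoc] using key t⁻¹ (inv_mem ht) _ h
  have hproper : (T : Subgroup H) ⊔ R ≠ ⊤ := by
    intro h
    have hTJ : (T : Subgroup H) ⊓ J ≤ R := fun t ht => ⟨ht.2, mem_iInf.mpr fun E => mem_iInf.mpr fun hE => by
      refine cmap_eq_iff.mp ((hPconj t ht.1 E hE).trans ?_)
      show properOver _ (cmap t E ⊔ U) = _
      rw [← cmap_sup_core, cmap_eq_iff.mpr (h𝒦.norm E hE ht.2)]⟩
    have hJR : J ≤ R := by
      intro j hj
      have hj' : j ∈ (((T : Subgroup H) ⊔ R : Subgroup H) : Set H) := h.ge (mem_top j)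
      rw [coe_mul_of_left_le_normalizer_right _ _ hTR] at hj'
      obtain ⟨t, ht, r, hr, rfl⟩ := hj'
      exact R.mul_mem (hTJ ⟨ht, (J.mul_mem_cancel_right hr.1).mp hj⟩) hr
    obtain ⟨E, hE⟩ := h𝒦.nonempty
    obtain ⟨hTP, hPlt, T0, hT0⟩ := hspec E hE
    have hEN : E ≤ normalizer ((P E : Subgroup H) : Set H) :=
      (le_sSup hE).trans (le_sup_left.trans (hJR.trans fun x hx => hRmem hx E hE))
    haveI : ((P E).subgroupOf E).Normal := normal_subgroupOf_of_le_normalizer hEN
    have h2 : normalClosure ((T0 : Subgroup ↥E) : Set ↥E) ≤ (P E).subgroupOf E :=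
      normalClosure_le_normal fun t ht => hTP ⟨hT0 ⟨t, ht, rfl⟩, mem_sup_left t.2⟩
    rw [(hmin E hE T0).1, top_le_iff, subgroupOf_eq_top] at h2
    exact not_le_of_gt hPlt (sup_le h2 (le_trans (le_inf hUT le_sup_right) hTP))
  obtain ⟨M, hM, hle⟩ := (eq_top_or_exists_le_coatom ((T : Subgroup H) ⊔ R)).resolve_left hproper
  refine ⟨M, ⟨hM, le_sup_left.trans hle⟩, fun X ⟨hX, hTX⟩ => ?_⟩
  by_contra hne
  rcases hX.le_iff.mp ((hbound X hTX hX.1).trans hle) with h | h
  · exact hM.1 h
  · exact hne h.symm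

/-- A strongly `p`-irreducible group is generated by its `p`-elements. -/
theorem top_le_of_pElements {G : Type*} [Group G] [Finite G] (h : Cfsg.IsStronglyPIrreducible p G)
    {M : Subgroup G} (hM : ∀ x : G, (∃ k, orderOf x = p ^ k) → x ∈ M) : M = ⊤ := by
  set S := closure {x : G | ∃ k, orderOf x = p ^ k} with hS
  haveI : S.Normal := by
    refine ⟨fun x hx g => ?_⟩
    suffices S ≤ S.comap (MulAut.conj g).toMonoidHom from this hx
    rw [hS, closure_le]
    rintro y ⟨k, hk⟩
    exact subset_closure ⟨k, by rw [(MulAut.conj g).toMonoidHom_eq_coe]; exact ((MulAut.conj g).orderOf_eq y).trans hk⟩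
  have hres : Cfsg.pResidual p G ≤ S := by
    refine h.2 S inferInstance fun hc => h.1 (isPClosed_iff.mpr fun x hx => ?_)
    exact isPClosed_normal_iff.mp (isPClosed_of_commutator_le hc) x (subset_closure hx) hx
  obtain ⟨T⟩ : Nonempty (Sylow p G) := inferInstance
  have hTS : (T : Subgroup G) ≤ S := fun x hx => subset_closure (by
    obtain ⟨k, hk⟩ := IsPGroup.iff_orderOf.mp T.2 ⟨x, hx⟩
    exact ⟨k, by rwa [Subgroup.orderOf_mk] at hk⟩)
  exact top_le_iff.mp (((Fusion.sylow_sup_pResidual T).ge.trans (sup_le hTS hres)).trans ((closure_le (K := M)).mpr hM))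

/-- A `p`-element cannot be moved by a central commutator in a subnormal subgroup when `O_p = 1`. -/
theorem commute_of_central_commutator {Y : Subgroup H} (hY : Y.IsSubnormal) (hO : Cfsg.pCore p H = ⊥)
    {a x : H} {k : ℕ} (hx : orderOf x = p ^ k) (hxY : x ∈ Y) (hc : ⁅a, x⁆ ∈ Y)
    (hcc : ∀ y ∈ Y, Commute ⁅a, x⁆ y) : Commute a x := by
  set c := ⁅a, x⁆ with hcdef
  have he : a * x * a⁻¹ = c * x := by rw [hcdef, commutatorElement_def]; group
  have h1 : c ^ p ^ k = 1 := by
    have h2 := congrArg (· ^ p ^ k) he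
    simp only [conj_pow, (hcc x hxY).mul_pow, ← hx, pow_orderOf_eq_one, mul_one, mul_inv_cancel] at h2
    rw [← hx]; exact h2.symm
  obtain ⟨j, -, hj⟩ := (Nat.dvd_prime_pow hp.out).mp (orderOf_dvd_of_pow_eq_one h1)
  have hsn : (zpowers c).IsSubnormal := by
    refine IsSubnormal.step _ Y (zpowers_le.mpr hc) hY (normal_subgroupOf_of_le_normalizer fun y hy => ?_)
    refine mem_normalizer_iff.mpr fun z => ?_
    constructor
    · intro hz
      obtain ⟨i, rfl⟩ := mem_zpowers_iff.mp hz
      rw [← ((hcc y hy).zpow_left i).eq, mul_inv_cancel_right]; exact hz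
    · intro hz
      obtain ⟨i, hi⟩ := mem_zpowers_iff.mp hz
      have : z = c ^ i := by
        have e := congrArg (fun w => y⁻¹ * w * y) hi
        simp only [((hcc y hy).zpow_left i).eq, mul_assoc, inv_mul_cancel_left] at e
        simpa [mul_assoc] using e.symm
      exact this ▸ mem_zpowers_iff.mpr ⟨i, rfl⟩
  have h3 := Layer.subnormal_le_pCore hsn (isPGroup_zpowers_of_orderOf hj) (mem_zpowers c)
  rw [hO, mem_bot, hcdef, commutatorElement_eq_one_iff_mul_comm] at h3
  exact h3

/-- If the members are strongly `p`-irreducible, the group is `p`-irreducible. -/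
theorem TransFamily.pIrreducible {𝒦 : Set (Subgroup H)} (h𝒦 : TransFamily p 𝒦)
    (hirr : ∀ E ∈ 𝒦, Cfsg.IsStronglyPIrreducible p ↥E) :
    Cfsg.IsPIrreducible p H ∧ ∀ E ∈ 𝒦, ∀ K ∈ 𝒦,
      resOf p (E ⊔ Cfsg.pCore p H) = resOf p (K ⊔ Cfsg.pCore p H) ∨ ⁅E, K⁆ ≤ Cfsg.pCore p H := by
  classical
  set U := Cfsg.pCore p H with hU
  set f := QuotientGroup.mk' U with hf
  have hfs : Function.Surjective f := QuotientGroup.mk'_surjective U
  have hO : Cfsg.pCore p (H ⧸ U) = ⊥ := Core.pCore_quotient_eq_bot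
  have hker : ∀ {x : H}, f x = 1 ↔ x ∈ U := fun {x} => QuotientGroup.eq_one_iff x
  -- cores of members lie in `U`
  have hcore : ∀ E ∈ 𝒦, Cfsg.pCoreOf p E ≤ U := fun E hE => by
    have hn : E ⊔ U ≤ normalizer ((Cfsg.pCoreOf p E ⊔ U : Subgroup H) : Set H) := by
      refine sup_le ?_ (le_sup_right.trans le_normalizer)
      exact le_trans (le_inf (le_normalizer_pCoreOf E) (by rw [normalizer_eq_top (H := U)]; exact le_top))
        (normalizer_inf_normalizer_le_normalizer_sup _ _)
    refine le_sup_left.trans (Layer.subnormal_le_pCore (IsSubnormal.step _ _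
      (sup_le_sup_right (pCoreOf_le E) U) (h𝒦.subnormal hE) (normal_subgroupOf_of_le_normalizer hn))
      ((pCoreOf_isPGroup E).to_sup_of_normal_right Core.pCore_isPGroup))
  -- the dichotomy for a normal subgroup of a member
  have hdich : ∀ E ∈ 𝒦, ∀ A : Subgroup H, E ≤ normalizer (A : Set H) →
      resOf p E ≤ A ∨ ⁅A ⊓ E, E⁆ ≤ U := by
    intro E hE A hEA
    haveI : (A.subgroupOf E).Normal := normal_subgroupOf_of_le_normalizer hEA
    by_cases h : ⁅A.subgroupOf E, (⊤ : Subgroup ↥E)⁆ ≤ Cfsg.pCore p ↥E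
    · right
      rw [commutator_le]
      rintro a ⟨haA, haE⟩ e he
      exact hcore E hE ⟨⁅(⟨a, haE⟩ : E), ⟨e, he⟩⁆, h (commutator_mem_commutator haA (mem_top _)), rfl⟩
    · left
      rintro _ ⟨x, hx, rfl⟩
      exact (hirr E hE).2 _ inferInstance h hx
  refine ⟨⟨?_, ?_⟩, ?_⟩
  · intro hcl
    obtain ⟨E, hE⟩ := h𝒦.nonempty
    refine (hirr E hE).1 (isPClosed_iff.mpr fun x ⟨k, hk⟩ => ?_)
    have : (x : H) ∈ U := isPClosed_iff.mp hcl _ ⟨k, by rwa [Subgroup.orderOf_coe]⟩
    exact Core.le_pCore (N := U.subgroupOf E) (hN := normal_subgroupOf)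
      (Core.pCore_isPGroup.comap_of_injective E.subtype E.subtype_injective) this
  · intro N hN hncl
    haveI := hN
    by_contra hres
    have hsome : ∀ E ∈ 𝒦, ¬ resOf p E ≤ N ⊔ U := by
      intro E hE h
      apply hres
      haveI : (Cfsg.pCore p (H ⧸ N)).Normal := inferInstance
      have hall : ∀ K ∈ 𝒦, resOf p K ≤ N ⊔ U := by
        intro K hK
        obtain ⟨g, rfl⟩ := h𝒦.trans E hE K hK
        refine resOf_le_iff.mpr fun x hx hc => ?_
        have h1 := h (mem_resOf (mem_cmap.mp hx) (by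
          rw [show g⁻¹ * x * g = g⁻¹ * x * g⁻¹⁻¹ by rw [inv_inv], orderOf_conj]; exact hc))
        have := (inferInstance : (N ⊔ U).Normal).conj_mem _ h1 g
        simpa [mul_assoc] using this
      set φ := QuotientGroup.mk' (N ⊔ U) with hφ
      have hJ : ∀ K ∈ 𝒦, K.map φ ≤ Cfsg.pCore p (H ⧸ (N ⊔ U)) := by
        intro K hK
        have hKp : IsPGroup p (K.map φ) := by
          refine isPGroup_of_forall_coprime fun y hy hc => ?_
          obtain ⟨x, hx, rfl⟩ := hy
          obtain ⟨a, b, hab, -, haz, hbz, ⟨j, hj⟩, hb⟩ :=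
            Fusion.exists_pPart_mul (p := p) x (isOfFinOrder_of_finite x)
          have hb1 : φ b = 1 := (QuotientGroup.eq_one_iff b).mpr (hall K hK (mem_resOf (zpowers_le.mpr hx hbz) hb))
          rw [hab, map_mul, hb1, mul_one] at hc ⊢
          obtain ⟨i, -, hi⟩ := (Nat.dvd_prime_pow hp.out).mp hj
          exact orderOf_eq_one_iff.mp (Nat.eq_one_of_dvd_coprimes (hc.pow_right i) dvd_rfl (hi ▸ orderOf_map_dvd φ a))
        have hsn := (h𝒦.subnormal hK).map (f := φ) (QuotientGroup.mk'_surjective _)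
        refine le_trans ?_ (Layer.subnormal_le_pCore hsn ?_)
        · exact map_mono le_sup_left
        · rw [Subgroup.map_sup, show U.map φ = ⊥ from (Subgroup.map_eq_bot_iff _).mpr
            (by rw [hφ, QuotientGroup.ker_mk']; exact le_sup_right), sup_bot_eq]
          exact hKp
      refine pResidual_le_of_le_sup (D := U) Core.pCore_isPGroup ?_
      refine (closure_le (K := N ⊔ U)).mpr fun x hc => ?_
      have h1 : φ x ∈ Cfsg.pCore p (H ⧸ (N ⊔ U)) :=
        (map_le_iff_le_comap.mpr (sSup_le fun K hK => map_le_iff_le_comap.mp (hJ K hK)))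
          (mem_map_of_mem φ (h𝒦.res (subset_closure hc)))
      obtain ⟨i, hi⟩ := IsPGroup.iff_orderOf.mp Core.pCore_isPGroup (⟨_, h1⟩ : Cfsg.pCore p (H ⧸ (N ⊔ U)))
      rw [Subgroup.orderOf_mk] at hi
      refine (QuotientGroup.eq_one_iff x).mp (orderOf_eq_one_iff.mp ?_)
      exact Nat.eq_one_of_dvd_coprimes (Nat.Coprime.pow_right i hc) (orderOf_map_dvd φ x) hi.dvd
    set J := (sSup 𝒦).map f with hJ
    haveI hJn : J.Normal := by
      have := h𝒦.base_normal
      have h2 : (sSup 𝒦 ⊔ U).map f = J := by rw [Subgroup.map_sup, hf, QuotientGroup.map_mk'_self, sup_bot_eq]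
      exact h2 ▸ Normal.map this f hfs
    haveI : ((N ⊔ U).map f).Normal := Normal.map inferInstance f hfs
    -- `N ∩ J` centralizes `J` modulo `U`
    have hNJ : (N ⊔ U).map f ⊓ J ≤ centralizer (J : Set (H ⧸ U)) := by
      rintro _ ⟨⟨n, hn, rfl⟩, hnJ⟩
      have hcomm : ∀ E ∈ 𝒦, E ≤ (centralizer {f n}).comap f := by
        intro E hE
        have hnE : cmap n (E ⊔ U) = E ⊔ U := by
          refine cmap_eq_iff.mpr ?_
          obtain ⟨j, hj, hjn⟩ := hnJ
          have hu : j⁻¹ * n ∈ U := QuotientGroup.eq.mp hjn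
          have := mul_mem (h𝒦.norm E hE (mem_sup_left hj)) (h𝒦.norm E hE (mem_sup_right hu))
          simpa using this
        have hgen : ((centralizer {f n}).comap f).subgroupOf E = ⊤ := by
          refine top_le_of_pElements (hirr E hE) fun x ⟨k, hk⟩ => ?_
          show f x ∈ centralizer {f n}
          rw [mem_centralizer_singleton_iff]
          obtain ⟨k', -, hk'⟩ := (Nat.dvd_prime_pow hp.out).mp
            ((orderOf_map_dvd f (x : H)).trans (by rw [Subgroup.orderOf_coe, hk]))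
          have hc0 : ⁅n, (x : H)⁆ ∈ (N ⊔ U) ⊓ (E ⊔ U) := by
            refine ⟨?_, ?_⟩
            · rw [commutatorElement_def, mul_assoc, mul_assoc]
              exact mul_mem hn (by
                rw [← mul_assoc]
                exact (inferInstance : (N ⊔ U).Normal).conj_mem _ (inv_mem hn) _)
            · rw [commutatorElement_def]
              exact (E ⊔ U).mul_mem (hnE.le ⟨x, mem_sup_left x.2, rfl⟩) ((E ⊔ U).inv_mem (mem_sup_left x.2))
          obtain ⟨z, hz, u, hu, hzu⟩ := Subgroup.mem_sup_of_normal_right.mp hc0.2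
          have hzN : z ∈ (N ⊔ U) ⊓ E :=
            ⟨(mul_mem_cancel_right (mem_sup_right hu)).mp (hzu ▸ hc0.1), hz⟩
          have hN0 : ⁅(N ⊔ U) ⊓ E, E⁆ ≤ U :=
            (hdich E hE (N ⊔ U) (by rw [normalizer_eq_top]; exact le_top)).resolve_left (hsome E hE)
          have hfz : ⁅f n, f x⁆ = f z := by
            rw [← map_commutatorElement, ← hzu, map_mul, hker.mpr hu, mul_one]
          have hsn := (h𝒦.subnormal hE).map (f := f) hfs
          have hEU : (E ⊔ U).map f = E.map f := by rw [Subgroup.map_sup, hf, QuotientGroup.map_mk'_self, sup_bot_eq]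
          rw [hEU] at hsn
          refine (commute_of_central_commutator hsn hO hk' (mem_map_of_mem f x.2) ?_ ?_).eq.symm
          · rw [hfz]; exact mem_map_of_mem f hz
          · rintro _ ⟨e, he, rfl⟩
            rw [hfz]
            show f z * f e = f e * f z
            rw [← commutatorElement_eq_one_iff_mul_comm, ← map_commutatorElement, hker]
            exact hN0 (commutator_mem_commutator hzN he)
        exact subgroupOf_eq_top.mp hgen
      rw [mem_centralizer_iff]
      rintro _ ⟨j, hj, rfl⟩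
      exact mem_centralizer_singleton_iff.mp (sSup_le hcomm hj)
    have hNC : (N ⊔ U).map f ≤ centralizer (J : Set (H ⧸ U)) := by
      rintro _ ⟨n, hn, rfl⟩
      rw [mem_centralizer_iff]
      rintro _ ⟨j, hj, rfl⟩
      have key : sSup 𝒦 ≤ (centralizer {f n}).comap f := sSup_le fun E hE => by
        refine subgroupOf_eq_top.mp (top_le_of_pElements (hirr E hE) fun x ⟨k, hk⟩ => ?_)
        show f x ∈ centralizer {f n}
        rw [mem_centralizer_singleton_iff]
        obtain ⟨k', -, hk'⟩ := (Nat.dvd_prime_pow hp.out).mp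
          ((orderOf_map_dvd f (x : H)).trans (by rw [Subgroup.orderOf_coe, hk]))
        have hxJ : f x ∈ J := mem_map_of_mem f (le_sSup hE x.2)
        have hcJ : ⁅f n, f x⁆ ∈ (N ⊔ U).map f ⊓ J := by
          refine ⟨?_, ?_⟩
          · rw [commutatorElement_def, mul_assoc, mul_assoc]
            exact mul_mem (mem_map_of_mem f hn) (by
              rw [← mul_assoc]
              exact (inferInstance : ((N ⊔ U).map f).Normal).conj_mem _ (inv_mem (mem_map_of_mem f hn)) _)
          · rw [commutatorElement_def]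
            exact J.mul_mem (hJn.conj_mem _ hxJ _) (J.inv_mem hxJ)
        exact (commute_of_central_commutator hJn.isSubnormal hO hk' hxJ hcJ.2
          (fun y hy => (mem_centralizer_iff.mp (hNJ hcJ) y hy).symm)).eq.symm
      exact mem_centralizer_singleton_iff.mp (key hj)
    -- so `N` is `p`-closed
    apply hncl
    rw [isPClosed_normal_iff]
    rintro x hx ⟨k, hk⟩
    set K := Cfsg.pResidual p (H ⧸ U) with hK
    haveI : K.Normal := by
      haveI := Fusion.pResidual_characteristic (p := p) (G := H ⧸ U)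
      exact normal_of_characteristic _
    have hKJ : K ≤ J := (Fusion.map_pResidual_of_surjective f hfs).ge.trans (map_mono h𝒦.res)
    set C := centralizer (K : Set (H ⧸ U)) with hC
    haveI : C.Normal := by
      rw [← normalizer_eq_top_iff, eq_top_iff]
      exact Coprime.le_normalizer_centralizer (by rw [normalizer_eq_top (H := K)])
    let g : C →* (H ⧸ U) ⧸ K := (QuotientGroup.mk' K).comp C.subtype
    have hgk : g.ker ≤ center C := fun c hc => by
      have hcK : (c : H ⧸ U) ∈ K := (QuotientGroup.eq_one_iff _).1 hc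
      exact mem_center_iff.2 fun d => Subtype.ext (mem_centralizer_iff.1 d.2 _ hcK).symm
    haveI : Group.IsNilpotent ((H ⧸ U) ⧸ K) := Fusion.isPGroup_quotient_pResidual.isNilpotent
    haveI : Group.IsNilpotent C := Subgroup.isNilpotent_of_ker_le_center g hgk
    have hclC : Cfsg.IsPClosed p C := fun P =>
      P.normal_of_normalizerCondition Group.normalizerCondition_of_isNilpotent
    have hxC : f x ∈ C := centralizer_le (SetLike.coe_subset_coe.mpr hKJ) (hNC (mem_map_of_mem f (mem_sup_left hx)))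
    obtain ⟨i, -, hi⟩ := (Nat.dvd_prime_pow hp.out).mp ((orderOf_map_dvd f x).trans hk.dvd)
    have := isPClosed_normal_iff.mp hclC _ hxC ⟨i, hi⟩
    rw [hO, mem_bot, hker] at this
    exact this
  · intro E hE K hK
    rcases hdich E hE (K ⊔ U) ((le_sSup hE).trans (le_sup_left.trans (h𝒦.norm K hK))) with h | h
    · left
      obtain ⟨g, rfl⟩ := h𝒦.trans E hE K hK
      have hle : resOf p (E ⊔ U) ≤ resOf p (cmap g E ⊔ U) := by
        refine resOf_le_iff.mpr fun x hx hc => mem_resOf ?_ hc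
        obtain ⟨T0⟩ : Nonempty (Sylow p ↥E) := inferInstance
        have h1 : E ≤ resOf p E ⊔ (T0 : Subgroup ↥E).map E.subtype := by
          intro e he
          have := mem_map_of_mem E.subtype ((Fusion.sylow_sup_pResidual T0).ge (mem_top ⟨e, he⟩))
          rwa [Subgroup.map_sup, sup_comm] at this
        have hn : (T0 : Subgroup ↥E).map E.subtype ≤ normalizer ((resOf p E ⊔ U : Subgroup H) : Set H) :=
          le_trans (le_inf ((map_subtype_le _).trans (le_normalizer_resOf p le_normalizer))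
            (by rw [normalizer_eq_top (H := U)]; exact le_top)) (normalizer_inf_normalizer_le_normalizer_sup _ _)
        have h2 := mem_of_coprime_of_mem_sup' hn (T0.isPGroup'.map E.subtype) (g := x) ?_ hc
        · exact (sup_le h le_sup_right : resOf p E ⊔ U ≤ cmap g E ⊔ U) h2
        · exact (sup_le (h1.trans (sup_le (le_sup_left.trans le_sup_left) le_sup_right))
            (le_sup_right.trans le_sup_left)) hx
      refine eq_of_le_of_card_ge hle ?_
      have e : resOf p (cmap g E ⊔ U) = cmap g (resOf p (E ⊔ U)) := by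
        rw [← cmap_sup_core, resOf_eq_closure, resOf_eq_closure,
          show ∀ S : Set H, cmap g (closure S) = closure (⇑(MulAut.conj g).toMonoidHom '' S) from fun S => MonoidHom.map_closure _ S]
        congr 1
        ext y
        constructor
        · rintro ⟨⟨z, hz, rfl⟩, hc⟩
          exact ⟨z, ⟨hz, by rwa [show (MulAut.conj g).toMonoidHom z = g * z * g⁻¹ from rfl, orderOf_conj] at hc⟩, rfl⟩
        · rintro ⟨z, ⟨hz, hc⟩, rfl⟩
          exact ⟨⟨z, hz, rfl⟩, by rwa [show (MulAut.conj g).toMonoidHom z = g * z * g⁻¹ from rfl, orderOf_conj]⟩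
      rw [e, cmap, card_map_of_injective (MulAut.conj g).injective]
    · right
      rw [commutator_comm, commutator_le]
      intro a ha e he
      have hKN : K ≤ normalizer ((E ⊔ U : Subgroup H) : Set H) := (le_sSup hK).trans (le_sup_left.trans (h𝒦.norm E hE))
      have hEN : E ≤ normalizer ((K ⊔ U : Subgroup H) : Set H) := (le_sSup hE).trans (le_sup_left.trans (h𝒦.norm K hK))
      have hgen : ((centralizer {f a}).comap f).subgroupOf E = ⊤ := by
        refine top_le_of_pElements (hirr E hE) fun x ⟨k, hk⟩ => ?_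
        show f x ∈ centralizer {f a}
        rw [mem_centralizer_singleton_iff]
        obtain ⟨k', -, hk'⟩ := (Nat.dvd_prime_pow hp.out).mp
          ((orderOf_map_dvd f (x : H)).trans (by rw [Subgroup.orderOf_coe, hk]))
        have hc1 : ⁅a, (x : H)⁆ ∈ E ⊔ U := by
          rw [commutatorElement_def]
          exact mul_mem ((mem_normalizer_iff.mp (hKN ha) _).mp (mem_sup_left x.2)) (inv_mem (mem_sup_left x.2))
        have hc2 : ⁅a, (x : H)⁆ ∈ K ⊔ U := by
          rw [commutatorElement_def, mul_assoc, mul_assoc]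
          exact mul_mem (mem_sup_left ha) (by
            rw [← mul_assoc]
            exact (mem_normalizer_iff.mp (hEN x.2) _).mp (inv_mem (mem_sup_left ha)))
        obtain ⟨z, hz, u, hu, hzu⟩ := Subgroup.mem_sup_of_normal_right.mp hc1
        have hzN : z ∈ (K ⊔ U) ⊓ E :=
          ⟨(mul_mem_cancel_right (mem_sup_right hu)).mp (hzu ▸ hc2), hz⟩
        have hfz : ⁅f a, f x⁆ = f z := by
          rw [← map_commutatorElement, ← hzu, map_mul, hker.mpr hu, mul_one]
        have hsn := (h𝒦.subnormal hE).map (f := f) hfs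
        have hEU : (E ⊔ U).map f = E.map f := by rw [Subgroup.map_sup, hf, QuotientGroup.map_mk'_self, sup_bot_eq]
        rw [hEU] at hsn
        refine (commute_of_central_commutator hsn hO hk' (mem_map_of_mem f x.2) ?_ ?_).eq.symm
        · rw [hfz]; exact mem_map_of_mem f hz
        · rintro _ ⟨e', he', rfl⟩
          rw [hfz]
          show f z * f e' = f e' * f z
          rw [← commutatorElement_eq_one_iff_mul_comm, ← map_commutatorElement, hker]
          exact h (commutator_mem_commutator hzN he')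
      have h3 := mem_centralizer_singleton_iff.mp (subgroupOf_eq_top.mp hgen he)
      rw [← hker, map_commutatorElement, commutatorElement_eq_one_iff_mul_comm]
      exact h3.symm

end Cfsg.Agent.LocalStructure
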