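import Mathlib
import Cfsg.Prelude.Def_LocalStructure
import Cfsg.Agent.LocalStructure.VertexClosure
import Cfsg.Agent.LocalStructure.PResidual
import Cfsg.Agent.LocalStructure.ThreeSubgroup
import Cfsg.Agent.Fusion.Residual

/-!
# The iterated closures `V_λ^{(n)}` on the coset graph
-/

set_option autoImplicit false
set_option linter.all false

namespace Cfsg.Agent.LocalStructure

open Subgroup
open scoped commutatorElement Pointwise

variable {X : Type*} [Group X] {M₁ M₂ : Subgroup X} {p : ℕ}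

local notation "Γ" => Cfsg.cosetGraph M₁ M₂

theorem cmap_omegaOne (g : X) (H : Subgroup X) : cmap g (Cfsg.omegaOne p H) = Cfsg.omegaOne p (cmap g H) := by
  unfold Cfsg.omegaOne
  rw [show ∀ S : Set X, cmap g (closure S) = closure (⇑(MulAut.conj g).toMonoidHom '' S) from
    fun S => MonoidHom.map_closure _ S]
  congr 1
  ext y
  constructor
  · rintro ⟨x, ⟨hx, hxp⟩, rfl⟩
    exact ⟨⟨x, hx, rfl⟩, by rw [← map_pow, hxp, map_one]⟩
  · rintro ⟨⟨x, hx, rfl⟩, hp⟩
    rw [← map_pow] at hp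
    exact ⟨x, ⟨hx, (MulAut.conj g).injective (hp.trans (map_one _).symm)⟩, rfl⟩

theorem cmap_centerClosure_le [Fact p.Prime] (g : X) (H : Subgroup X) [Finite H] :
    cmap g (Cfsg.sylowCenterClosure p H) ≤ Cfsg.sylowCenterClosure p (cmap g H) := by
  show Subgroup.map _ (⨆ S : Sylow p H, _) ≤ _
  rw [Subgroup.map_iSup]
  refine iSup_le fun S => ?_
  set e : H ≃* cmap g H := Subgroup.equivMapOfInjective H _ (MulAut.conj g).injective with he
  set S' : Sylow p (cmap g H) := S.mapSurjective (f := e.toMonoidHom) e.surjective with hS'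
  have hmap : (S' : Subgroup (cmap g H)).map (cmap g H).subtype = cmap g ((S : Subgroup H).map H.subtype) := by
    show ((S : Subgroup H).map e.toMonoidHom).map (cmap g H).subtype = _
    show _ = ((S : Subgroup H).map H.subtype).map (MulAut.conj g).toMonoidHom
    rw [Subgroup.map_map, Subgroup.map_map]
    rfl
  refine le_trans (le_of_eq ?_) (le_iSup _ S')
  rw [hmap]
  show cmap g (Cfsg.omegaOne p _) = _
  rw [cmap_omegaOne, centralizer_cmap]
  congr 1
  exact Subgroup.map_inf _ _ _ (MulAut.conj g).injective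

theorem cmap_stabilizer (g : X) (δ : Cfsg.CosetVertex M₁ M₂) :
    cmap g (MulAction.stabilizer X δ) = MulAction.stabilizer X (g • δ) :=
  (MulAction.stabilizer_smul_eq_stabilizer_map_conj g δ).symm

theorem cmap_vertexZ_le [Fact p.Prime] (g : X) (δ : Cfsg.CosetVertex M₁ M₂) [Finite (MulAction.stabilizer X δ)] :
    cmap g (Cfsg.vertexZ p δ) ≤ Cfsg.vertexZ p (g • δ) := by
  refine (cmap_centerClosure_le g _).trans (le_of_eq ?_)
  rw [cmap_stabilizer]

theorem dist_smul_le (hgen : M₁ ⊔ M₂ = ⊤) (g : X) (a b : Cfsg.CosetVertex M₁ M₂) :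
    (Γ).dist (g • a) (g • b) ≤ (Γ).dist a b := by
  obtain ⟨w, hw⟩ := ((connected_of_sup_eq_top hgen).preconnected a b).exists_walk_length_eq_dist
  rw [← hw]
  let φ : (Γ) →g (Γ) := ⟨fun v => g • v, fun h => adj_smul g h⟩
  exact (SimpleGraph.dist_le (w.map φ)).trans (le_of_eq (SimpleGraph.Walk.length_map φ w))

variable [hp : Fact p.Prime]

theorem cmap_vertexVIter_le (h : Cfsg.IsCharPAmalgamPair p M₁ M₂) (g : X) (n : ℕ) (δ : Cfsg.CosetVertex M₁ M₂) :
    cmap g (Cfsg.vertexVIter p M₁ M₂ n δ) ≤ Cfsg.vertexVIter p M₁ M₂ n (g • δ) := by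
  show Subgroup.map _ (⨆ μ : {μ // (Γ).dist δ μ ≤ n}, _) ≤ _
  rw [Subgroup.map_iSup]
  refine iSup_le fun μ => ?_
  have := finite_stabilizer h μ.1
  exact (cmap_vertexZ_le g μ.1).trans
    (le_iSup (fun μ : {μ // (Γ).dist (g • δ) μ ≤ n} => Cfsg.vertexZ p μ.1) ⟨g • μ.1, (dist_smul_le h.1.1 g δ μ.1).trans μ.2⟩)

theorem stabilizer_le_normalizer_vertexVIter (h : Cfsg.IsCharPAmalgamPair p M₁ M₂) (n : ℕ)
    (δ : Cfsg.CosetVertex M₁ M₂) :
    MulAction.stabilizer X δ ≤ normalizer ((Cfsg.vertexVIter p M₁ M₂ n δ : Subgroup X) : Set X) := by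
  have key : ∀ g ∈ MulAction.stabilizer X δ, cmap g (Cfsg.vertexVIter p M₁ M₂ n δ) ≤ Cfsg.vertexVIter p M₁ M₂ n δ := by
    intro g hg
    have := cmap_vertexVIter_le h g n δ
    rwa [MulAction.mem_stabilizer_iff.mp hg] at this
  intro g hg
  refine mem_normalizer_of_conj_le (fun a ha => key g hg ⟨a, ha, rfl⟩) fun a ha => ?_
  simpa using key g⁻¹ (inv_mem hg) ⟨a, ha, rfl⟩

theorem vertexZ_le_vertexVIter (n : ℕ) (δ : Cfsg.CosetVertex M₁ M₂) :
    Cfsg.vertexZ p δ ≤ Cfsg.vertexVIter p M₁ M₂ n δ :=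
  le_iSup (fun μ : {μ // (Γ).dist δ μ ≤ n} => Cfsg.vertexZ p μ.1) ⟨δ, by simp⟩

theorem vertexVIter_le_of_adj (h : Cfsg.IsCharPAmalgamPair p M₁ M₂) {δ μ : Cfsg.CosetVertex M₁ M₂}
    (hμ : (Γ).Adj δ μ) (m : ℕ) : Cfsg.vertexVIter p M₁ M₂ m μ ≤ Cfsg.vertexVIter p M₁ M₂ (m + 1) δ := by
  refine iSup_le fun ν => le_iSup (fun ν : {ν // (Γ).dist δ ν ≤ m + 1} => Cfsg.vertexZ p ν.1) ⟨ν.1, ?_⟩
  refine ((connected_of_sup_eq_top h.1.1).dist_triangle (v := μ)).trans ?_
  rw [SimpleGraph.dist_eq_one_iff_adj.mpr hμ]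
  have := ν.2
  omega

/-- Every vertex has a Sylow subgroup on each edge, shared with the neighbour. -/
theorem exists_sylow_pair (h : Cfsg.IsCharPAmalgamPair p M₁ M₂) {δ μ : Cfsg.CosetVertex M₁ M₂}
    (hμ : (Γ).Adj δ μ) : ∃ (P : Sylow p (MulAction.stabilizer X δ)) (P' : Sylow p (MulAction.stabilizer X μ))
      (S : Sylow p (Cfsg.edgeStabilizer δ μ)),
      (P : Subgroup (MulAction.stabilizer X δ)).map (MulAction.stabilizer X δ).subtype =
        (S : Subgroup (Cfsg.edgeStabilizer δ μ)).map (Cfsg.edgeStabilizer δ μ).subtype ∧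
      (P' : Subgroup (MulAction.stabilizer X μ)).map (MulAction.stabilizer X μ).subtype =
        (S : Subgroup (Cfsg.edgeStabilizer δ μ)).map (Cfsg.edgeStabilizer δ μ).subtype := by
  obtain ⟨S⟩ : Nonempty (Sylow p (Cfsg.edgeStabilizer δ μ)) := inferInstance
  obtain ⟨P, hP⟩ := exists_sylow_eq_of_edge h hμ S
  suffices gen : ∀ (K : Subgroup X) (E : Sylow p K), K = Cfsg.edgeStabilizer μ δ →
      ∃ P : Sylow p (MulAction.stabilizer X μ), (P : Subgroup (MulAction.stabilizer X μ)).map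
        (MulAction.stabilizer X μ).subtype = (E : Subgroup K).map K.subtype by
    obtain ⟨P', hP'⟩ := gen _ S (inf_comm _ _)
    exact ⟨P, P', S, hP, hP'⟩
  rintro K E rfl
  exact exists_sylow_eq_of_edge h hμ.symm E

theorem vertexZ_le_neighbours (h : Cfsg.IsCharPAmalgamPair p M₁ M₂) (δ : Cfsg.CosetVertex M₁ M₂) :
    Cfsg.vertexZ p δ ≤ ⨆ μ : {μ // (Γ).Adj δ μ}, Cfsg.vertexZ p μ.1 := by
  have := finite_stabilizer h δ
  refine iSup_le fun S => ?_
  obtain ⟨μ₀, hμ₀⟩ := exists_adj δ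
  obtain ⟨P, P', S₀, hP, hP'⟩ := exists_sylow_pair h hμ₀
  obtain ⟨g, rfl⟩ := MulAction.exists_smul_eq (MulAction.stabilizer X δ) P S
  have := finite_stabilizer h μ₀
  have hadj : (Γ).Adj δ ((g : X) • μ₀) := by
    have := adj_smul (g : X) hμ₀
    rwa [MulAction.mem_stabilizer_iff.mp g.2] at this
  refine le_iSup_of_le ⟨(g : X) • μ₀, hadj⟩ ((le_of_eq (b := cmap (g : X) (Cfsg.omegaOne p ((P : Subgroup _).map
    (MulAction.stabilizer X δ).subtype ⊓ centralizer (((P : Subgroup _).map (MulAction.stabilizer X δ).subtype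
      : Subgroup X) : Set X)))) ?_).trans ((cmap_mono ?_).trans (cmap_vertexZ_le (g : X) μ₀)))
  · show _ = cmap (g : X) (Cfsg.omegaOne p ((P : Subgroup _).map (MulAction.stabilizer X δ).subtype ⊓
      centralizer (((P : Subgroup _).map (MulAction.stabilizer X δ).subtype : Subgroup X) : Set X)))
    have hg : ((g • P : Sylow p (MulAction.stabilizer X δ)) : Subgroup (MulAction.stabilizer X δ)).map
        (MulAction.stabilizer X δ).subtype = cmap (g : X) ((P : Subgroup _).map (MulAction.stabilizer X δ).subtype) := by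
      rw [Sylow.coe_subgroup_smul, Coprime.conj_smul_eq_map, Subgroup.map_map, cmap, Subgroup.map_map]
      rfl
    rw [hg, cmap_omegaOne, centralizer_cmap]
    congr 1
    exact (Subgroup.map_inf _ _ _ (MulAut.conj (g : X)).injective).symm
  · rw [hP, ← hP']
    exact le_iSup (fun S : Sylow p (MulAction.stabilizer X μ₀) => Cfsg.omegaOne p
      ((S : Subgroup (MulAction.stabilizer X μ₀)).map (MulAction.stabilizer X μ₀).subtype ⊓
        centralizer (((S : Subgroup (MulAction.stabilizer X μ₀)).map (MulAction.stabilizer X μ₀).subtype : Subgroup X) : Set X))) P'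

theorem vertexVIter_succ_le (h : Cfsg.IsCharPAmalgamPair p M₁ M₂) (m : ℕ) (δ : Cfsg.CosetVertex M₁ M₂) :
    Cfsg.vertexVIter p M₁ M₂ (m + 1) δ ≤ ⨆ μ : {μ // (Γ).Adj δ μ}, Cfsg.vertexVIter p M₁ M₂ m μ.1 := by
  refine iSup_le fun ν => ?_
  by_cases hν : δ = ν.1
  · rw [← hν]
    refine (vertexZ_le_neighbours h δ).trans (iSup_mono fun μ => vertexZ_le_vertexVIter m μ.1)
  · obtain ⟨μ, hμ, hd⟩ := exists_adj_dist_lt ((connected_of_sup_eq_top h.1.1).preconnected δ ν.1) hν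
    refine le_iSup_of_le ⟨μ, hμ⟩ (le_iSup (fun ν : {ν // (Γ).dist μ ν ≤ m} => Cfsg.vertexZ p ν.1) ⟨ν.1, ?_⟩)
    have := ν.2
    omega

/-- The normalizer of a common Sylow subgroup fixes the edge. -/
theorem spe_normalizer_le (h : Cfsg.IsSpeAmalgamPair p M₁ M₂) {δ μ : Cfsg.CosetVertex M₁ M₂}
    (hμ : (Γ).Adj δ μ) (S : Sylow p (Cfsg.edgeStabilizer δ μ)) :
    MulAction.stabilizer X δ ⊓ normalizer
      (((S : Subgroup (Cfsg.edgeStabilizer δ μ)).map (Cfsg.edgeStabilizer δ μ).subtype : Subgroup X) : Set X) ≤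
      MulAction.stabilizer X μ := by
  obtain ⟨hcp, hN, -, -⟩ := h
  have hfinδ := finite_stabilizer hcp δ
  have hfinμ := finite_stabilizer hcp μ
  set T : Subgroup X := (S : Subgroup (Cfsg.edgeStabilizer δ μ)).map (Cfsg.edgeStabilizer δ μ).subtype with hT
  obtain ⟨x, hx⟩ : ∃ x : X, (MulAction.stabilizer X δ = cmap x M₁ ∧ MulAction.stabilizer X μ = cmap x M₂) ∨
      (MulAction.stabilizer X μ = cmap x M₁ ∧ MulAction.stabilizer X δ = cmap x M₂) := by
    obtain ⟨x, ⟨rfl, rfl⟩ | ⟨rfl, rfl⟩⟩ := adj_iff.mp hμ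
    · exact ⟨x, Or.inl ⟨stabilizer_inl x, stabilizer_inr x⟩⟩
    · exact ⟨x, Or.inr ⟨stabilizer_inl x, stabilizer_inr x⟩⟩
  set T₀ := cmap x⁻¹ T with hT₀
  have hEdge : Cfsg.edgeStabilizer δ μ = cmap x (M₁ ⊓ M₂) := by
    show MulAction.stabilizer X δ ⊓ MulAction.stabilizer X μ = _
    rcases hx with ⟨a, b⟩ | ⟨a, b⟩
    · rw [a, b]; exact (Subgroup.map_inf _ _ _ (MulAut.conj x).injective).symm
    · rw [a, b, inf_comm]; exact (Subgroup.map_inf _ _ _ (MulAut.conj x).injective).symm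
  have hTT₀ : cmap x T₀ = T := cmap_cmap_inv x T
  have hT₀le : T₀ ≤ M₁ ⊓ M₂ := by
    rw [hT₀, ← cmap_inv_cmap x (M₁ ⊓ M₂), ← hEdge]
    exact cmap_mono (map_subtype_le _)
  have hfin : Finite ↥(Cfsg.edgeStabilizer δ μ) :=
    Finite.of_injective _ (inclusion_injective (inf_le_left : Cfsg.edgeStabilizer δ μ ≤ MulAction.stabilizer X δ))
  have hi : ¬ p ∣ (T₀.subgroupOf (M₁ ⊓ M₂)).index := by
    show ¬ p ∣ T₀.relIndex (M₁ ⊓ M₂)
    rw [← relIndex_map_map_of_injective T₀ (M₁ ⊓ M₂) (f := (MulAut.conj x).toMonoidHom) (MulAut.conj x).injective]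
    show ¬ p ∣ (cmap x T₀).relIndex (cmap x (M₁ ⊓ M₂))
    rw [hTT₀, ← hEdge, hT, relIndex, subgroupOf,
      comap_map_eq_self_of_injective (Cfsg.edgeStabilizer δ μ).subtype_injective]
    exact S.not_dvd_index
  have hp₀ : IsPGroup p T₀ := (S.isPGroup'.map _ : IsPGroup p T).map _
  have hf : Finite ↥(M₁ ⊓ M₂) := by
    have := hcp.2.1
    exact Finite.of_injective _ (inclusion_injective (inf_le_left : M₁ ⊓ M₂ ≤ M₁))
  have h0 := (hN ((hp₀.comap_subtype).toSylow hi)).1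
  have e0 : ((hp₀.comap_subtype).toSylow hi : Subgroup ↥(M₁ ⊓ M₂)).map (M₁ ⊓ M₂).subtype = T₀ := by
    show (T₀.subgroupOf _).map _ = _
    rw [subgroupOf_map_subtype, inf_eq_left.mpr hT₀le]
  rw [e0] at h0
  have h1 : cmap x M₁ ⊓ normalizer (T : Set X) = cmap x M₂ ⊓ normalizer (T : Set X) := by
    rw [← hTT₀, normalizer_cmap]
    show M₁.map _ ⊓ (normalizer (T₀ : Set X)).map _ = M₂.map _ ⊓ (normalizer (T₀ : Set X)).map _
    rw [← Subgroup.map_inf _ _ _ (MulAut.conj x).injective, ← Subgroup.map_inf _ _ _ (MulAut.conj x).injective, h0]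
  rcases hx with ⟨a, b⟩ | ⟨a, b⟩
  · rw [a, h1, b]; exact inf_le_left
  · rw [b, ← h1, a]; exact inf_le_left

/-- `O^p(O^{p'}(G_δ))` is transitive on the neighbours. -/
theorem exists_res_smul_eq (h : Cfsg.IsSpeAmalgamPair p M₁ M₂) {δ μ μ' : Cfsg.CosetVertex M₁ M₂}
    (hμ : (Γ).Adj δ μ) (hμ' : (Γ).Adj δ μ') :
    ∃ r ∈ resOf p (Cfsg.pElementClosure p (MulAction.stabilizer X δ)), r • μ = μ' := by
  have := finite_stabilizer h.1 δ
  obtain ⟨P, -, S, hP, -⟩ := exists_sylow_pair h.1 hμ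
  revert P
  set H := MulAction.stabilizer X δ with hH
  intro P hP
  set L := Cfsg.pElementClosure p H with hL
  haveI : Finite L := Finite.of_injective _ (inclusion_injective (pElementClosure_le p H))
  obtain ⟨g, hg, rfl⟩ := exists_stabilizer_smul_eq hμ hμ'
  have hsup := le_pElementClosure_sup_normalizer P hg
  have hn : H ⊓ normalizer (((P : Subgroup H).map H.subtype : Subgroup X) : Set X) ≤ normalizer (L : Set X) :=
    inf_le_left.trans (le_normalizer_pElementClosure p H)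
  have hsup' : g ∈ ((L ⊔ (H ⊓ normalizer (((P : Subgroup H).map H.subtype : Subgroup X) : Set X)) : Subgroup X) : Set X) := hsup
  rw [coe_mul_of_right_le_normalizer_left _ _ hn] at hsup'
  obtain ⟨l, hl, m, hm, rfl⟩ := hsup'
  have hmμ : m • μ = μ := by
    rw [SetLike.mem_coe, hP] at hm
    exact spe_normalizer_le h hμ S hm
  -- split `l`
  set T := (P : Subgroup H).map H.subtype with hT
  have hTL : T ≤ L := le_pElementClosure (P.isPGroup'.map _) (map_subtype_le _)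
  obtain ⟨Q, hQ⟩ := ((P.isPGroup'.map H.subtype).comap_of_injective L.subtype L.subtype_injective).exists_le_sylow
  have hQT : (Q : Subgroup L).map L.subtype ≤ T := by
    have h1 : (P : Subgroup H) ≤ ((Q : Subgroup L).map L.subtype).subgroupOf H := fun x hx =>
      ⟨⟨x, hTL ⟨x, hx, rfl⟩⟩, hQ ⟨x, hx, rfl⟩, rfl⟩
    have h2 := P.3 ((Q.isPGroup'.map L.subtype).comap_subtype) h1
    intro y hy
    exact ⟨⟨y, pElementClosure_le p H ((map_subtype_le _) hy)⟩, h2 ▸ hy, rfl⟩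
  have hl' : (⟨l, hl⟩ : L) ∈ (((Q : Subgroup L) ⊔ Cfsg.pResidual p L : Subgroup L) : Set L) :=
    (Fusion.sylow_sup_pResidual Q).ge (mem_top _)
  haveI := Fusion.pResidual_characteristic (p := p) (G := L)
  rw [Subgroup.mul_normal] at hl'
  obtain ⟨t, ht, r, hr, htr⟩ := hl'
  refine ⟨(t : X) * r * (t : X)⁻¹, ?_, ?_⟩
  · exact ⟨t * r * t⁻¹, (normal_of_characteristic (Cfsg.pResidual p L)).conj_mem r hr t, rfl⟩
  · have htμ : (t : X) • μ = μ := by
      have : (t : X) ∈ Cfsg.edgeStabilizer δ μ := by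
        have h1 : (t : X) ∈ T := hQT ⟨t, ht, rfl⟩
        have h2 : T = (S : Subgroup (Cfsg.edgeStabilizer δ μ)).map (Cfsg.edgeStabilizer δ μ).subtype := hP
        exact map_subtype_le _ (h2 ▸ h1)
      exact this.2
    have e : (t : X) * r = l := congrArg Subtype.val htr
    show _ = (l * m) • μ
    rw [show l * m = (t : X) * r * (t : X)⁻¹ * ((t : X) * m) by rw [← e]; group, mul_smul _ ((t : X) * m), mul_smul (t : X), hmμ, htμ]

/-- A subgroup of a finite `p`-group covered by a normalized subgroup and its commutator with the group. -/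
theorem le_of_le_sup_commutator {V A Q : Subgroup X} [Finite Q] (hQ : IsPGroup p Q) (hVQ : V ≤ Q) (hAV : A ≤ V)
    (hQA : Q ≤ normalizer (A : Set X)) (h : V ≤ A ⊔ ⁅V, Q⁆) : V ≤ A := by
  haveI : (A.subgroupOf Q).Normal := normal_subgroupOf_of_le_normalizer hQA
  set f := QuotientGroup.mk' (A.subgroupOf Q) with hf
  set W := (V.subgroupOf Q).map f with hW
  have hWW : W ≤ ⁅W, (⊤ : Subgroup (Q ⧸ A.subgroupOf Q))⁆ := by
    have h1 : V.subgroupOf Q ≤ A.subgroupOf Q ⊔ ⁅V.subgroupOf Q, (⊤ : Subgroup Q)⁆ := by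
      rw [← map_le_map_iff_of_injective Q.subtype_injective, Subgroup.map_sup, map_commutator, map_subgroupOf_eq_of_le hVQ,
        map_subgroupOf_eq_of_le (hAV.trans hVQ), ← MonoidHom.range_eq_map, range_subtype]
      exact h
    refine (map_mono h1).trans ?_
    rw [Subgroup.map_sup, map_commutator, hf, QuotientGroup.map_mk'_self, bot_sup_eq,
      map_top_of_surjective _ (QuotientGroup.mk'_surjective _)]
  haveI := hQ.isNilpotent
  haveI : Group.IsNilpotent (Q ⧸ A.subgroupOf Q) := inferInstance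
  obtain ⟨n, hn⟩ := _root_.nilpotent_iff_lowerCentralSeries.mp (inferInstance : Group.IsNilpotent (Q ⧸ A.subgroupOf Q))
  have hk : ∀ k, W ≤ (⊤ : Subgroup (Q ⧸ A.subgroupOf Q)).lowerCentralSeries k := fun k => by
    induction k with
    | zero => simp
    | succ k ih => exact hWW.trans (commutator_mono ih le_rfl)
  have h0 : W = ⊥ := le_bot_iff.mp (hn ▸ hk n)
  rw [hW, Subgroup.map_eq_bot_iff, hf, QuotientGroup.ker_mk'] at h0
  exact fun v hv => h0 (show (⟨v, hVQ hv⟩ : Q) ∈ V.subgroupOf Q from hv)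

theorem vertexZ_ne_bot (h : Cfsg.IsCharPAmalgamPair p M₁ M₂) (δ : Cfsg.CosetVertex M₁ M₂) :
    Cfsg.vertexZ p δ ≠ ⊥ := by
  have := finite_stabilizer h δ
  obtain ⟨-, -, -, hd₁, hd₂, -, -, -⟩ := h
  have hdvd : p ∣ Nat.card (MulAction.stabilizer X δ) := by
    rcases δ with v | v <;> induction v using QuotientGroup.induction_on with
    | H g =>
      first
      | (rw [stabilizer_inl, cmap, card_map_of_injective (MulAut.conj g).injective]; exact hd₁)
      | (rw [stabilizer_inr, cmap, card_map_of_injective (MulAut.conj g).injective]; exact hd₂)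
  obtain ⟨P⟩ : Nonempty (Sylow p (MulAction.stabilizer X δ)) := inferInstance
  have hP : (P : Subgroup (MulAction.stabilizer X δ)) ≠ ⊥ := P.ne_bot_of_dvd_card hdvd
  haveI : Nontrivial (P : Subgroup (MulAction.stabilizer X δ)) := (nontrivial_iff_ne_bot _).mpr hP
  haveI := P.isPGroup'.center_nontrivial
  obtain ⟨k, hk⟩ := IsPGroup.iff_card.mp (P.isPGroup'.to_subgroup (center (P : Subgroup (MulAction.stabilizer X δ))))
  have hk0 : k ≠ 0 := fun e => by
    rw [e, pow_zero] at hk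
    exact (one_lt_card_iff_ne_bot _).mpr ((nontrivial_iff_ne_bot _).mp ‹_›) |>.ne' hk
  obtain ⟨z, hz⟩ := exists_prime_orderOf_dvd_card' (G := center (P : Subgroup (MulAction.stabilizer X δ))) p
    (hk ▸ dvd_pow_self p hk0)
  intro hbot
  have hmem : (((z : (P : Subgroup (MulAction.stabilizer X δ))) : MulAction.stabilizer X δ) : X) ∈ Cfsg.vertexZ p δ := by
    refine le_iSup (fun S : Sylow p (MulAction.stabilizer X δ) => Cfsg.omegaOne p
      ((S : Subgroup (MulAction.stabilizer X δ)).map (MulAction.stabilizer X δ).subtype ⊓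
        centralizer (((S : Subgroup (MulAction.stabilizer X δ)).map (MulAction.stabilizer X δ).subtype : Subgroup X) : Set X))) P ?_
    refine subset_closure ⟨⟨⟨_, (z : (P : Subgroup (MulAction.stabilizer X δ))).2, rfl⟩, ?_⟩, ?_⟩
    · refine mem_centralizer_iff.mpr ?_
      rintro _ ⟨y, hy, rfl⟩
      exact congrArg (fun w : (P : Subgroup (MulAction.stabilizer X δ)) => ((w : MulAction.stabilizer X δ) : X)) (mem_center_iff.mp z.2 ⟨y, hy⟩)
    · have : z ^ p = 1 := orderOf_dvd_iff_pow_eq_one.mp hz.dvd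
      exact_mod_cast congrArg (fun w : center (P : Subgroup (MulAction.stabilizer X δ)) => (((w : (P : Subgroup (MulAction.stabilizer X δ))) : MulAction.stabilizer X δ) : X)) this
  rw [hbot, mem_bot] at hmem
  have h1 : z = 1 := Subtype.ext (Subtype.ext (Subtype.ext hmem))
  rw [h1, orderOf_one] at hz
  exact hp.out.ne_one hz.symm

/-- The common end of both arguments. -/
theorem vertexVIter_false (h : Cfsg.IsCharPAmalgamPair p M₁ M₂) {δ μ : Cfsg.CosetVertex M₁ M₂} (hμ : (Γ).Adj δ μ)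
    (n m : ℕ) (hQ : Cfsg.vertexVIter p M₁ M₂ n δ ≤ Cfsg.vertexQ p δ)
    (he : Cfsg.vertexVIter p M₁ M₂ n δ = Cfsg.vertexVIter p M₁ M₂ m μ) : False := by
  refine vertexZ_ne_bot h δ (le_bot_iff.mp ((vertexZ_le_vertexVIter n δ).trans (le_of_eq
    (eq_bot_of_normalized h.1 hμ (hQ.trans ((vertexQ_le_neighbourKernel h δ).trans (le_inf inf_le_left (inf_le_right.trans (iInf₂_le μ hμ))))) ?_))))
  rw [← stabilizer_sup_eq_top h.1.1 hμ]
  exact sup_le (stabilizer_le_normalizer_vertexVIter h n δ) (he ▸ stabilizer_le_normalizer_vertexVIter h m μ)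

/-- `V_δ^{(m+1)}` is covered by one neighbour and the commutator with `O^p`. -/
theorem vertexVIter_le_sup (h : Cfsg.IsSpeAmalgamPair p M₁ M₂) {δ μ : Cfsg.CosetVertex M₁ M₂} (hμ : (Γ).Adj δ μ)
    (m : ℕ) {D : Subgroup X}
    (hD : ⁅Cfsg.vertexVIter p M₁ M₂ (m + 1) δ, resOf p (Cfsg.pElementClosure p (MulAction.stabilizer X δ))⁆ ≤ D) :
    Cfsg.vertexVIter p M₁ M₂ (m + 1) δ ≤ Cfsg.vertexVIter p M₁ M₂ m μ ⊔ D := by
  refine (vertexVIter_succ_le h.1 m δ).trans (iSup_le fun μ' => ?_)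
  obtain ⟨r, hr, hrμ⟩ := exists_res_smul_eq h hμ μ'.2
  have hrμ' : r⁻¹ • (μ'.1) = μ := by rw [← hrμ, inv_smul_smul]
  intro a ha
  have hb : r⁻¹ * a * r ∈ Cfsg.vertexVIter p M₁ M₂ m μ := by
    rw [← hrμ']
    exact cmap_vertexVIter_le h.1 r⁻¹ m μ'.1 ⟨a, ha, by simp⟩
  have hbV := vertexVIter_le_of_adj h.1 hμ m hb
  have hc : ⁅r⁻¹ * a * r, r⁆ ∈ D := hD (commutator_mem_commutator hbV hr)
  have e : a = ⁅r⁻¹ * a * r, r⁆⁻¹ * (r⁻¹ * a * r) := by rw [commutatorElement_def]; group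
  rw [e]
  exact mul_mem (mem_sup_right (inv_mem hc)) (mem_sup_left hb)

end Cfsg.Agent.LocalStructure
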