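import Mathlib
import Cfsg.Agent.LocalStructure.WeaklyClosed
import Cfsg.Agent.LocalStructure.CharP

/-!
# Weakly closed self-centralizing subgroups and `C(O_p(L))`
-/

set_option autoImplicit false
set_option linter.all false

namespace Cfsg.Agent.LocalStructure

open Subgroup
open scoped commutatorElement

variable {H : Type*} [Group H] [Finite H] {p : ℕ} [hp : Fact p.Prime]

theorem wc_centralizer_pCoreOf {Q : Subgroup H} (hQp : IsPGroup p Q)
    (hwc : Cfsg.IsWeaklyClosedSubgroup p Q) (hCQ : centralizer (Q : Set H) ≤ Q)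
    {L : Subgroup H} (hQL : Q ≤ L) {W : Subgroup H} (hWp : IsPGroup p W)
    (hQW : Q ≤ normalizer (W : Set H))
    (hCW : centralizer (Cfsg.pCoreOf p L : Set H) ≤ normalizer (W : Set H))
    (hself : centralizer (Cfsg.pCoreOf p L : Set H) ⊓ centralizer (W : Set H) ≤ W)
    (hWL : W ⊓ L ≤ Cfsg.pCoreOf p L) :
    ⁅Q, centralizer (Cfsg.pCoreOf p L : Set H)⁆ ≤ Q ⊓ Cfsg.pCoreOf p L ∧
      IsPGroup p (centralizer (Cfsg.pCoreOf p L : Set H)) ∧
      L ⊓ centralizer (Cfsg.pCoreOf p L : Set H) ≤ Cfsg.pCoreOf p L := by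
  set P : Subgroup H := Cfsg.pCoreOf p L with hP
  set C : Subgroup H := centralizer (P : Set H) with hC
  have hLC : L ≤ normalizer (C : Set H) :=
    Coprime.le_normalizer_centralizer (le_normalizer_pCoreOf L)
  have hQC : Q ≤ normalizer (C : Set H) := hQL.trans hLC
  -- `[W, Q] ≤ P`
  have hWQ : IsPGroup p (W ⊔ Q : Subgroup H) := hWp.to_sup_of_normal_left' hQp hQW
  have hWN : W ≤ normalizer (Q : Set H) :=
    le_sup_left.trans (wc_le_normalizer hwc hWQ le_sup_right)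
  set Z : Subgroup H := ⁅Q, W⁆ with hZ
  have hZP : Z ≤ P := le_trans (le_inf (Subgroup.le_normalizer_iff_commutator_le_right.mp hQW)
    ((Subgroup.le_normalizer_iff_commutator_le_left.mp hWN).trans hQL)) hWL
  have hZW : Z ≤ W := Subgroup.le_normalizer_iff_commutator_le_right.mp hQW
  have hCZ : ∀ c ∈ C, ∀ z ∈ Z, c * z * c⁻¹ = z := fun c hc z hz => by
    rw [← mem_centralizer_iff.mp hc z (hZP hz), mul_assoc, mul_inv_cancel, mul_one]
  have hQZ : Q ≤ normalizer (Z : Set H) := normalizer_commutator_ge_left Q W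
  let E : Subgroup H :=
    { carrier := {h | (h ∈ normalizer (Z : Set H) ∧ h ∈ normalizer (W : Set H)) ∧ ∀ w ∈ W, ⁅h, w⁆ ∈ Z}
      mul_mem' := by
        rintro a b ⟨⟨ha, ha'⟩, ha''⟩ ⟨⟨hb, hb'⟩, hb''⟩
        refine ⟨⟨mul_mem ha hb, mul_mem ha' hb'⟩, fun w hw => ?_⟩
        rw [show ⁅a * b, w⁆ = a * ⁅b, w⁆ * a⁻¹ * ⁅a, w⁆ by simp only [commutatorElement_def]; group]
        exact Z.mul_mem ((mem_normalizer_iff.mp ha _).mp (hb'' w hw)) (ha'' w hw)
      one_mem' := ⟨⟨one_mem _, one_mem _⟩, fun w _ => by rw [commutatorElement_one_left]; exact Z.one_mem⟩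
      inv_mem' := by
        rintro a ⟨⟨ha, ha'⟩, ha''⟩
        refine ⟨⟨inv_mem ha, inv_mem ha'⟩, fun w hw => ?_⟩
        have h1 := inv_mem (ha'' w hw)
        have h2 := (mem_normalizer_iff.mp (inv_mem ha) _).mp h1
        rw [show ⁅a⁻¹, w⁆ = a⁻¹ * (⁅a, w⁆⁻¹) * a⁻¹⁻¹ by simp only [commutatorElement_def]; group]
        exact h2 }
  have hgenE : ⁅C, Q⁆ ≤ E := by
    rw [commutator_le]
    intro c hc q hq
    have hcZ : c ∈ normalizer (Z : Set H) := Layer.mem_normalizer_of_conj_mem fun z hz => by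
      rw [hCZ c hc z hz]; exact hz
    have h1 : c * q * c⁻¹ ∈ E := by
      refine ⟨⟨mul_mem (mul_mem hcZ (hQZ hq)) (inv_mem hcZ),
        mul_mem (mul_mem (hCW hc) (hQW hq)) (inv_mem (hCW hc))⟩, fun w hw => ?_⟩
      have hw' : c⁻¹ * w * c ∈ W := by
        simpa using (mem_normalizer_iff.mp (inv_mem (hCW hc)) w).mp hw
      have h3 : ⁅q, c⁻¹ * w * c⁆ ∈ Z := commutator_mem_commutator hq hw'
      rw [show ⁅c * q * c⁻¹, w⁆ = c * ⁅q, c⁻¹ * w * c⁆ * c⁻¹ by simp only [commutatorElement_def]; group,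
        hCZ c hc _ h3]
      exact h3
    have h2 : q ∈ E := ⟨⟨hQZ hq, hQW hq⟩, fun w hw => commutator_mem_commutator hq hw⟩
    rw [show ⁅c, q⁆ = c * q * c⁻¹ * q⁻¹ from rfl]
    exact E.mul_mem h1 (E.inv_mem h2)
  have hRC : ⁅C, Q⁆ ≤ C := Subgroup.le_normalizer_iff_commutator_le_left.mp hQC
  have hRp : IsPGroup p (⁅C, Q⁆ : Subgroup H) := by
    refine isPGroup_of_forall_coprime fun x hx hxc => ?_
    obtain ⟨⟨-, hxW⟩, hxE⟩ := hgenE hx
    have hxC := hRC hx
    have h1 : x ∈ centralizer (W : Set H) := by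
      refine commute_of_double_commutator hWp hxW hxc fun v hv => ?_
      exact (mem_centralizer_iff.mp hxC _ (hZP (hxE v hv))).symm
    exact Subgroup.mem_bot.mp (coprime_mem_centralizer_of_isPGroup hWp (hself ⟨hxC, h1⟩) hxc)
  have hQR : IsPGroup p (⁅C, Q⁆ ⊔ Q : Subgroup H) :=
    hRp.to_sup_of_normal_left' hQp (normalizer_commutator_ge_right C Q)
  have hCN : C ≤ normalizer (Q : Set H) := by
    refine le_trans (fun c hc => ?_) (wc_normalizer_le hwc hQR le_sup_right)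
    refine Layer.mem_normalizer_of_conj_mem fun x hx => ?_
    suffices ⁅C, Q⁆ ⊔ Q ≤ (⁅C, Q⁆ ⊔ Q).comap (MulAut.conj c).toMonoidHom from this hx
    refine sup_le (fun z hz => Subgroup.mem_comap.mpr (mem_sup_left
      ((mem_normalizer_iff.mp (normalizer_commutator_ge_left C Q hc) z).mp hz))) fun q hq => ?_
    show c * q * c⁻¹ ∈ ⁅C, Q⁆ ⊔ Q
    rw [show c * q * c⁻¹ = ⁅c, q⁆ * q by simp only [commutatorElement_def]; group]
    exact mul_mem_sup (commutator_mem_commutator hc hq) hq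
  -- `Q ∩ C ≤ P`
  have hQCP : Q ⊓ C ≤ P := by
    refine le_pCoreOf (inf_le_left.trans hQL) ?_ (hQp.to_le inf_le_left)
    refine IsSubnormal.trans (K := (C ⊓ L).subgroupOf L) (fun x hx => ⟨hx.2, x.2⟩) ?_
      (Subgroup.Normal.isSubnormal (normal_subgroupOf_of_le_normalizer
        (Coprime.le_normalizer_inf hLC Subgroup.le_normalizer)))
    refine Subgroup.Normal.isSubnormal (normal_subgroupOf_of_le_normalizer fun x hx => ?_)
    have hx' : (x : H) ∈ normalizer ((Q ⊓ C : Subgroup H) : Set H) :=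
      (Coprime.le_normalizer_inf hCN Subgroup.le_normalizer : C ≤ _) hx.1
    rw [mem_normalizer_iff]
    intro y
    exact mem_normalizer_iff.mp hx' (y : H)
  have h1 : ⁅Q, C⁆ ≤ Q ⊓ P := by
    have h2 : ⁅Q, C⁆ ≤ Q := Subgroup.le_normalizer_iff_commutator_le_left.mp hCN
    have h3 : ⁅Q, C⁆ ≤ C := (commutator_comm_le _ _).trans hRC
    exact le_inf h2 ((le_inf h2 h3).trans hQCP)
  have h2 : IsPGroup p C := by
    refine isPGroup_of_forall_coprime fun x hx hxc => ?_
    have h3 : x ∈ centralizer (Q : Set H) := by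
      refine commute_of_double_commutator hQp (hCN hx) hxc fun v hv => ?_
      have hm : ⁅v, x⁆⁻¹ ∈ P := inv_mem (h1 (commutator_mem_commutator hv hx)).2
      rw [commutatorElement_inv] at hm
      exact (mem_centralizer_iff.mp hx _ hm).symm
    exact Subgroup.mem_bot.mp (coprime_mem_centralizer_of_isPGroup hQp (hCQ h3) hxc)
  exact ⟨h1, h2, le_pCoreOf_of_normal inf_le_left (Coprime.le_normalizer_inf Subgroup.le_normalizer hLC)
    (h2.to_le inf_le_right)⟩

end Cfsg.Agent.LocalStructure
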